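import Cfsg.Agent.Lib.HalfPSL.Main
import Cfsg.Agent.Lib.PSubTwo.Center

/-!
# Faithful characters of degree less than `p - 1`: the local structure

A Sylow subgroup of order `p` that is not normal is centralised by itself and the centre only, and
`x` has simple eigenvalues, either an orbit of size `e` of the exponents or all others.
-/

set_option autoImplicit false
set_option linter.unusedSectionVars false
set_option linter.style.haveILetI false

noncomputable section

namespace CfsgLib.LinSmall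

open Cfsg CfsgLib.Characters CfsgLib.PrimeDefect CfsgLib.SelfCentralPrime
open scoped ComplexConjugate

universe u

variable {G : Type u} [Group G] {p : ℕ} [hp : Fact p.Prime] {x : G}

/-- An eigenbasis of `x` with exponents whose numbers are the Fourier coefficients. -/
theorem exists_exponents [Finite G] (hx : orderOf x = p) {n : ℕ}
    (ρ : Representation ℂ G (Fin n → ℂ)) :
    ∃ (b : Module.Basis (Fin (Module.finrank ℂ (Fin n → ℂ))) ℂ (Fin n → ℂ))
      (j : Fin (Module.finrank ℂ (Fin n → ℂ)) → ZMod p),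
      (∀ l, ρ x (b l) = ZMod.stdAddChar (j l) • b l) ∧
      ∀ a, (p : ℂ) * ((Finset.univ.filter fun l => j l = a).card : ℂ) =
        ∑ i : ZMod p, ρ.character (pw x i) * ZMod.stdAddChar (i * -a) := by
  classical
  haveI := Fintype.ofFinite G
  obtain ⟨b, ω, hω, hb⟩ := exists_eigenbasis ρ x
  have hex : ∀ l, ∃ i : ZMod p, ω l = ZMod.stdAddChar i := by
    intro l
    have hprim := Complex.isPrimitiveRoot_exp p hp.out.ne_zero
    obtain ⟨i, -, hi⟩ := hprim.eq_pow_of_pow_eq_one (hx ▸ hω l)
    refine ⟨((i : ℤ) : ZMod p), ?_⟩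
    rw [ZMod.stdAddChar_coe, ← hi, ← Complex.exp_nat_mul]
    congr 1
    push_cast
    ring
  choose j hj using hex
  have hb' : ∀ l, ρ x (b l) = ZMod.stdAddChar (j l) • b l := fun l => by rw [← hj]; exact hb l
  refine ⟨b, j, hb', fun a => ?_⟩
  have hv : ∀ i : ZMod p, ρ.character (pw x i) = ∑ l, ZMod.stdAddChar (i * j l) := fun i =>
    character_eq_sum_of_eigenbasis ρ _ b _ (rho_pw hx ρ b j hb' i)
  simp only [hv, Finset.sum_mul, ← AddChar.map_add_eq_mul, ← mul_add]
  rw [Finset.sum_comm]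
  simp only [sum_std, add_neg_eq_zero]
  rw [← Finset.sum_filter, Finset.sum_const, nsmul_eq_mul, mul_comm]

variable [Fintype G]

open scoped Classical in
/-- **Local structure** for a faithful irreducible character of degree less than `p - 1`. -/
theorem local_structure (hx : orderOf x = p) (hsq : ¬ p ^ 2 ∣ Nat.card G)
    (hnn : ∀ H : Subgroup G, H.Normal → Nat.card H ≠ p) (χ : IrrCharacter G)
    (hfaith : ∀ g : G, (χ : G → ℂ) g = (χ : G → ℂ) 1 → g = 1)
    (hlt : charDegree (χ : G → ℂ) + 1 < p) :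
    ∃ (D : Data p x (Subgroup.centralizer ({x} : Set G)) (Subgroup.center G)) (e : ℕ),
      Nat.card D.muHom.range = e ∧ 2 ≤ e ∧ 2 * e ≤ p - 1 ∧ e ∣ p - 1 ∧
      ∃ xm : ZMod p → ℕ, (∀ a, xm a ≤ 1) ∧
        (∀ a, (p : ℂ) * (xm a : ℂ) =
          ∑ i : ZMod p, (χ : G → ℂ) (pw x i) * ZMod.stdAddChar (i * -a)) ∧
        ((charDegree (χ : G → ℂ) = e ∧ xm 0 = 0) ∨ (charDegree (χ : G → ℂ) + e = p ∧ xm 0 = 1)) := by
  classical
  obtain ⟨M, hM⟩ := CfsgLib.KGV.exists_isPModular p hp.out
  obtain ⟨V, D⟩ := exists_data hx hsq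
  haveI := Fintype.ofFinite (Subgroup.centralizer ({x} : Set G))
  haveI := Fintype.ofFinite V
  have hx1 : x ≠ 1 := fun h => hp.out.ne_one (by rw [← hx, h, orderOf_one])
  have hxc : x ∉ Subgroup.center G := fun h => hnn (Subgroup.zpowers x)
    ⟨fun b hb g => by
      rwa [Subgroup.mem_center_iff.1 (Subgroup.zpowers_le.2 h hb) g, mul_inv_cancel_right]⟩
    (by rw [Nat.card_zpowers, hx])
  set d := charDegree (χ : G → ℂ)
  have hdpos : 0 < d := Chars17.irrDegree_pos χ
  set B := blockOf M (χ : G → ℂ)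
  have hB : IsPBlock M B := Blocks.isPBlock_blockOf χ
  have hχB : χ ∈ B := Blocks.mem_blockOf_self hM χ
  have hbd : 0 < blockDefect p B := by
    rw [blockDefect, D.factorization_card_eq, Nat.sub_pos_iff_lt]
    refine lt_of_le_of_lt (Nat.sInf_le ⟨χ, hχB, rfl⟩) ?_
    dsimp only
    rw [Nat.factorization_eq_zero_of_not_dvd (fun h => by have := Nat.le_of_dvd hdpos h; omega)]
    exact one_pos
  obtain ⟨β, hβ⟩ := D.exists_hits_of_defect hM hB hbd
  obtain ⟨F⟩ := D.exists_family hM hB hbd hβ
  set b := charDegree (β : V → ℂ)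
  have hb : 0 < b := Chars17.irrDegree_pos β
  set S := ∑ i : ZMod p, D.mult χ i β
  set Hs := Finset.univ.filter fun γ : IrrCharacter V => D.Hits M B γ
  have hβH : β ∈ Hs := Finset.mem_filter.2 ⟨Finset.mem_univ _, hβ⟩
  have hdegeq : d = ∑ γ : IrrCharacter V, (∑ i : ZMod p, D.mult χ i γ) * charDegree (γ : V → ℂ) := by
    have h := D.degree_eq χ
    rw [← Chars17.cast_irrDegree] at h
    simp only [← Chars17.cast_irrDegree, ← Finset.sum_mul] at h
    exact_mod_cast h
  have hother : ∀ γ, γ ∉ Hs → ∀ i, D.mult χ i γ = 0 := by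
    intro γ hγ i
    have hconst : ∀ j, D.mult χ j γ = D.mult χ i γ := by
      intro j
      have h : (p : ℂ) * ((D.mult χ j γ : ℂ) - D.mult χ i γ) = 0 := by
        rw [D.mult_sub]
        exact Finset.sum_eq_zero fun l hl => by
          rw [D.coef_eq_zero hM hB hχB (Finset.mem_erase.1 hl).1
            (fun h => hγ (Finset.mem_filter.2 ⟨Finset.mem_univ _, h⟩)), zero_mul]
      exact_mod_cast sub_eq_zero.1 ((mul_eq_zero.1 h).resolve_left
        (Nat.cast_ne_zero.2 hp.out.ne_zero))
    have hle : (∑ j : ZMod p, D.mult χ j γ) * charDegree (γ : V → ℂ) ≤ d := by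
      rw [hdegeq]
      exact Finset.single_le_sum
        (f := fun γ : IrrCharacter V => (∑ j : ZMod p, D.mult χ j γ) * charDegree (γ : V → ℂ))
        (fun _ _ => Nat.zero_le _) (Finset.mem_univ γ)
    simp only [hconst, Finset.sum_const, Finset.card_univ, ZMod.card, smul_eq_mul] at hle
    by_contra h0
    have h1 := Nat.le_mul_of_pos_right p (Nat.pos_of_ne_zero h0)
    have h2 := Nat.le_mul_of_pos_right (p * D.mult χ i γ) (Chars17.irrDegree_pos γ)
    omega
  have hhit : ∀ γ ∈ Hs, (∑ i : ZMod p, D.mult χ i γ) * charDegree (γ : V → ℂ) = S * b := by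
    intro γ hγ
    obtain ⟨n, rfl⟩ := D.exists_cj_of_hits hM hβ (Finset.mem_filter.1 hγ).2
    congr 1
    · simp only [D.mult_cj]
      exact Fintype.sum_equiv (Units.mulLeft (D.mu n)⁻¹) _ _ fun _ => rfl
    · simp only [b, charDegree, D.cj_one_apply]
  have hd : d = Hs.card * (S * b) := by
    rw [hdegeq, ← Finset.sum_subset (Finset.subset_univ Hs) fun γ _ hγ => by simp [hother γ hγ],
      Finset.sum_congr rfl hhit, Finset.sum_const, smul_eq_mul]
  set E := Nat.card D.muHom.range
  set e := Nat.card (D.expH β)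
  have hhe : Hs.card * e = E := D.card_hits_mul_expH hM hβ
  have hEp : E ∣ p - 1 := D.card_units ▸ Subgroup.card_subgroup_dvd_card _
  have hE1 : E ≠ 1 := by
    intro h1
    have hcomm : ∀ g ∈ nrm x, Commute g x := by
      intro g hg
      rw [← D.mem_C_iff]
      refine (D.mu_eq_one_iff ⟨g, hg⟩).1 ?_
      exact Subgroup.mem_bot.1 ((Subgroup.card_eq_one.1 h1).le ⟨⟨g, hg⟩, rfl⟩)
    exact hxc (PSubTwo.mem_center_of_norm χ hfaith (norm_value_eq hx hsq hcomm χ (by omega)))
  have hp1 : 1 ≤ p := hp.out.one_le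
  have hE0 : 0 < E := Nat.card_pos
  have he0 : 0 < e := Nat.card_pos
  have hHs0 : 0 < Hs.card := Finset.card_pos.2 ⟨β, hβH⟩
  -- `x` is not in the kernel
  have hnk : ∃ (i : ZMod p) (γ : IrrCharacter V), i ≠ 0 ∧ D.mult χ i γ ≠ 0 := by
    by_contra hall
    push Not at hall
    have h0 : ∀ i γ, i ≠ 0 → D.mult χ i γ = 0 := fun i γ hi => hall i γ hi
    refine hx1 (hfaith x ?_)
    have h1 := D.value_eq χ 1 1
    have h2 := D.value_eq χ 0 1
    rw [OneMemClass.coe_one, mul_one, pw_one] at h1
    rw [OneMemClass.coe_one, mul_one, D.pw_zero] at h2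
    rw [h1, h2]
    refine Finset.sum_congr rfl fun γ _ => ?_
    congr 1
    refine Finset.sum_congr rfl fun i _ => ?_
    by_cases hi : i = 0
    · rw [hi, mul_zero, mul_zero]
    · rw [h0 i γ hi]; simp
  obtain ⟨i0, γ0, hi0, hne0⟩ := hnk
  have hγ0 : γ0 ∈ Hs := by_contra fun h => hne0 (hother γ0 h i0)
  obtain ⟨u0, hu0⟩ : ∃ u : (ZMod p)ˣ, D.mult χ (u : ZMod p) β ≠ 0 := by
    obtain ⟨n, rfl⟩ := D.exists_cj_of_hits hM hβ (Finset.mem_filter.1 hγ0).2
    rw [D.mult_cj] at hne0
    exact ⟨(D.mu n)⁻¹ * Units.mk0 i0 hi0, by rw [Units.val_mul, Units.val_mk0]; exact hne0⟩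
  have hSb : S * (Hs.card * b) = d := by rw [hd]; ring
  have hhb : 0 < Hs.card * b := Nat.mul_pos hHs0 hb
  have hSd : S ≤ d := hSb ▸ Nat.le_mul_of_pos_right S hhb
  obtain ⟨q, hq⟩ : ∃ q, F.θ q = χ := by
    rcases (F.mem_iff χ).1 hχB with hX | h
    · exfalso
      have h1 := F.sum_mult_X hX
      have h2 := F.mult_X χ hX u0
      have h3 : 1 ≤ (D.mult χ (u0 : ZMod p) β : ℤ) := by
        exact_mod_cast Nat.one_le_iff_ne_zero.2 hu0
      have h4 : (p : ℤ) - 1 ≤ S := by
        push_cast [S]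
        rw [h1]
        rcases F.sign_spec χ hX with hs | hs <;> rw [hs] at h2 ⊢ <;> nlinarith
      omega
    · exact h
  have h1 : (S : ℤ) = p * (D.mult χ 0 β : ℤ) + F.ε * e := by
    have := F.sum_mult_θ q
    rw [hq] at this
    push_cast [S]
    exact this
  set m0 := D.mult χ 0 β with hm0def
  have hep : e ∣ p - 1 := (hhe ▸ dvd_mul_left e Hs.card : e ∣ E).trans hEp
  have hproper : ∀ k : ℕ, k ∣ p - 1 → k ≠ p - 1 → 2 * k ≤ p - 1 := by
    rintro k ⟨c, hc⟩ hne
    rcases c with _ | _ | c
    · omega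
    · omega
    · rw [hc]; nlinarith
  have hkey : (F.ε = 1 ∧ m0 = 0 ∧ S = e ∧ 2 * E ≤ p - 1) ∨
      (F.ε = -1 ∧ m0 = 1 ∧ S + e = p ∧ Hs.card = 1 ∧ b = 1 ∧ 2 * E ≤ p - 1) := by
    rcases F.ε_spec with hε | hε <;> rw [hε] at h1
    · left
      have hm0 : m0 = 0 := by
        by_contra hm0
        have : (1 : ℤ) ≤ m0 := by exact_mod_cast Nat.one_le_iff_ne_zero.2 hm0
        have : (p : ℤ) ≤ S := by rw [h1]; nlinarith
        omega
      rw [hm0] at h1
      have hSe : S = e := by push_cast at h1; omega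
      refine ⟨hε, hm0, hSe, hproper E hEp ?_⟩
      have hdE : d = E * b := by rw [← hhe, hd, hSe]; ring
      have : E ≤ d := hdE ▸ Nat.le_mul_of_pos_right E hb
      omega
    · right
      have hm0 : 1 ≤ m0 := by
        have h2 := F.mult_θ_eq q q.out q.out_eq
        rw [hq, hε] at h2
        have : (0 : ℤ) ≤ D.mult χ ((q.out : (ZMod p)ˣ) : ZMod p) β := Int.natCast_nonneg _
        omega
      have hle : e ≤ p - 1 := Nat.le_of_dvd (by omega) hep
      have hm1 : m0 = 1 := by
        by_contra hne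
        have h2 : (2 : ℤ) ≤ m0 := by exact_mod_cast (show 2 ≤ m0 by omega)
        have : (p : ℤ) + 1 ≤ S := by
          rw [h1]
          have : (e : ℤ) ≤ p - 1 := by omega
          nlinarith
        omega
      rw [hm1] at h1
      have hSe : S + e = p := by push_cast at h1; omega
      have hne : e ≠ p - 1 := by
        intro hee
        have hsing : Nat.card (D.Orbits β) = 1 := by
          have := D.card_expH_mul β
          rw [show Nat.card (D.expH β) = p - 1 from hee] at this
          exact Nat.eq_of_mul_eq_mul_left (by omega : 0 < p - 1) (this.trans (mul_one _).symm)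
        haveI := (Nat.card_eq_one_iff_unique.1 hsing).1
        have h7 := F.mult_θ_eq q u0 (Subsingleton.elim _ _)
        rw [hq, hε, ← hm0def, hm1] at h7
        exact hu0 (by push_cast at h7; omega)
      have h2e := hproper e hep hne
      have hone : Hs.card * b = 1 := by
        by_contra hne'
        have h6 : S * 2 ≤ d := hSb ▸ Nat.mul_le_mul_left S (by omega : 2 ≤ Hs.card * b)
        omega
      refine ⟨hε, hm1, hSe, (mul_eq_one.1 hone).1, (mul_eq_one.1 hone).2, ?_⟩
      rw [← hhe, (mul_eq_one.1 hone).1, one_mul]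
      exact h2e
  have h2E : 2 * E ≤ p - 1 := by rcases hkey with h | h; exacts [h.2.2.2, h.2.2.2.2.2]
  have hz_mem : ∀ z ∈ Subgroup.center G, z ∈ V := by
    intro z hz
    rw [D.hV]
    refine ⟨Subgroup.center_le_centralizer _ hz, fun hd' => ?_⟩
    set w := z ^ (orderOf z / p)
    have hwo : orderOf w = p := orderOf_pow_orderOf_div (orderOf_pos z).ne' hd'
    refine hnn (Subgroup.zpowers w) ⟨fun c hc g => ?_⟩ (by rw [Nat.card_zpowers, hwo])
    rwa [Subgroup.mem_center_iff.1 (Subgroup.zpowers_le.2 (pow_mem hz _) hc) g,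
      mul_inv_cancel_right]
  have hχc : IsCharacter G (χ : G → ℂ) := irr_isCharacter χ
  -- the exponents of `x`
  have hxm : ∀ a : ZMod p, (p : ℂ) * ((∑ γ : IrrCharacter V, D.mult χ a γ * charDegree (γ : V → ℂ) : ℕ) : ℂ) =
      ∑ i : ZMod p, (χ : G → ℂ) (pw x i) * ZMod.stdAddChar (i * -a) := by
    intro a
    have hv : ∀ i : ZMod p, (χ : G → ℂ) (pw x i) = ∑ γ : IrrCharacter V,
        D.coef χ i γ * (charDegree (γ : V → ℂ) : ℂ) := fun i => by
      have h := D.value_eq_coef χ i 1
      rw [OneMemClass.coe_one, mul_one] at h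
      rw [h]
      exact Finset.sum_congr rfl fun γ _ => by rw [Chars17.cast_irrDegree]
    simp only [hv, Finset.sum_mul]
    rw [Finset.sum_comm, Nat.cast_sum, Finset.mul_sum]
    refine Finset.sum_congr rfl fun γ _ => ?_
    rw [Nat.cast_mul, ← mul_assoc, D.mult_eq, Finset.sum_mul]
    exact Finset.sum_congr rfl fun i _ => by ring
  -- `V` is central
  have hVle : ∀ v ∈ V, v ∈ Subgroup.center G := by
    rcases hkey with ⟨hε, hm, hSe, -⟩ | ⟨-, -, -, hh1, hb1, -⟩
    · obtain ⟨kk, _, _, ρk, hρx, hnil⟩ := HalfPSL.exists_reduction hx hsq hnn _ hχc hfaith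
      set s0 : Finset (ZMod p) := Finset.univ.image
        fun r : D.muHom.range => ((q.out : (ZMod p)ˣ) : ZMod p) * ((r : (ZMod p)ˣ) : ZMod p) with hs0
      have hsupp : ∀ a : ZMod p,
          (∑ γ : IrrCharacter V, D.mult χ a γ * charDegree (γ : V → ℂ)) ≠ 0 → a ∈ s0 := by
        intro a ha
        obtain ⟨γ, -, hγ⟩ := Finset.exists_ne_zero_of_sum_ne_zero ha
        have hγ' : D.mult χ a γ ≠ 0 := left_ne_zero_of_mul hγ
        have hγH : γ ∈ Hs := by_contra fun h => hγ' (hother γ h a)
        obtain ⟨n, rfl⟩ := D.exists_cj_of_hits hM hβ (Finset.mem_filter.1 hγH).2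
        rw [D.mult_cj] at hγ'
        have ha0 : a ≠ 0 := by
          rintro rfl
          rw [mul_zero, ← hm0def] at hγ'
          exact hγ' hm
        set u := (D.mu n)⁻¹ * Units.mk0 a ha0
        have hu : ((D.mu n)⁻¹ : (ZMod p)ˣ) * a = (u : ZMod p) := by
          rw [Units.val_mul, Units.val_mk0]
        rw [hu] at hγ'
        have hoq : (u : D.Orbits β) = q := by
          by_contra hne
          have h := F.mult_θ_ne q u hne
          rw [hq, ← hm0def, hm] at h
          exact hγ' (by exact_mod_cast h)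
        have hoq' : ((q.out : (ZMod p)ˣ) : D.Orbits β) = (u : D.Orbits β) :=
          (q.out_eq).trans hoq.symm
        obtain ⟨m, -, hm'⟩ := D.mem_expH.1 (QuotientGroup.eq.1 hoq')
        refine Finset.mem_image.2 ⟨⟨D.mu n * ((q.out : (ZMod p)ˣ)⁻¹ * u),
          mul_mem ⟨n, rfl⟩ ⟨m, hm'⟩⟩, Finset.mem_univ _, ?_⟩
        simp only [u, ← Units.val_mul]
        rw [show (q.out : (ZMod p)ˣ) * (D.mu n * ((q.out : (ZMod p)ˣ)⁻¹ * ((D.mu n)⁻¹ * Units.mk0 a ha0)))
          = Units.mk0 a ha0 by simp [mul_comm, mul_left_comm]]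
        rfl
      set sC : Finset ℂ := s0.image fun a => ZMod.stdAddChar a with hsC
      have hroot : ∀ z ∈ sC, z ^ p = 1 := by
        intro z hz
        obtain ⟨a, -, rfl⟩ := Finset.mem_image.1 hz
        rw [← AddChar.map_nsmul_eq_pow, nsmul_eq_mul, ZMod.natCast_self, zero_mul,
          AddChar.map_zero_eq_one]
      have hann : ∀ (k : ℕ) (ρ : Representation ℂ G (Fin k → ℂ)), ρ.character = χ →
          Polynomial.aeval (ρ x) (∏ z ∈ sC, (Polynomial.X - Polynomial.C z)) = 0 := by
        intro k ρ hρ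
        obtain ⟨bb, jj, hbb, hcount⟩ := exists_exponents hx ρ
        refine bb.ext fun l => ?_
        rw [LinearMap.zero_apply]
        have hl : jj l ∈ s0 := by
          refine hsupp _ fun h0 => ?_
          have h := hxm (jj l)
          rw [h0, Nat.cast_zero, mul_zero, ← hρ, ← hcount (jj l), eq_comm,
            mul_eq_zero, or_iff_right (Nat.cast_ne_zero.2 hp.out.ne_zero), Nat.cast_eq_zero,
            Finset.card_eq_zero, Finset.filter_eq_empty_iff] at h
          exact h (Finset.mem_univ l) rfl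
        rw [← Finset.prod_erase_mul _ _ (Finset.mem_image_of_mem _ hl : ZMod.stdAddChar (jj l) ∈ sC),
          map_mul, Module.End.mul_apply]
        simp [Module.algebraMap_end_apply, hbb l]
      have hpow := hnil sC hroot hann
      have hcard : sC.card ≤ E := Finset.card_image_le.trans (Finset.card_image_le.trans (by
        rw [Finset.card_univ, ← Nat.card_eq_fintype_card]))
      obtain ⟨ψ, hiso, hψx, hψV⟩ := HalfPSL.exists_three_dim_of_pow ρk hx hsq
        (by rw [Module.finrank_fin_fun]; omega) (l := sC.card) (by omega) hpow hρx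
      have hne : ψ x ≠ 1 := by
        intro h
        rw [hψx] at h
        have := congrFun (congrFun h 1) 2
        simp [HalfPSL.regUnip] at this
      have hkerp : ¬ p ∣ Nat.card ψ.ker :=
        HalfPSL.not_dvd_of_notMem hsq ψ.ker (by rw [← hx]; exact pow_orderOf_eq_one x) hne
      intro v hv
      have hvk : v ∈ ψ.ker :=
        hψV v (D.mem_C_iff.1 (D.V_le hv)) (D.regular hv)
      exact HalfPSL.mem_center_of_commute_conj _ hχc hfaith
        (HalfPSL.isIrr_res_of_irr hx hsq hnn χ hfaith hlt) fun g => PrimeDefect.commute_of_small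
          ((orderOf_injective (MulAut.conj g).toMonoidHom (MulAut.conj g).injective x).trans hx) hsq
          _ hχc hfaith hlt ψ.ker hkerp hvk
    · intro v hv
      refine PSubTwo.mem_center_of_norm χ hfaith ?_
      have h := D.value_eq χ 0 ⟨v, hv⟩
      rw [D.pw_zero, one_mul] at h
      dsimp only at h
      rw [h, Finset.sum_eq_single β (fun γ _ hγ => by
        simp [hother γ fun hH => hγ (Finset.card_le_one.1 hh1.le γ hH β hβH)])
        (fun h => absurd (Finset.mem_univ _) h)]
      simp only [zero_mul, AddChar.map_zero_eq_one, mul_one]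
      rw [← Nat.cast_sum, norm_mul, Complex.norm_natCast]
      obtain ⟨f, hf⟩ := LinearTwist.exists_hom_of_charDegree_one (irr_isCharacter β) hb1
      rw [hf, Complex.norm_eq_one_of_pow_eq_one (n := Nat.card V)
        (by rw [← Units.val_pow_eq_pow_val, ← map_pow, pow_card_eq_one', map_one, Units.val_one])
        Nat.card_pos.ne', mul_one]
      have hdS : d = S := by rw [hd, hh1, hb1, one_mul, mul_one]
      exact_mod_cast hdS.symm
  have hVc : V = Subgroup.center G := le_antisymm hVle hz_mem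
  -- so `β` is the only character met, and linear
  have hcj : ∀ n, D.cj n β = β := fun n => Subtype.ext (funext fun z => by
    rw [Data.cj_apply]
    have h : D.cjV n z = z := Subtype.ext (by
      rw [Data.cjV_coe, Subgroup.mem_center_iff.1 (hVle _ z.2) (n : G), mul_inv_cancel_right])
    rw [h])
  have hh1 : Hs.card = 1 := Finset.card_eq_one.2 ⟨β, Finset.eq_singleton_iff_unique_mem.2
    ⟨hβH, fun γ hγ => by
      obtain ⟨n, rfl⟩ := D.exists_cj_of_hits hM hβ (Finset.mem_filter.1 hγ).2
      exact hcj n⟩⟩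
  have hb1 : b = 1 := by
    refine LinearTwist.charDegree_eq_of_apply_one (n := 1) ?_
    rw [Nat.cast_one]
    haveI : IsMulCommutative V := ⟨⟨fun s t => Subtype.ext
      (Subgroup.mem_center_iff.1 (hVle _ t.2) s)⟩⟩
    exact CharIto.degree_one_of_comm β.2
  have heE : e = E := by rw [← hhe, hh1, one_mul]
  have hsum1 : ∀ a, (∑ γ : IrrCharacter V, D.mult χ a γ * charDegree (γ : V → ℂ)) = D.mult χ a β := by
    intro a
    rw [Finset.sum_eq_single β (fun γ _ hγ => by
      rw [hother γ (fun hH => hγ (Finset.card_le_one.1 hh1.le γ hH β hβH)), zero_mul])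
      (fun h => absurd (Finset.mem_univ _) h), show charDegree (β : V → ℂ) = 1 from hb1, mul_one]
  have hcore : (∀ a, D.mult χ a β ≤ 1) ∧
      ((d = E ∧ m0 = 0) ∨ (d + E = p ∧ m0 = 1)) := by
    rcases hkey with ⟨hε, hm, hSe, -⟩ | ⟨hε, hm, hSe, -, -, -⟩
    · refine ⟨fun a => ?_, Or.inl ⟨by rw [hd, hh1, hb1, hSe, heE, one_mul, mul_one], hm⟩⟩
      by_cases ha : a = 0
      · rw [ha, ← hm0def, hm]; exact zero_le_one
      · have h := F.mult_θ q (Units.mk0 a ha)
        rw [hq, Units.val_mk0, ← hm0def, hm, hε] at h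
        split_ifs at h <;> omega
    · refine ⟨fun a => ?_, Or.inr ⟨by rw [hd, hh1, hb1, one_mul, mul_one, ← heE]; exact hSe, hm⟩⟩
      by_cases ha : a = 0
      · rw [ha, ← hm0def, hm]
      · have h := F.mult_θ q (Units.mk0 a ha)
        rw [hq, Units.val_mk0, ← hm0def, hm, hε] at h
        split_ifs at h <;> omega
  subst hVc
  exact ⟨D, E, rfl, by omega, h2E, hEp, fun a => D.mult χ a β, hcore.1,
    fun a => by simp only [← hsum1]; exact hxm a, hcore.2⟩

end CfsgLib.LinSmall
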