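import Cfsg.Agent.Lib.Characters.SmallDegreeSylow
import Cfsg.Agent.Lib.Characters.Basic
import Cfsg.Agent.Lib.Characters.Scalar
import Cfsg.Agent.S4503

/-!
# Normal Sylow subgroups of linear groups of degree less than `(p - 1) / 2`, and big constituents
-/

set_option autoImplicit false
set_option linter.style.haveILetI false

noncomputable section

namespace CfsgLib.LinSmall

open Cfsg CfsgLib.Characters CfsgLib.SmallDegree

universe u v

variable {G : Type u} [Group G] {V : Type v} [AddCommGroup V] [Module ℂ V]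

/-- A representation on an invariant subspace. -/
def subRep (ρ : Representation ℂ G V) (W : Submodule ℂ V) (hW : ∀ g, ∀ v ∈ W, ρ g v ∈ W) :
    Representation ℂ G W where
  toFun g := (ρ g).restrict (hW g)
  map_one' := by ext v; simp
  map_mul' g h := by ext v; simp

theorem subRep_apply (ρ : Representation ℂ G V) (W : Submodule ℂ V)
    (hW : ∀ g, ∀ v ∈ W, ρ g v ∈ W) (g : G) (w : W) :
    ((subRep ρ W hW g w : W) : V) = ρ g (w : V) := rfl

theorem subRep_eq_one_iff (ρ : Representation ℂ G V) (W : Submodule ℂ V)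
    (hW : ∀ g, ∀ v ∈ W, ρ g v ∈ W) (g : G) :
    subRep ρ W hW g = 1 ↔ ∀ v ∈ W, ρ g v = v :=
  ⟨fun h v hv => congrArg Subtype.val (LinearMap.congr_fun h ⟨v, hv⟩),
    fun h => LinearMap.ext fun w => Subtype.ext (h w w.2)⟩

/-- An invariant subspace has an invariant complement. -/
theorem exists_invariant_compl [Finite G] (ρ : Representation ℂ G V) (W : Submodule ℂ V)
    (hW : ∀ g, ∀ v ∈ W, ρ g v ∈ W) :
    ∃ U : Submodule ℂ V, IsCompl W U ∧ ∀ g, ∀ v ∈ U, ρ g v ∈ U := by
  classical
  haveI : Fintype G := Fintype.ofFinite G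
  obtain ⟨U₀, hU₀⟩ := W.exists_isCompl
  let p : Module.End ℂ V := W.subtype ∘ₗ W.projectionOnto U₀ hU₀
  have hp : ∀ v, p v ∈ W := fun v => (W.projectionOnto U₀ hU₀ v).2
  have hp' : ∀ v ∈ W, p v = v := fun v hv => by
    show ((W.projectionOnto U₀ hU₀ v : W) : V) = v
    rw [Submodule.projectionOnto_apply_left hU₀ ⟨v, hv⟩]
  let q : Module.End ℂ V := (Fintype.card G : ℂ)⁻¹ • ∑ g, ρ g * p * ρ g⁻¹
  have hq : ∀ v, q v ∈ W := fun v => by
    simp only [q, LinearMap.smul_apply, LinearMap.sum_apply, Module.End.mul_apply]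
    exact W.smul_mem _ (W.sum_mem fun g _ => hW g _ (hp _))
  have hq' : ∀ v ∈ W, q v = v := fun v hv => by
    simp only [q, LinearMap.smul_apply, LinearMap.sum_apply, Module.End.mul_apply]
    rw [Finset.sum_congr rfl fun g _ => by rw [hp' _ (hW g⁻¹ v hv), Representation.self_inv_apply],
      Finset.sum_const, Finset.card_univ, ← Nat.cast_smul_eq_nsmul ℂ, smul_smul,
      inv_mul_cancel₀ (by exact_mod_cast Fintype.card_ne_zero), one_smul]
  have hcomm : ∀ h, q * ρ h = ρ h * q := fun h => by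
    simp only [q, smul_mul_assoc, mul_smul_comm, Finset.sum_mul, Finset.mul_sum]
    congr 1
    rw [← Equiv.sum_comp (Equiv.mulLeft h) fun g => ρ g * p * ρ g⁻¹ * ρ h]
    refine Finset.sum_congr rfl fun g _ => ?_
    simp only [Equiv.coe_mulLeft, map_mul, mul_inv_rev, mul_assoc]
    rw [← map_mul ρ h⁻¹ h, inv_mul_cancel, map_one, mul_one]
  refine ⟨LinearMap.ker (q.codRestrict W hq), LinearMap.isCompl_of_proj fun w =>
    Subtype.ext (hq' w w.2), fun g v hv => ?_⟩
  have hv' : q v = 0 := congrArg Subtype.val (LinearMap.mem_ker.1 hv)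
  refine LinearMap.mem_ker.2 (Subtype.ext ?_)
  show q (ρ g v) = 0
  rw [← Module.End.mul_apply, hcomm, Module.End.mul_apply, hv', map_zero]

/-- A nontrivial action is nontrivial on some irreducible invariant subspace. -/
theorem exists_irr_sub [Finite G] [FiniteDimensional ℂ V] (ρ : Representation ℂ G V) {c : G}
    (hc : ρ c ≠ 1) :
    ∃ (W : Submodule ℂ V) (hW : ∀ g, ∀ v ∈ W, ρ g v ∈ W),
      (subRep ρ W hW).IsIrreducible ∧ subRep ρ W hW c ≠ 1 := by
  suffices h : ∀ n : ℕ, ∀ U : Submodule ℂ V, (∀ g, ∀ v ∈ U, ρ g v ∈ U) →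
      Module.finrank ℂ U = n → (∃ v ∈ U, ρ c v ≠ v) →
      ∃ (W : Submodule ℂ V) (hW : ∀ g, ∀ v ∈ W, ρ g v ∈ W),
        (subRep ρ W hW).IsIrreducible ∧ subRep ρ W hW c ≠ 1 by
    obtain ⟨v, hv⟩ : ∃ v, ρ c v ≠ v := by
      by_contra h
      push Not at h
      exact hc (LinearMap.ext h)
    exact h _ ⊤ (fun _ _ _ => trivial) rfl ⟨v, trivial, hv⟩
  intro n
  induction n using Nat.strong_induction_on with
  | _ n ih =>
    intro U hU hn ⟨v, hvU, hv⟩
    by_cases hmin : ∀ U' : Submodule ℂ V, (∀ g, ∀ w ∈ U', ρ g w ∈ U') → U' ≤ U → U' = ⊥ ∨ U' = U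
    · refine ⟨U, hU, ?_, fun h => hv ((subRep_eq_one_iff ρ U hU c).1 h v hvU)⟩
      rw [isIrreducible_iff]
      refine ⟨⟨⟨⟨v, hvU⟩, 0, fun h => hv ?_⟩⟩, fun T hT => ?_⟩
      · rw [show v = 0 from congrArg Subtype.val h, map_zero]
      · have h1 := hmin (T.map U.subtype) (fun g w hw => by
          obtain ⟨t, ht, rfl⟩ := hw
          exact ⟨subRep ρ U hU g t, hT g t ht, rfl⟩) (Submodule.map_subtype_le U T)
        rcases h1 with h1 | h1
        · exact Or.inl (Submodule.map_injective_of_injective U.injective_subtype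
            (h1.trans (Submodule.map_bot _).symm))
        · refine Or.inr (Submodule.map_injective_of_injective U.injective_subtype ?_)
          rw [h1, Submodule.map_subtype_top]
    · push Not at hmin
      obtain ⟨U', hU', hle, hne0, hneU⟩ := hmin
      obtain ⟨C, hC, hCinv⟩ := exists_invariant_compl ρ U' hU'
      have hCU : ∀ g, ∀ w ∈ C ⊓ U, ρ g w ∈ C ⊓ U := fun g w hw =>
        ⟨hCinv g w hw.1, hU g w hw.2⟩
      have hlt1 : Module.finrank ℂ U' < n :=
        hn ▸ Submodule.finrank_lt_finrank_of_lt (lt_of_le_of_ne hle hneU)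
      have hlt2 : Module.finrank ℂ (C ⊓ U : Submodule ℂ V) < n := by
        refine hn ▸ Submodule.finrank_lt_finrank_of_lt (lt_of_le_of_ne inf_le_right fun h => hne0 ?_)
        have h1 : U' ≤ C := hle.trans (h ▸ inf_le_left)
        exact le_bot_iff.1 (hC.disjoint le_rfl h1)
      by_cases h1 : ∃ w ∈ U', ρ c w ≠ w
      · exact ih _ hlt1 U' hU' rfl h1
      by_cases h2 : ∃ w ∈ C ⊓ U, ρ c w ≠ w
      · exact ih _ hlt2 _ hCU rfl h2
      push Not at h1 h2
      exfalso
      obtain ⟨a, ha, b, hb, rfl⟩ : ∃ a ∈ U', ∃ b ∈ C, a + b = v :=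
        Submodule.mem_sup.1 (hC.sup_eq_top ▸ Submodule.mem_top)
      have hbU : b ∈ U := by simpa using U.sub_mem hvU (hle ha)
      exact hv (by rw [map_add, h1 a ha, h2 b ⟨hb, hbU⟩])

variable [Finite G] {p : ℕ} [hp : Fact p.Prime]

/-- A faithful representation of degree less than `(p - 1) / 2` makes the Sylow subgroups normal. -/
theorem ns_of_lt_half [FiniteDimensional ℂ V] (ρ : Representation ℂ G V)
    (hρ : Function.Injective ρ) (h : 2 * Module.finrank ℂ V + 1 < p) : NS p G := by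
  set σ := transportRep ρ (Module.finBasis ℂ V).equivFun with hσdef
  have hσ : Function.Injective σ := fun a b hab => hρ (by
    rw [hσdef, transportRep_apply, transportRep_apply] at hab
    exact (Module.finBasis ℂ V).equivFun.conj.injective hab)
  refine SmallDegree.normal_sylow σ hσ (Or.inr ⟨by omega, fun K hK Q => ?_⟩)
  by_cases hdiv : p ∣ Nat.card K
  swap
  · obtain ⟨j, hj⟩ := IsPGroup.iff_card.1 Q.isPGroup'
    rcases j with _ | j
    · rw [show (Q : Subgroup K) = ⊥ from Subgroup.card_eq_one.1 (by rw [hj, pow_zero])]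
      infer_instance
    · exact absurd ((dvd_pow_self p (Nat.succ_ne_zero j)).trans
        (hj ▸ Subgroup.card_subgroup_dvd_card _)) hdiv
  by_cases hnn : ∀ H : Subgroup K, H.Normal → Nat.card H ≠ p
  · exfalso
    let τ : Representation ℂ K (Fin (Module.finrank ℂ V) → ℂ) := σ.comp K.subtype
    have h1 := Cfsg.Agent.S4503.result p hp.out hdiv hK hnn τ.character ⟨_, τ, rfl⟩ (fun g hg => by
      rw [Representation.char_one] at hg
      have := (char_eq_degree_iff τ g).1 hg
      exact Subtype.ext (hσ (show σ (g : G) = σ 1 by rw [map_one σ]; exact this)))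
    rw [LinearTwist.charDegree_eq_of_apply_one (n := Module.finrank ℂ V)
      (by rw [Representation.char_one]; simp)] at h1
    omega
  · push Not at hnn
    obtain ⟨H, hH, hHc⟩ := hnn
    have hfac : (Nat.card K).factorization p = 1 := by
      have h1 := hp.out.dvd_iff_one_le_factorization Nat.card_pos.ne' |>.1 hdiv
      have h2 : ¬ 2 ≤ (Nat.card K).factorization p := fun h2 =>
        hK ((hp.out.pow_dvd_iff_le_factorization Nat.card_pos.ne').2 h2)
      omega
    let S : Sylow p K := Sylow.ofCard H (by rw [hHc, hfac, pow_one])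
    haveI := Sylow.unique_of_normal S hH
    rw [Subsingleton.elim Q S]
    exact hH

/-- If all irreducible images have normal Sylow subgroups, so does the group. -/
theorem ns_of_sub [FiniteDimensional ℂ V] (ρ : Representation ℂ G V) (hρ : Function.Injective ρ)
    (h : ∀ (W : Submodule ℂ V) (hW : ∀ g, ∀ v ∈ W, ρ g v ∈ W), (subRep ρ W hW).IsIrreducible →
      NS p (G ⧸ (subRep ρ W hW : G →* _).ker)) : NS p G := by
  intro Q
  obtain ⟨k, hk⟩ := IsPGroup.iff_card.1 Q.isPGroup'
  let N : Subgroup G := ⨅ (W : Submodule ℂ V) (hW : ∀ g, ∀ v ∈ W, ρ g v ∈ W)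
    (_ : (subRep ρ W hW).IsIrreducible), (Q : Subgroup G) ⊔ (subRep ρ W hW : G →* _).ker
  have hN : N.Normal := Subgroup.normal_iInf_normal fun W => Subgroup.normal_iInf_normal fun hW =>
    Subgroup.normal_iInf_normal fun hirr => by
      have h1 := h W hW hirr (Q.mapSurjective (QuotientGroup.mk'_surjective _))
      rw [Sylow.coe_mapSurjective] at h1
      have h2 := h1.comap (QuotientGroup.mk' (subRep ρ W hW : G →* _).ker)
      rwa [Subgroup.comap_map_eq, QuotientGroup.ker_mk'] at h2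
  have hQN : (Q : Subgroup G) ≤ N := le_iInf fun W => le_iInf fun hW => le_iInf fun _ => le_sup_left
  have hpN : IsPGroup p N := by
    rintro ⟨n, hn⟩
    refine ⟨k, Subtype.ext (by
      rw [SubmonoidClass.coe_pow, OneMemClass.coe_one]
      by_contra hne
      obtain ⟨W, hW, hirr, hcW⟩ := exists_irr_sub ρ (c := n ^ p ^ k)
        fun h => hne (hρ (h.trans (map_one ρ).symm))
      simp only [N, Subgroup.mem_iInf] at hn
      obtain ⟨q, hq, w, hw, rfl⟩ := Subgroup.mem_sup_of_normal_right.1 (hn W hW hirr)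
      apply hcW
      rw [map_pow, map_mul, MonoidHom.mem_ker.1 hw, mul_one, ← map_pow, ← hk,
        orderOf_dvd_iff_pow_eq_one.1 (Subgroup.orderOf_dvd_natCard _ hq), map_one])⟩
  rw [← Q.is_maximal' hpN hQN]
  exact hN

/-- The image of a representation of degree less than `(p - 1) / 2`. -/
theorem ns_image [FiniteDimensional ℂ V] (τ : Representation ℂ G V)
    (h : 2 * Module.finrank ℂ V + 1 < p) : NS p (G ⧸ (τ : G →* _).ker) := by
  refine ns_of_lt_half (QuotientGroup.lift (τ : G →* _).ker τ le_rfl) ?_ h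
  intro a b hab
  obtain ⟨a, rfl⟩ := QuotientGroup.mk_surjective a
  obtain ⟨b, rfl⟩ := QuotientGroup.mk_surjective b
  rw [QuotientGroup.lift_mk, QuotientGroup.lift_mk] at hab
  refine QuotientGroup.eq.2 (MonoidHom.mem_ker.2 ?_)
  rw [map_mul, ← hab, ← map_mul, inv_mul_cancel, map_one]

/-- Without normal Sylow subgroups some irreducible image has none, of degree at least
`(p - 1) / 2`. -/
theorem exists_big [FiniteDimensional ℂ V] (ρ : Representation ℂ G V) (hρ : Function.Injective ρ)
    (h : ¬ NS p G) :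
    ∃ (W : Submodule ℂ V) (hW : ∀ g, ∀ v ∈ W, ρ g v ∈ W), (subRep ρ W hW).IsIrreducible ∧
      ¬ NS p (G ⧸ (subRep ρ W hW : G →* _).ker) ∧ p ≤ 2 * Module.finrank ℂ W + 1 := by
  by_contra hc
  refine h (ns_of_sub ρ hρ fun W hW hirr => ?_)
  by_contra hns
  by_cases hlt : p ≤ 2 * Module.finrank ℂ W + 1
  · exact hc ⟨W, hW, hirr, hns, hlt⟩
  exact hns (ns_image (subRep ρ W hW) (Nat.lt_of_not_le hlt))

end CfsgLib.LinSmall
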