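import Cfsg.Agent.Lib.PSubTwo.Fam
import Cfsg.Agent.Lib.BSW.ClassSum
import Cfsg.Agent.Lib.Characters.Galois

/-!
# An element of order `p` whose centraliser is generated by itself and the centre

For every central character there is one family of characters: `e` characters with a sign and the
`(p - 1) / e` exceptional ones.
-/

set_option autoImplicit false
set_option linter.unusedSectionVars false
set_option linter.style.haveILetI false

noncomputable section

namespace CfsgLib.LinSmall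

open Cfsg CfsgLib.Characters CfsgLib.PrimeDefect CfsgLib.SelfCentralPrime
open CfsgLib.PSubTwo (sum_res)
open scoped ComplexConjugate

universe u

variable {G : Type u} [Group G] [Fintype G]

open scoped Classical in
/-- The number of pairs from two classes with a given product. -/
def pairs (a b y : G) : ℕ :=
  ((Finset.univ ×ˢ Finset.univ).filter fun c : G × G =>
    IsConj a c.1 ∧ IsConj b c.2 ∧ c.1 * c.2 = y).card

open scoped Classical in
theorem sum_class_product₂ (χ : IrrCharacter G) (a b : G) :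
    ∑ c ∈ Finset.univ.filter (IsConj a), ∑ d ∈ Finset.univ.filter (IsConj b),
        (χ : G → ℂ) (c * d) =
      (Nat.card {c : G // IsConj a c} : ℂ) * (Nat.card {d : G // IsConj b d} : ℂ) *
        ((χ : G → ℂ) a * (χ : G → ℂ) b / (χ : G → ℂ) 1) := by
  obtain ⟨χ', n, ρ, hρ, rfl⟩ := χ
  haveI := hρ
  have hnc : (n : ℂ) ≠ 0 := by
    have h := irr_one_ne_zero (⟨ρ.character, n, ρ, hρ, rfl⟩ : IrrCharacter G)
    simpa [Representation.char_one] using h
  have hf : ∀ t : G, funEnd ρ (fun x => if IsConj t x then (1 : ℂ) else 0) =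
      ∑ c ∈ Finset.univ.filter (IsConj t), ρ c := fun t => by
    simp only [funEnd, Finset.sum_filter, ite_smul, one_smul, zero_smul]
  have h := congrArg₂ (fun S T => LinearMap.trace ℂ _ (S * T)) (funEnd_classSum ρ a)
    (funEnd_classSum ρ b)
  simp only [hf, Finset.sum_mul, Finset.mul_sum, map_sum, ← map_mul, smul_mul_assoc,
    mul_smul_comm, smul_smul, map_smul, one_mul, LinearMap.trace_one, smul_eq_mul] at h
  simp only [Module.finrank_fin_fun] at h
  show ∑ c ∈ _, ∑ d ∈ _, ρ.character (c * d) =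
    _ * (ρ.character a * ρ.character b / ρ.character 1)
  rw [Representation.char_one, Module.finrank_fin_fun]
  refine (Eq.trans ?_ h).trans ?_
  · exact Finset.sum_comm.trans (Finset.sum_congr rfl fun d _ => Finset.sum_congr rfl fun c _ => rfl)
  · field_simp

open scoped Classical in
/-- The class multiplication constants. -/
theorem sum_pairs₂ (a b y : G) :
    (Nat.card {c : G // IsConj a c} : ℂ) * (Nat.card {d : G // IsConj b d} : ℂ) *
      ∑ χ : IrrCharacter G,
        conj ((χ : G → ℂ) y) * ((χ : G → ℂ) a * (χ : G → ℂ) b / (χ : G → ℂ) 1) =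
      (Nat.card G : ℂ) * (pairs a b y : ℂ) := by
  rw [Finset.mul_sum]
  set T := Finset.univ.filter (fun c : G => IsConj a c)
  set U := Finset.univ.filter (fun c : G => IsConj b c)
  have h1 : ∀ χ : IrrCharacter G,
      (Nat.card {c : G // IsConj a c} : ℂ) * (Nat.card {d : G // IsConj b d} : ℂ) *
      (conj ((χ : G → ℂ) y) * ((χ : G → ℂ) a * (χ : G → ℂ) b / (χ : G → ℂ) 1)) =
      ∑ c ∈ T, ∑ d ∈ U, (χ : G → ℂ) (c * d) * conj ((χ : G → ℂ) y) := by
    intro χ
    rw [mul_comm (conj _), ← mul_assoc, ← sum_class_product₂ χ a b, Finset.sum_mul]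
    exact Finset.sum_congr rfl fun c _ => Finset.sum_mul _ _ _
  rw [Finset.sum_congr rfl fun χ _ => h1 χ, Finset.sum_comm,
    Finset.sum_congr rfl fun c _ => Finset.sum_comm]
  have hcc : ∀ g h : G, ∑ χ : IrrCharacter G, (χ : G → ℂ) g * conj ((χ : G → ℂ) h) =
      ((Finset.univ.filter fun c : G => c * g * c⁻¹ = h).card : ℂ) := by
    intro g h
    rw [column_orth]
    split_ifs with hc
    · obtain ⟨a₀, ha₀⟩ := isConj_iff.1 hc
      rw [← Fintype.card_subtype, ← Nat.card_eq_fintype_card, Nat.cast_inj]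
      refine Nat.card_congr ⟨fun c => ⟨a₀ * c.1, ?_⟩, fun a => ⟨a₀⁻¹ * a.1, ?_⟩,
        fun c => Subtype.ext (inv_mul_cancel_left _ _), fun a => Subtype.ext (mul_inv_cancel_left _ _)⟩
      · have hcg := Subgroup.mem_centralizer_singleton_iff.1 c.2
        calc a₀ * c * g * (a₀ * c)⁻¹ = a₀ * (c * g * (c : G)⁻¹) * a₀⁻¹ := by group
          _ = h := by rw [hcg, mul_inv_cancel_right, ha₀]
      · rw [Subgroup.mem_centralizer_singleton_iff]
        have h2 := a.2.trans ha₀.symm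
        calc a₀⁻¹ * a.1 * g = a₀⁻¹ * (a.1 * g * (a.1)⁻¹) * a.1 := by group
          _ = g * (a₀⁻¹ * a.1) := by rw [h2]; group
    · rw [Finset.filter_false_of_mem, Finset.card_empty, Nat.cast_zero]
      exact fun a _ ha => hc (isConj_iff.2 ⟨a, ha⟩)
  simp only [hcc, ← Nat.cast_sum, ← Nat.cast_mul]
  congr 1
  rw [Finset.sum_congr rfl fun c _ => Finset.sum_congr rfl fun d _ => Finset.card_filter _ _]
  rw [Finset.sum_congr rfl fun c _ => Finset.sum_comm, Finset.sum_comm]
  have h3 : ∀ g : G, ∑ c ∈ T, ∑ d ∈ U, (if g * (c * d) * g⁻¹ = y then 1 else 0) =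
      pairs a b y := by
    intro g
    rw [← Finset.sum_product', Finset.sum_boole, Nat.cast_id, pairs]
    refine Finset.card_equiv ((MulAut.conj g).toEquiv.prodCongr (MulAut.conj g).toEquiv) fun cd => ?_
    have hiff : ∀ a c : G, IsConj a (g * c * g⁻¹) ↔ IsConj a c := fun a c =>
      ⟨fun h => h.trans (isConj_iff.2 ⟨g, rfl⟩).symm, fun h => h.trans (isConj_iff.2 ⟨g, rfl⟩)⟩
    simp only [T, U, Finset.mem_filter, Finset.mem_product, Finset.mem_univ, true_and,
      MulEquiv.toEquiv_eq_coe, Equiv.prodCongr_apply, EquivLike.coe_coe, Prod.map_fst,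
      Prod.map_snd, MulAut.conj_apply, hiff, and_assoc]
    rw [show g * cd.1 * g⁻¹ * (g * cd.2 * g⁻¹) = g * (cd.1 * cd.2) * g⁻¹ by group]
  rw [Finset.sum_congr rfl fun g _ => h3 g, Finset.sum_const, Finset.card_univ, smul_eq_mul,
    Nat.card_eq_fintype_card]

namespace CData

open CfsgLib.PSubTwo.Loc (Over exists_over over_unique)

variable {p : ℕ} [hp : Fact p.Prime] {x : G}
variable (D : Data p x (Subgroup.centralizer ({x} : Set G)) (Subgroup.center G))

include D

/-- The residues induced by the normaliser. -/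
theorem mem_range_iff {u : (ZMod p)ˣ} :
    u ∈ D.muHom.range ↔ ∃ g : G, g * x * g⁻¹ = pw x (u : ZMod p) := by
  constructor
  · rintro ⟨n, rfl⟩
    exact ⟨n, D.mu_spec n⟩
  · rintro ⟨g, hg⟩
    have hg' : g ∈ nrm x := by
      rw [nrm]
      refine Subgroup.mem_normalizer_fintype fun w hw => ?_
      obtain ⟨k, rfl⟩ := Subgroup.mem_zpowers_iff.1 hw
      rw [← conj_zpow, hg]
      exact Subgroup.zpow_mem _ (Subgroup.pow_mem _ (Subgroup.mem_zpowers x) _) k
    exact ⟨⟨g, hg'⟩, Units.ext (D.pw_inj (by rw [← hg]; exact (D.mu_spec ⟨g, hg'⟩).symm))⟩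

/-- The multiplicity of the eigenvalue `i` of `x`. -/
def xm (χ : IrrCharacter G) (i : ZMod p) : ℕ :=
  haveI := Fintype.ofFinite (Subgroup.centralizer ({x} : Set G))
  haveI := Fintype.ofFinite (Subgroup.center G)
  ∑ γ : IrrCharacter (Subgroup.center G), D.mult χ i γ

theorem cj_eq [Fintype (Subgroup.centralizer ({x} : Set G))] [Fintype (Subgroup.center G)]
    (n : nrm x) (μ : IrrCharacter (Subgroup.center G)) : D.cj n μ = μ :=
  Subtype.ext (funext fun z => by
    rw [Data.cj_apply]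
    have h : D.cjV n z = z := Subtype.ext (by
      rw [Data.cjV_coe, Subgroup.mem_center_iff.1 z.2 (n : G), mul_inv_cancel_right])
    rw [h])

theorem coef_over [Fintype (Subgroup.centralizer ({x} : Set G))] [Fintype (Subgroup.center G)]
    {χ : IrrCharacter G} {μ : IrrCharacter (Subgroup.center G)} (h : Over χ μ) (i : ZMod p)
    (γ : IrrCharacter (Subgroup.center G)) [DecidableEq (IrrCharacter (Subgroup.center G))] :
    D.coef χ i γ = if μ = γ then (χ : G → ℂ) (pw x i) else 0 := by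
  have h2 := classInner_irr μ γ
  rw [classInner] at h2
  have h3 : D.coef χ i γ = (χ : G → ℂ) (pw x i) * ((Nat.card (Subgroup.center G) : ℂ)⁻¹ *
      ∑ v : Subgroup.center G, (μ : Subgroup.center G → ℂ) v *
        conj ((γ : Subgroup.center G → ℂ) v)) := by
    simp only [Data.coef, h _ _, mul_assoc, ← Finset.mul_sum]
    ring
  rw [h3, h2, mul_ite, mul_one, mul_zero]

theorem mult_other [Fintype (Subgroup.centralizer ({x} : Set G))] [Fintype (Subgroup.center G)]
    {χ : IrrCharacter G} {μ γ : IrrCharacter (Subgroup.center G)} (h : Over χ μ) (hne : γ ≠ μ)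
    (i : ZMod p) : D.mult χ i γ = 0 := by
  classical
  have h1 := D.mult_eq χ i γ
  rw [Finset.sum_eq_zero (fun j _ => by rw [coef_over D h j γ, if_neg (Ne.symm hne), zero_mul])] at h1
  exact_mod_cast (mul_eq_zero.1 h1).resolve_left (Nat.cast_ne_zero.2 hp.out.ne_zero)

theorem xm_eq_mult [Fintype (Subgroup.centralizer ({x} : Set G))] [Fintype (Subgroup.center G)]
    {χ : IrrCharacter G} {μ : IrrCharacter (Subgroup.center G)} (h : Over χ μ) (i : ZMod p) :
    xm D χ i = D.mult χ i μ := by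
  unfold xm
  convert Finset.sum_eq_single μ (fun γ _ hγ => mult_other D h hγ i)
    (fun hh => absurd (Finset.mem_univ μ) hh)

theorem value_pw (χ : IrrCharacter G) (i : ZMod p) :
    (χ : G → ℂ) (pw x i) = ∑ j : ZMod p, (xm D χ j : ℂ) * ZMod.stdAddChar (i * j) := by
  classical
  haveI := Fintype.ofFinite (Subgroup.centralizer ({x} : Set G))
  haveI := Fintype.ofFinite (Subgroup.center G)
  obtain ⟨μ, hμ, -⟩ := exists_over χ
  have h := D.coef_eq χ i μ
  rw [coef_over D hμ, if_pos rfl] at h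
  rw [h]
  exact Finset.sum_congr rfl fun j _ => by rw [xm_eq_mult D hμ]

theorem xm_eq (χ : IrrCharacter G) (j : ZMod p) :
    (p : ℂ) * (xm D χ j : ℂ) =
      ∑ i : ZMod p, (χ : G → ℂ) (pw x i) * ZMod.stdAddChar (i * -j) := by
  classical
  haveI := Fintype.ofFinite (Subgroup.centralizer ({x} : Set G))
  haveI := Fintype.ofFinite (Subgroup.center G)
  obtain ⟨μ, hμ, -⟩ := exists_over χ
  rw [xm_eq_mult D hμ, D.mult_eq]
  exact Finset.sum_congr rfl fun i _ => by rw [coef_over D hμ, if_pos rfl]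

theorem sum_xm (χ : IrrCharacter G) : ∑ j : ZMod p, xm D χ j = charDegree (χ : G → ℂ) := by
  have h := value_pw D χ 0
  rw [D.pw_zero, ← Chars17.cast_irrDegree] at h
  simp only [zero_mul, AddChar.map_zero_eq_one, mul_one] at h
  exact_mod_cast h.symm

theorem sum_std_units {c : ZMod p} (hc : c ≠ 0) :
    ∑ u : (ZMod p)ˣ, ZMod.stdAddChar (c * (u : ZMod p)) = (-1 : ℂ) := by
  have h : ∑ a : ZMod p, ZMod.stdAddChar (c * a) = (0 : ℂ) := by
    rw [show ∑ a : ZMod p, ZMod.stdAddChar (c * a) = ∑ a : ZMod p, ZMod.stdAddChar (a * c) from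
      Finset.sum_congr rfl fun a _ => by rw [mul_comm], sum_std, if_neg hc]
  rw [sum_res, mul_zero, AddChar.map_zero_eq_one] at h
  linear_combination h

theorem value_const {χ : IrrCharacter G} (h : ∀ j, xm D χ j = xm D χ 0) {i : ZMod p}
    (hi : i ≠ 0) : (χ : G → ℂ) (pw x i) = 0 := by
  rw [value_pw D, sum_res]
  simp only [h, ← Finset.mul_sum, mul_zero, AddChar.map_zero_eq_one, mul_one]
  rw [sum_std_units D hi]
  ring

/-- The characters of a family. -/
structure CFam (μ : IrrCharacter (Subgroup.center G)) where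
  X : Finset (IrrCharacter G)
  θ : (ZMod p)ˣ → IrrCharacter G
  sign : IrrCharacter G → ℤ
  ε : ℤ
  m : ℕ
  sign_spec : ∀ χ ∈ X, sign χ = 1 ∨ sign χ = -1
  ε_spec : ε = 1 ∨ ε = -1
  card_X : X.card = Nat.card D.muHom.range
  θ_eq : ∀ u v, θ u = θ v ↔ u⁻¹ * v ∈ D.muHom.range
  θ_notMem : ∀ u, θ u ∉ X
  over_X : ∀ χ ∈ X, Over χ μ
  over_θ : ∀ u, Over (θ u) μ
  xm_X : ∀ χ ∈ X, ∀ v : (ZMod p)ˣ, (xm D χ (v : ZMod p) : ℤ) = xm D χ 0 - sign χ
  xm_θ_zero : ∀ u, xm D (θ u) 0 = m
  xm_θ_mem : ∀ u v : (ZMod p)ˣ, u⁻¹ * v ∈ D.muHom.range →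
    (xm D (θ u) (v : ZMod p) : ℤ) = m + ε
  xm_θ_notMem : ∀ u v : (ZMod p)ˣ, u⁻¹ * v ∉ D.muHom.range →
    (xm D (θ u) (v : ZMod p) : ℤ) = m
  cover : ∀ χ, Over χ μ → χ ∈ X ∨ (∃ u, θ u = χ) ∨ ∀ j, xm D χ j = xm D χ 0
  relation : ∀ y : G, ¬ p ∣ orderOf y → ∀ u,
    ∑ χ ∈ X, (sign χ : ℂ) * (χ : G → ℂ) y = (ε : ℂ) * (θ u : G → ℂ) y

theorem exists_cfam (μ : IrrCharacter (Subgroup.center G)) : Nonempty (CFam D μ) := by
  classical
  haveI := Fintype.ofFinite (Subgroup.centralizer ({x} : Set G))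
  haveI := Fintype.ofFinite (Subgroup.center G)
  obtain ⟨M, hM⟩ := CfsgLib.KGV.exists_isPModular p hp.out
  obtain ⟨B, hB, hμ⟩ := D.exists_hits hM μ
  set s : Finset (IrrCharacter G) := Finset.univ.filter (· ∈ B)
  have hs : ∀ χ, χ ∈ s ↔ χ ∈ B := fun χ => by simp [s]
  have hd : 0 < blockDefect p B := by
    have h1 := D.sum_coef hM hB hs hμ (one_ne_zero (α := ZMod p)) 1
    rw [if_pos ⟨1, (D.expH μ).one_mem, by simp⟩] at h1
    obtain ⟨χ, hχ, hne⟩ := Finset.exists_ne_zero_of_sum_ne_zero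
      (h1.trans_ne (Nat.cast_ne_zero.2 hp.out.ne_zero))
    have hdeg : ¬ p ∣ charDegree (χ : G → ℂ) := by
      intro hdvd
      refine hne ?_
      have hv : ∀ v : Subgroup.center G, (χ : G → ℂ) (pw x 1 * v) = 0 := fun v => by
        refine CfsgLib.DefectZeroVanish.vanish_of_defect_zero χ
          (by rwa [D.factorization_card_eq, pow_one]) ?_
        rw [(D.commute_pw (D.V_le v.2) 1).symm.orderOf_mul_eq_mul_orderOf_of_coprime
          (by rw [D.orderOf_pw one_ne_zero]; exact hp.out.coprime_iff_not_dvd.2 (D.regular v.2)),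
          D.orderOf_pw one_ne_zero]
        exact dvd_mul_right _ _
      have hc : D.coef χ 1 μ = 0 := by
        simp only [Data.coef, hv, zero_mul, Finset.sum_const_zero, mul_zero]
      rw [hc, zero_mul]
    rw [blockDefect, D.factorization_card_eq, Nat.sub_pos_iff_lt]
    exact lt_of_le_of_lt (Nat.sInf_le ⟨χ, (hs χ).1 hχ, rfl⟩) (by
      dsimp only
      rw [Nat.factorization_eq_zero_of_not_dvd hdeg]; exact one_pos)
  obtain ⟨F⟩ := D.exists_family hM hB hd hμ
  have hexp : D.expH μ = D.muHom.range := le_antisymm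
    (fun u hu => by
      obtain ⟨n, -, rfl⟩ := D.mem_expH.1 hu
      exact ⟨n, rfl⟩)
    (fun u hu => by
      obtain ⟨n, rfl⟩ := hu
      exact D.mem_expH.2 ⟨n, cj_eq D _ _, rfl⟩)
  have horb : ∀ u v : (ZMod p)ˣ, ((u : D.Orbits μ) = (v : D.Orbits μ)) ↔
      u⁻¹ * v ∈ D.muHom.range := fun u v => by rw [QuotientGroup.eq, hexp]
  have hover : ∀ χ ∈ B, Over χ μ := by
    intro χ hχ
    obtain ⟨ν, hν, -⟩ := exists_over χ
    obtain rfl : ν = μ := by
      by_contra hne
      obtain ⟨i, hi⟩ := D.exists_mult_ne hM hB hμ hd hχ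
      exact hi (by rw [mult_other D hν (Ne.symm hne), mult_other D hν (Ne.symm hne)])
    exact hν
  refine ⟨{
    X := F.X
    θ := fun u => F.θ (u : D.Orbits μ)
    sign := F.sign
    ε := F.ε
    m := D.mult (F.θ ((1 : (ZMod p)ˣ) : D.Orbits μ)) 0 μ
    sign_spec := F.sign_spec
    ε_spec := F.ε_spec
    card_X := by rw [F.card_X, hexp]
    θ_eq := fun u v => by rw [F.θ_injective.eq_iff, horb]
    θ_notMem := fun u => F.θ_notMem _
    over_X := fun χ hχ => hover χ (F.mem_of_mem_X hχ)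
    over_θ := fun u => hover _ (F.θ_mem _)
    xm_X := fun χ hχ v => ?_
    xm_θ_zero := fun u => ?_
    xm_θ_mem := fun u v h => ?_
    xm_θ_notMem := fun u v h => ?_
    cover := fun χ hχ => ?_
    relation := fun y hy u => F.relation y hy _ }⟩
  · rw [xm_eq_mult D (hover χ (F.mem_of_mem_X hχ)), xm_eq_mult D (hover χ (F.mem_of_mem_X hχ))]
    exact F.mult_X χ hχ v
  · rw [xm_eq_mult D (hover _ (F.θ_mem _))]
    exact F.mult_zero_θ_eq _ _
  · rw [xm_eq_mult D (hover _ (F.θ_mem _)), F.mult_θ_eq _ v ((horb u v).2 h).symm,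
      F.mult_zero_θ_eq _ ((1 : (ZMod p)ˣ) : D.Orbits μ)]
  · rw [xm_eq_mult D (hover _ (F.θ_mem _)), F.mult_θ_ne _ v (fun he => h ((horb u v).1 he.symm)),
      F.mult_zero_θ_eq _ ((1 : (ZMod p)ˣ) : D.Orbits μ)]
  · by_cases hmem : χ ∈ B
    · rcases (F.mem_iff χ).1 hmem with h | ⟨q, rfl⟩
      · exact Or.inl h
      · exact Or.inr (Or.inl ⟨q.out, congrArg F.θ q.out_eq⟩)
    · refine Or.inr (Or.inr fun j => ?_)
      rw [xm_eq_mult D hχ, xm_eq_mult D hχ]
      have h0 : ∀ i : ZMod p, i ≠ 0 → D.coef χ i μ = 0 := fun i hi =>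
        D.coef_eq_zero_aux hM hi χ μ fun h => hmem (by
          rw [D.hits_unique hM hμ h]; exact Blocks.mem_blockOf_self hM χ)
      have h : (p : ℂ) * ((D.mult χ j μ : ℂ) - D.mult χ 0 μ) = 0 := by
        rw [D.mult_sub]
        exact Finset.sum_eq_zero fun i hi => by rw [h0 i (Finset.mem_erase.1 hi).1, zero_mul]
      exact_mod_cast sub_eq_zero.1 ((mul_eq_zero.1 h).resolve_left
        (Nat.cast_ne_zero.2 hp.out.ne_zero))

open scoped Classical in
/-- The period at `c`. -/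
def eta (c : ZMod p) : ℂ :=
  ∑ h : D.muHom.range, ZMod.stdAddChar (c * ((h : (ZMod p)ˣ) : ZMod p))

open scoped Classical in
/-- Sums over a coset of the residues induced by the normaliser. -/
theorem sum_coset (u : (ZMod p)ˣ) {R : Type*} [AddCommMonoid R] (f : (ZMod p)ˣ → R) :
    ∑ v : (ZMod p)ˣ, (if u⁻¹ * v ∈ D.muHom.range then f v else 0) =
      ∑ h : D.muHom.range, f (u * h) := by
  rw [← Finset.sum_filter]
  refine (Finset.sum_bij (fun h _ => u * ((h : D.muHom.range) : (ZMod p)ˣ)) (fun h _ => ?_)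
    (fun a _ b _ hab => Subtype.ext (mul_left_cancel hab)) (fun v hv => ?_) (fun _ _ => rfl)).symm
  · rw [Finset.mem_filter, inv_mul_cancel_left]
    exact ⟨Finset.mem_univ _, h.2⟩
  · exact ⟨⟨u⁻¹ * v, (Finset.mem_filter.1 hv).2⟩, Finset.mem_univ _, mul_inv_cancel_left _ _⟩

theorem sum_eta {c : ZMod p} (hc : c ≠ 0) :
    ∑ u : (ZMod p)ˣ, eta D (c * (u : ZMod p)) = -(Nat.card D.muHom.range : ℂ) := by
  classical
  unfold eta
  rw [Finset.sum_comm, Finset.sum_congr rfl fun h _ => ?_, Finset.sum_const, Finset.card_univ,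
    ← Nat.card_eq_fintype_card, nsmul_eq_mul, mul_neg, mul_one]
  rw [← sum_std_units D (mul_ne_zero hc ((h : (ZMod p)ˣ)).ne_zero)]
  exact Finset.sum_congr rfl fun u _ => by rw [mul_right_comm]

theorem sum_eta_conj :
    ∑ u : (ZMod p)ˣ, eta D (u : ZMod p) * conj (eta D (u : ZMod p)) =
      (Nat.card D.muHom.range : ℂ) * ((p : ℂ) - Nat.card D.muHom.range) := by
  classical
  have hconj : ∀ a : ZMod p, conj (ZMod.stdAddChar a) = ZMod.stdAddChar (-a) := fun a =>
    (AddChar.map_neg_eq_conj _ _).symm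
  have h1 : ∀ h k : D.muHom.range,
      ∑ u : (ZMod p)ˣ, ZMod.stdAddChar ((u : ZMod p) * ((h : (ZMod p)ˣ) : ZMod p)) *
        conj (ZMod.stdAddChar ((u : ZMod p) * ((k : (ZMod p)ˣ) : ZMod p))) =
      (if h = k then (p : ℂ) else 0) - 1 := by
    intro h k
    simp only [hconj, ← AddChar.map_add_eq_mul, ← sub_eq_add_neg, ← mul_sub]
    split_ifs with hk
    · subst hk
      simp [Nat.totient_prime hp.out, Nat.cast_sub hp.out.one_le]
    · rw [zero_sub, ← sum_std_units D (c := ((h : (ZMod p)ˣ) : ZMod p) - ((k : (ZMod p)ˣ) : ZMod p))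
        (sub_ne_zero.2 fun h' => hk (Subtype.ext (Units.ext h')))]
      exact Finset.sum_congr rfl fun u _ => by rw [mul_comm]
  unfold eta
  simp only [map_sum, Finset.sum_mul_sum]
  rw [Finset.sum_comm]
  simp only [Finset.sum_comm (s := (Finset.univ : Finset (ZMod p)ˣ)), h1]
  simp only [Finset.sum_sub_distrib, Finset.sum_ite_eq, Finset.mem_univ, if_true, Finset.sum_const,
    Finset.card_univ, nsmul_eq_mul, Nat.card_eq_fintype_card]
  ring

/-- A power map fixing `x` and the centre permutes the characters over a central one, keeping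
the multiplicities. -/
theorem exists_twist {k : ℕ} (hk : k.Coprime (Nat.card G)) (hxk : x ^ k = x)
    (hzk : ∀ z ∈ Subgroup.center G, z ^ k = z) {χ : IrrCharacter G}
    {μ : IrrCharacter (Subgroup.center G)} (h : Over χ μ) :
    ∃ ψ : IrrCharacter G, (∀ g : G, (ψ : G → ℂ) g = (χ : G → ℂ) (g ^ k)) ∧ Over ψ μ ∧
      (∀ j, xm D ψ j = xm D χ j) ∧ charDegree (ψ : G → ℂ) = charDegree (χ : G → ℂ) := by
  refine ⟨⟨_, CharGalois.isIrrCharacter_pow χ.2 hk⟩, fun g => rfl, fun g z => ?_,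
    fun j => ?_, ?_⟩
  · show (χ : G → ℂ) ((g * z) ^ k) = (χ : G → ℂ) (g ^ k) * _
    rw [Commute.mul_pow (Subgroup.mem_center_iff.1 z.2 g), hzk _ z.2, h]
  · refine Nat.cast_injective (R := ℂ) (mul_left_cancel₀ (Nat.cast_ne_zero.2 hp.out.ne_zero) ?_)
    rw [xm_eq D, xm_eq D]
    refine Finset.sum_congr rfl fun i _ => ?_
    show (χ : G → ℂ) (pw x i ^ k) * _ = _
    rw [pw, ← pow_mul, mul_comm i.val k, pow_mul, hxk]
  · refine LinearTwist.charDegree_eq_of_apply_one ?_
    show (χ : G → ℂ) (1 ^ k) = _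
    rw [one_pow, Chars17.cast_irrDegree]

namespace CFam

variable {D} {μ : IrrCharacter (Subgroup.center G)} (F : CFam D μ)

include F

theorem deg_X {χ : IrrCharacter G} (hχ : χ ∈ F.X) :
    (charDegree (χ : G → ℂ) : ℤ) = p * ((xm D χ 0 : ℤ) - F.sign χ) + F.sign χ := by
  rw [← sum_xm D χ, Nat.cast_sum, sum_res fun j => (xm D χ j : ℤ),
    Finset.sum_congr rfl fun v _ => F.xm_X χ hχ v, Finset.sum_const, Finset.card_univ,
    ZMod.card_units, nsmul_eq_mul, Nat.cast_sub hp.out.one_le]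
  push_cast
  ring

open scoped Classical in
theorem xm_θ (u v : (ZMod p)ˣ) : (xm D (F.θ u) (v : ZMod p) : ℤ) =
    F.m + if u⁻¹ * v ∈ D.muHom.range then F.ε else 0 := by
  split_ifs with h
  · exact F.xm_θ_mem u v h
  · rw [add_zero]; exact F.xm_θ_notMem u v h

theorem deg_θ (u : (ZMod p)ˣ) :
    (charDegree (F.θ u : G → ℂ) : ℤ) = p * (F.m : ℤ) + Nat.card D.muHom.range * F.ε := by
  classical
  rw [← sum_xm D (F.θ u), Nat.cast_sum, sum_res fun j => (xm D (F.θ u) j : ℤ),
    Finset.sum_congr rfl fun v _ => F.xm_θ u v, Finset.sum_add_distrib,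
    sum_coset D u (fun _ => F.ε), Finset.sum_const, Finset.sum_const, Finset.card_univ,
    Finset.card_univ, ZMod.card_units, nsmul_eq_mul, nsmul_eq_mul, Nat.cast_sub hp.out.one_le,
    F.xm_θ_zero, ← Nat.card_eq_fintype_card]
  push_cast
  ring

theorem value_X {χ : IrrCharacter G} (hχ : χ ∈ F.X) {i : ZMod p} (hi : i ≠ 0) :
    (χ : G → ℂ) (pw x i) = (F.sign χ : ℂ) := by
  have h2 : ∀ v : (ZMod p)ˣ, (xm D χ (v : ZMod p) : ℂ) = (xm D χ 0 : ℂ) - F.sign χ := fun v => by
    have := congrArg (Int.cast : ℤ → ℂ) (F.xm_X χ hχ v)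
    simpa using this
  rw [value_pw D, sum_res]
  simp only [h2, ← Finset.mul_sum, mul_zero, AddChar.map_zero_eq_one, mul_one, sum_std_units D hi]
  ring

theorem value_θ (u : (ZMod p)ˣ) {i : ZMod p} (hi : i ≠ 0) :
    (F.θ u : G → ℂ) (pw x i) = (F.ε : ℂ) * eta D (i * (u : ZMod p)) := by
  classical
  have h2 : ∀ v : (ZMod p)ˣ, (xm D (F.θ u) (v : ZMod p) : ℂ) =
      (F.m : ℂ) + if u⁻¹ * v ∈ D.muHom.range then (F.ε : ℂ) else 0 := fun v => by
    have h := congrArg (Int.cast : ℤ → ℂ) (F.xm_θ u v)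
    split_ifs at h ⊢ with hv <;> simpa using h
  rw [value_pw D, sum_res]
  simp only [h2, add_mul, ite_mul, zero_mul, Finset.sum_add_distrib, ← Finset.mul_sum, mul_zero,
    AddChar.map_zero_eq_one, mul_one, sum_std_units D hi, F.xm_θ_zero]
  rw [sum_coset D u fun v => (F.ε : ℂ) * ZMod.stdAddChar (i * (v : ZMod p)), eta, Finset.mul_sum]
  simp only [Units.val_mul, mul_assoc, mul_neg, mul_one, add_neg_cancel_left]

theorem θ_regular {y : G} (hy : ¬ p ∣ orderOf y) (u v : (ZMod p)ˣ) :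
    (F.θ u : G → ℂ) y = (F.θ v : G → ℂ) y := by
  refine mul_left_cancel₀ ?_ ((F.relation y hy u).symm.trans (F.relation y hy v))
  rcases F.ε_spec with h | h <;> simp [h]

open scoped Classical in
/-- Sums over the characters above `μ` of a function vanishing outside the family. -/
theorem sum_over {R : Type*} [CommRing R] (f : IrrCharacter G → R)
    (hf : ∀ χ, Over χ μ → (∀ j, xm D χ j = xm D χ 0) → f χ = 0) :
    (Nat.card D.muHom.range : R) * ∑ χ ∈ Finset.univ.filter (fun χ => Over χ μ), f χ =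
      (Nat.card D.muHom.range : R) * ∑ χ ∈ F.X, f χ + ∑ u : (ZMod p)ˣ, f (F.θ u) := by
  set T := Finset.univ.image F.θ
  have hdis : Disjoint F.X T := by
    rw [Finset.disjoint_left]
    intro χ hχ hχ'
    obtain ⟨u, -, rfl⟩ := Finset.mem_image.1 hχ'
    exact F.θ_notMem u hχ
  have hsub : F.X ∪ T ⊆ Finset.univ.filter (fun χ => Over χ μ) := by
    intro χ hχ
    refine Finset.mem_filter.2 ⟨Finset.mem_univ _, ?_⟩
    rcases Finset.mem_union.1 hχ with h | h
    · exact F.over_X χ h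
    · obtain ⟨u, -, rfl⟩ := Finset.mem_image.1 h
      exact F.over_θ u
  rw [← Finset.sum_subset hsub fun χ hχ hn => by
    refine hf χ (Finset.mem_filter.1 hχ).2 ?_
    rw [Finset.mem_union, not_or] at hn
    rcases F.cover χ (Finset.mem_filter.1 hχ).2 with h | ⟨u, rfl⟩ | h
    exacts [absurd h hn.1, absurd (Finset.mem_image_of_mem _ (Finset.mem_univ u)) hn.2, h],
    Finset.sum_union hdis, mul_add]
  congr 1
  rw [← Finset.sum_fiberwise_of_maps_to (g := F.θ) (t := T)
    (fun u _ => Finset.mem_image_of_mem _ (Finset.mem_univ u)), Finset.mul_sum]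
  refine Finset.sum_congr rfl fun χ hχ => ?_
  obtain ⟨u, -, rfl⟩ := Finset.mem_image.1 hχ
  rw [Finset.sum_congr rfl (g := fun _ => f (F.θ u)) (fun v hv => by
    rw [(Finset.mem_filter.1 hv).2]), Finset.sum_const, nsmul_eq_mul]
  congr 2
  rw [Finset.card_filter, ← Nat.mul_one (Nat.card D.muHom.range), Nat.card_eq_fintype_card,
    ← Finset.card_univ, ← smul_eq_mul, ← Finset.sum_const, ← sum_coset D u (fun _ => 1)]
  refine Finset.sum_congr rfl fun v _ => if_congr ?_ rfl rfl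
  rw [← F.θ_eq, eq_comm]

/-- An exceptional character is determined by its multiplicities. -/
theorem eq_θ_of_xm (hR : D.muHom.range ≠ ⊤) {χ : IrrCharacter G} (hχ : Over χ μ)
    {u : (ZMod p)ˣ} (h : ∀ j, xm D χ j = xm D (F.θ u) j) : χ = F.θ u := by
  obtain ⟨w, hw⟩ : ∃ w : (ZMod p)ˣ, w ∉ D.muHom.range := by
    by_contra h
    push Not at h
    exact hR (eq_top_iff.2 fun w _ => h w)
  have hnot : u⁻¹ * (u * w) ∉ D.muHom.range := by rwa [inv_mul_cancel_left]
  have h1 := F.xm_θ_notMem u (u * w) hnot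
  have h2 := F.xm_θ_mem u u (by rw [inv_mul_cancel]; exact one_mem _)
  rw [← h] at h1 h2
  rcases F.cover χ hχ with hX | ⟨v, rfl⟩ | hc
  · exfalso
    rw [F.xm_X χ hX] at h1 h2
    rcases F.ε_spec with he | he <;> omega
  · rw [F.θ_eq]
    by_contra hn
    have h3 := F.xm_θ_notMem v u hn
    rcases F.ε_spec with he | he <;> omega
  · exfalso
    rw [hc] at h1 h2
    rcases F.ε_spec with he | he <;> omega

/-- A character with the multiplicities of a member of `X` is in `X`. -/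
theorem mem_X_of_xm {χ ψ : IrrCharacter G} (hψ : ψ ∈ F.X) (hχ : Over χ μ)
    (hR : D.muHom.range ≠ ⊤) (h : ∀ j, xm D χ j = xm D ψ j) : χ ∈ F.X := by
  rcases F.cover χ hχ with hX | ⟨u, rfl⟩ | hc
  · exact hX
  · obtain ⟨w, hw⟩ : ∃ w : (ZMod p)ˣ, w ∉ D.muHom.range := by
      by_contra h
      push Not at h
      exact hR (eq_top_iff.2 fun w _ => h w)
    exfalso
    have h1 := F.xm_θ_notMem u (u * w) (by rwa [inv_mul_cancel_left])
    have h2 := F.xm_θ_mem u u (by rw [inv_mul_cancel]; exact one_mem _)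
    rw [h, F.xm_X ψ hψ] at h1 h2
    rcases F.ε_spec with he | he <;> omega
  · exfalso
    have h1 := F.xm_X ψ hψ 1
    rw [← h, ← h, hc] at h1
    rcases F.sign_spec ψ hψ with he | he <;> omega

/-- A power map fixing `x` and the centre fixes the exceptional characters. -/
theorem θ_pow (hR : D.muHom.range ≠ ⊤) {k : ℕ} (hk : k.Coprime (Nat.card G)) (hxk : x ^ k = x)
    (hzk : ∀ z ∈ Subgroup.center G, z ^ k = z) (u : (ZMod p)ˣ) (g : G) :
    (F.θ u : G → ℂ) (g ^ k) = (F.θ u : G → ℂ) g := by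
  obtain ⟨ψ, hψ, hover, hxm, -⟩ := exists_twist D hk hxk hzk (F.over_θ u)
  rw [← hψ, F.eq_θ_of_xm hR hover hxm]

/-- A power map fixing `x` and the centre fixes the members of `X` of unique degree. -/
theorem X_pow (hR : D.muHom.range ≠ ⊤) {k : ℕ} (hk : k.Coprime (Nat.card G)) (hxk : x ^ k = x)
    (hzk : ∀ z ∈ Subgroup.center G, z ^ k = z) {χ : IrrCharacter G} (hχ : χ ∈ F.X)
    (huniq : ∀ ψ ∈ F.X, charDegree (ψ : G → ℂ) = charDegree (χ : G → ℂ) → ψ = χ) (g : G) :
    (χ : G → ℂ) (g ^ k) = (χ : G → ℂ) g := by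
  obtain ⟨ψ, hψ, hover, hxm, hdeg⟩ := exists_twist D hk hxk hzk (F.over_X χ hχ)
  rw [← hψ, huniq ψ (F.mem_X_of_xm hχ hover hR hxm) hdeg]

end CFam

end CData

end CfsgLib.LinSmall
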