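import Mathlib.Tactic

/-!
# Arithmetic for the principal family at the prime 19
-/

set_option autoImplicit false

namespace CfsgLib.LinSmall.Num19

/-- Equality in the Cauchy–Schwarz inequality for three fractions. -/
theorem eq_of_single {A C a c : ℤ} (hA : 0 < A) (hC : 0 < C)
    (h : (1 + a + c) ^ 2 * (A * C) = (A * C + a ^ 2 * C + c ^ 2 * A) * (1 + A + C)) : a = A := by
  have e : C * (A - a) ^ 2 + A * (C - c) ^ 2 + (a * C - c * A) ^ 2 = 0 := by linear_combination -h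
  have h1 : 0 ≤ A * (C - c) ^ 2 := mul_nonneg hA.le (sq_nonneg _)
  have h2 : 0 ≤ C * (A - a) ^ 2 := mul_nonneg hC.le (sq_nonneg _)
  have h3 := sq_nonneg (a * C - c * A)
  have h4 : C * (A - a) ^ 2 = 0 := by linarith
  have h5 := (mul_eq_zero.1 h4).resolve_left hC.ne'
  have h6 := pow_eq_zero_iff two_ne_zero |>.1 h5
  linarith

/-- The identity of the involution class. -/
def InvEq (A B D : ℤ) (m n : ℕ) : Prop :=
  A * B * D + (A - 2 * (m : ℤ)) * (A - 2 * (m : ℤ)) * B * D =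
    (1 + (A - 2 * (m : ℤ)) - (D - 2 * (n : ℤ))) * (1 + (A - 2 * (m : ℤ)) - (D - 2 * (n : ℤ))) *
      A * D + (D - 2 * (n : ℤ)) * (D - 2 * (n : ℤ)) * A * B

instance (A B D : ℤ) (m n : ℕ) : Decidable (InvEq A B D m n) := by unfold InvEq; infer_instance

theorem inv_39_18_22 : ∀ m : Fin 40, ∀ n : Fin 23, InvEq 39 18 22 m n → (m : ℕ) = 0 := by
  decide +kernel

theorem inv_58_37_22 : ∀ m : Fin 59, ∀ n : Fin 23, InvEq 58 37 22 m n → (m : ℕ) = 0 := by
  decide +kernel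

theorem inv_96_75_22 : ∀ m : Fin 97, ∀ n : Fin 23, InvEq 96 75 22 m n → (m : ℕ) = 0 := by
  decide +kernel

theorem inv_58_18_41 : ∀ m : Fin 59, ∀ n : Fin 42, InvEq 58 18 41 m n → (m : ℕ) = 0 := by
  decide +kernel

theorem inv_77_37_41 : ∀ m : Fin 78, ∀ n : Fin 42, InvEq 77 37 41 m n → (m : ℕ) = 0 := by
  decide +kernel

end CfsgLib.LinSmall.Num19
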