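import Cfsg.Agent.Lib.LinSmall.Local
import Cfsg.Agent.Lib.LinSmall.Normal

/-!
# Simple spectra and untwisting by linear characters
-/

set_option autoImplicit false
set_option linter.style.haveILetI false

noncomputable section

namespace CfsgLib.LinSmall

open Cfsg CfsgLib.Characters CfsgLib.SmallDegree

universe u

variable {X : Type u} [Group X] {V : Type} [AddCommGroup V] [Module ℂ V]

/-- The faithful representation of the image. -/
def imageRep (τ : Representation ℂ X V) : Representation ℂ (X ⧸ (τ : X →* _).ker) V :=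
  QuotientGroup.lift (τ : X →* _).ker τ le_rfl

theorem imageRep_mk (τ : Representation ℂ X V) (g : X) :
    imageRep τ (g : X ⧸ (τ : X →* _).ker) = τ g := rfl

theorem imageRep_injective (τ : Representation ℂ X V) : Function.Injective (imageRep τ) := by
  intro a b hab
  obtain ⟨a, rfl⟩ := QuotientGroup.mk_surjective a
  obtain ⟨b, rfl⟩ := QuotientGroup.mk_surjective b
  rw [imageRep_mk, imageRep_mk] at hab
  refine QuotientGroup.eq.2 (MonoidHom.mem_ker.2 ?_)
  rw [map_mul, ← hab, ← map_mul, inv_mul_cancel, map_one]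

theorem imageRep_irreducible (τ : Representation ℂ X V) (h : τ.IsIrreducible) :
    (imageRep τ).IsIrreducible := by
  rw [isIrreducible_iff] at h ⊢
  exact ⟨h.1, fun U hU => h.2 U fun g v hv => hU (g : X ⧸ (τ : X →* _).ker) v hv⟩

variable [Finite X] {p : ℕ} [hp : Fact p.Prime]

/-- A normal subgroup of order `p` is the only Sylow subgroup if `p²` does not divide the order. -/
theorem ns_of_normal_prime (hsq : ¬ p ^ 2 ∣ Nat.card X) {H : Subgroup X} (hH : H.Normal)
    (hHc : Nat.card H = p) : NS p X := by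
  intro Q
  have h1 : 1 ≤ (Nat.card X).factorization p := hp.out.dvd_iff_one_le_factorization
    Nat.card_pos.ne' |>.1 (hHc ▸ Subgroup.card_subgroup_dvd_card H)
  have h2 : ¬ 2 ≤ (Nat.card X).factorization p := fun h2 =>
    hsq ((hp.out.pow_dvd_iff_le_factorization Nat.card_pos.ne').2 h2)
  let S : Sylow p X := Sylow.ofCard H (by rw [hHc]; rw [show (Nat.card X).factorization p = 1 by omega, pow_one])
  haveI := Sylow.unique_of_normal S hH
  rw [Subsingleton.elim Q S]
  exact hH

/-- A `p`-group with a faithful representation of degree less than `p` is abelian. -/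
theorem pgroup_comm' [FiniteDimensional ℂ V] (τ : Representation ℂ X V)
    (hinj : Function.Injective τ) (hP : IsPGroup p X) (h : Module.finrank ℂ V < p) (a b : X) :
    a * b = b * a :=
  SmallDegree.pgroup_comm (transportRep τ (Module.finBasis ℂ V).equivFun)
    (fun a b hab => hinj (by
      rw [transportRep_apply, transportRep_apply] at hab
      exact (Module.finBasis ℂ V).equivFun.conj.injective hab)) hP h a b

omit hp in
/-- An element with a simple diagonal form has eigenspaces of dimension at most one. -/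
theorem eigenspace_le_one {ι : Type} [Fintype ι] (b : Module.Basis ι ℂ V) (T : Module.End ℂ V)
    (ω : ι → ℂ) (hω : ∀ i, T (b i) = ω i • b i) (hinj : Function.Injective ω) (μ : ℂ) :
    Module.finrank ℂ (Module.End.eigenspace T μ) ≤ 1 := by
  classical
  haveI : FiniteDimensional ℂ V := Module.Finite.of_basis b
  have key : ∀ v ∈ Module.End.eigenspace T μ, ∀ i, b.repr v i ≠ 0 → ω i = μ := by
    intro v hv i hi
    rw [Module.End.mem_eigenspace_iff] at hv
    have h := congrArg (fun w => b.repr w i) hv
    conv_lhs at h => rw [← b.sum_repr v]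
    simp only [map_sum, map_smul, hω, Finset.sum_apply', Finsupp.smul_apply, b.repr_self,
      Finsupp.single_apply, smul_eq_mul, mul_ite, mul_one, mul_zero, Finset.sum_ite_eq',
      Finset.mem_univ, if_true] at h
    exact mul_left_cancel₀ hi (by linear_combination h)
  by_cases hex : ∃ i, ω i = μ
  · obtain ⟨i, hi⟩ := hex
    refine (Submodule.finrank_mono (?_ : _ ≤ Submodule.span ℂ {b i})).trans
      (le_of_eq (finrank_span_singleton (b.ne_zero i)))
    intro v hv
    rw [← b.sum_repr v]
    refine Submodule.sum_mem _ fun l _ => ?_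
    by_cases hl : b.repr v l = 0
    · simp [hl]
    · rw [hinj ((key v hv l hl).trans hi.symm)]
      exact Submodule.smul_mem _ _ (Submodule.mem_span_singleton_self _)
  · refine le_trans (Submodule.finrank_mono (?_ : _ ≤ (⊥ : Submodule ℂ V))) (by simp)
    intro v hv
    rw [Submodule.mem_bot, ← b.sum_repr v]
    refine Finset.sum_eq_zero fun l _ => ?_
    by_contra hl
    exact hex ⟨l, key v hv l fun h0 => hl (by rw [h0, zero_smul])⟩

/-- An element of order `p` in a group with non-normal Sylow subgroups of order `p` has a simple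
spectrum in a faithful irreducible representation of degree less than `p - 1`, and at least
`(p - 1) / 2` eigenvalues different from one. -/
theorem ev_simple [FiniteDimensional ℂ V] (τ : Representation ℂ X V) (hirr : τ.IsIrreducible)
    (hinj : Function.Injective τ) (hns : ¬ NS p X) (hsq : ¬ p ^ 2 ∣ Nat.card X)
    (hdim : Module.finrank ℂ V + 1 < p) {y : X} (hy : orderOf y = p) :
    (∀ μ : ℂ, Module.finrank ℂ (Module.End.eigenspace (τ y) μ) ≤ 1) ∧
      ∃ (k : ℕ) (f : Fin k → V), p ≤ 2 * k + 1 ∧ LinearIndependent ℂ f ∧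
        ∀ i, ∃ μ : ℂ, μ ≠ 1 ∧ τ y (f i) = μ • f i := by
  classical
  haveI := Fintype.ofFinite X
  set e := (Module.finBasis ℂ V).equivFun with he
  set σ := transportRep τ e with hσ
  have hσinj : Function.Injective σ := fun a b hab => hinj (by
    rw [hσ, transportRep_apply, transportRep_apply] at hab
    exact e.conj.injective hab)
  let χ : IrrCharacter X := ⟨σ.character, by
    rw [hσ, character_transportRep]; exact isIrrCharacter_character τ hirr⟩
  have hdeg : charDegree (χ : X → ℂ) = Module.finrank ℂ V :=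
    LinearTwist.charDegree_eq_of_apply_one (by
      show σ.character 1 = _
      rw [Representation.char_one]; simp)
  have hfaith : ∀ g : X, (χ : X → ℂ) g = (χ : X → ℂ) 1 → g = 1 := fun g hg => by
    change σ.character g = σ.character 1 at hg
    rw [Representation.char_one] at hg
    have := (char_eq_degree_iff σ g).1 hg
    exact hσinj (by rw [map_one σ]; exact this)
  obtain ⟨D, o, -, ho2, ho2p, -, xm, hxm, hF, hcase⟩ := local_structure hy hsq
    (fun H hH hHc => hns (ns_of_normal_prime hsq hH hHc)) χ hfaith (by omega)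
  obtain ⟨b, j, hb, hj⟩ := exists_exponents hy σ
  have hcount : ∀ a, (Finset.univ.filter fun l => j l = a).card = xm a := fun a => by
    have h1 : (p : ℂ) * ((Finset.univ.filter fun l => j l = a).card : ℂ) = (p : ℂ) * (xm a : ℂ) :=
      (hj a).trans (hF a).symm
    exact_mod_cast mul_left_cancel₀ (Nat.cast_ne_zero.2 hp.out.ne_zero) h1
  have hjinj : Function.Injective j := fun l l' hll => Finset.card_le_one.1
    ((hcount (j l')).trans_le (hxm _)) l (by simp [hll]) l' (by simp)
  let b' := b.map e.symm
  have hb' : ∀ l, τ y (b' l) = ZMod.stdAddChar (j l) • b' l := fun l => by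
    have h := congrArg e.symm (hb l)
    rw [map_smul, hσ, transportRep_apply, LinearEquiv.conj_apply_apply,
      LinearEquiv.symm_apply_apply] at h
    exact h
  refine ⟨eigenspace_le_one b' _ _ hb' (ZMod.injective_stdAddChar.comp hjinj), ?_⟩
  set s := Finset.univ.filter fun l => j l ≠ 0 with hs
  refine ⟨s.card, fun i => b' (s.equivFin.symm i), ?_,
    b'.linearIndependent.comp _ (Subtype.coe_injective.comp s.equivFin.symm.injective),
    fun i => ⟨_, ?_, hb' _⟩⟩
  · have hsum : (Finset.univ.filter fun l => j l = 0).card + s.card = Module.finrank ℂ V := by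
      rw [hs, Finset.card_filter_add_card_filter_not]
      simp
    rw [hcount 0] at hsum
    rcases hcase with ⟨h1, h2⟩ | ⟨h1, h2⟩
    · have : ¬ 2 * Module.finrank ℂ V + 1 < p := fun h => hns (ns_of_lt_half τ hinj h)
      omega
    · omega
  · have := (Finset.mem_filter.1 (s.equivFin.symm i).2).2
    exact fun h => this (ZMod.injective_stdAddChar (h.trans (AddChar.map_zero_eq_one _).symm))

/-- Untwisting the `p`-part of the determinant: modulo a central `p`-subgroup there is a faithful
irreducible representation without central elements of order `p`. -/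
theorem exists_untwist [FiniteDimensional ℂ V] (ρ : Representation ℂ X V) (hirr : ρ.IsIrreducible)
    (hinj : Function.Injective ρ) (hlt : Module.finrank ℂ V < p) :
    ∃ (Z : Subgroup X) (_ : Z.Normal), Z ≤ Subgroup.center X ∧ IsPGroup p Z ∧
      ∃ σ : Representation ℂ (X ⧸ Z) V, σ.IsIrreducible ∧ Function.Injective σ ∧
        (∀ g : X, ∃ c : ℂ, σ (g : X ⧸ Z) = c • ρ g) ∧
        (∀ z ∈ Subgroup.center (X ⧸ Z), z ^ p = 1 → z = 1) ∧ (¬ NS p X → ¬ NS p (X ⧸ Z)) := by
  classical
  haveI := hirr
  set n := Module.finrank ℂ V with hn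
  have hn0 : 0 < n := CfsgLib.CharScalar.finrank_pos ρ
  set a := (Nat.card X).factorization p with ha
  set m := Nat.card X / p ^ a with hm
  have hN : p ^ a * m = Nat.card X := Nat.ordProj_mul_ordCompl_eq_self _ p
  have hmp : ¬ p ∣ m := Nat.not_dvd_ordCompl hp.out Nat.card_pos.ne'
  have hnp : ¬ p ∣ n := fun h => absurd (Nat.le_of_dvd hn0 h) (by omega)
  have hnm : ¬ p ∣ n * m := fun h => (hp.out.dvd_mul.1 h).elim hnp hmp
  have hco : (n * m).Coprime (p ^ a) :=
    Nat.Coprime.pow_right _ ((hp.out.coprime_iff_not_dvd.2 hnm).symm)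
  obtain ⟨k, hk⟩ : ∃ k : ℕ, p ^ a ∣ k * (n * m) + 1 := by
    haveI : NeZero (p ^ a) := ⟨(pow_pos hp.out.pos a).ne'⟩
    refine ⟨(-((n * m : ℕ) : ZMod (p ^ a))⁻¹).val, ?_⟩
    rw [← ZMod.natCast_eq_zero_iff, Nat.cast_add, Nat.cast_mul, ZMod.natCast_zmod_val,
      Nat.cast_one, neg_mul, mul_comm, ZMod.coe_mul_inv_eq_one _ hco, neg_add_cancel]
  let dd : X →* ℂ := (LinearMap.det : Module.End ℂ V →* ℂ).comp (ρ : X →* Module.End ℂ V)
  have hdN : ∀ g, dd g ^ Nat.card X = 1 := fun g => by
    rw [← map_pow, pow_card_eq_one', map_one]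
  let c : X →* ℂ := (powMonoidHom (m * k) : ℂ →* ℂ).comp dd
  have hc : ∀ g, c g ^ p ^ a = 1 := fun g => by
    show (dd g ^ (m * k)) ^ p ^ a = 1
    rw [← pow_mul, show m * k * p ^ a = Nat.card X * k by rw [← hN]; ring, pow_mul, hdN, one_pow]
  have hc0 : ∀ g, c g ≠ 0 := fun g h => by
    have := hc g
    rw [h, zero_pow (pow_pos hp.out.pos a).ne'] at this
    exact zero_ne_one this
  let σ₀ : Representation ℂ X V :=
    { toFun := fun g => c g • ρ g
      map_one' := by rw [map_one, map_one, one_smul]
      map_mul' := fun g h => by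
        rw [map_mul, map_mul, smul_mul_smul_comm] }
  have hσ₀ : ∀ g, σ₀ g = c g • ρ g := fun g => rfl
  have hdet : ∀ g, LinearMap.det (σ₀ g) ^ m = 1 := fun g => by
    rw [hσ₀, LinearMap.det_smul, ← hn]
    show ((dd g ^ (m * k)) ^ n * dd g) ^ m = 1
    obtain ⟨t, ht⟩ := hk
    rw [← pow_mul, ← pow_succ, ← pow_mul,
      show (m * k * n + 1) * m = Nat.card X * t by rw [← hN]; linear_combination m * ht,
      pow_mul, hdN, one_pow]
  set Z := (σ₀ : X →* _).ker with hZ
  have hZscal : ∀ g ∈ Z, ρ g = (c g)⁻¹ • (1 : Module.End ℂ V) := fun g hg => by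
    rw [← show σ₀ g = 1 from hg, hσ₀, smul_smul, inv_mul_cancel₀ (hc0 g), one_smul]
  have hZp : IsPGroup p Z := fun g => ⟨a, Subtype.ext (hinj (by
    rw [SubmonoidClass.coe_pow, map_pow, hZscal _ g.2, smul_pow, one_pow, inv_pow, hc, inv_one,
      one_smul, OneMemClass.coe_one, map_one]))⟩
  have hirr₀ : σ₀.IsIrreducible := by
    rw [isIrreducible_iff] at hirr ⊢
    refine ⟨hirr.1, fun U hU => hirr.2 U fun g v hv => ?_⟩
    have := U.smul_mem (c g)⁻¹ (hU g v hv)
    rwa [hσ₀, LinearMap.smul_apply, smul_smul, inv_mul_cancel₀ (hc0 g), one_smul] at this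
  refine ⟨Z, inferInstance, fun g hg => Subgroup.mem_center_iff.2 fun h => hinj (by
    rw [map_mul, map_mul, hZscal g hg, mul_smul_comm, smul_mul_assoc, one_mul, mul_one]),
    hZp, imageRep σ₀, imageRep_irreducible σ₀ hirr₀, imageRep_injective σ₀,
    fun g => ⟨c g, rfl⟩, fun z hz hzp => ?_, fun hns hns' => hns fun Q => ?_⟩
  · haveI := imageRep_irreducible σ₀ hirr₀
    obtain ⟨c0, hc0'⟩ := CfsgLib.CharScalar.center_scalar (imageRep σ₀) hz
    have hcp : c0 ^ p = 1 := by
      have h1 : (imageRep σ₀ z) ^ p = 1 := by rw [← map_pow, hzp, map_one]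
      rw [hc0', smul_pow, one_pow] at h1
      haveI := CfsgLib.CharScalar.nontrivial_of_irreducible ρ
      exact smul_left_injective ℂ (one_ne_zero (α := Module.End ℂ V)) (h1.trans (one_smul ℂ _).symm)
    obtain ⟨g, rfl⟩ := QuotientGroup.mk_surjective z
    have hcnm : c0 ^ (n * m) = 1 := by
      have h := hdet g
      rw [← imageRep_mk σ₀ g, hc0', LinearMap.det_smul, map_one, mul_one, ← pow_mul] at h
      exact h
    have hgcd : Nat.gcd p (n * m) = 1 := hp.out.coprime_iff_not_dvd.2 hnm
    have hc1 : c0 = 1 := by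
      have := pow_gcd_eq_one.2 ⟨hcp, hcnm⟩
      rwa [hgcd, pow_one] at this
    refine imageRep_injective σ₀ ?_
    rw [hc0', hc1, one_smul, map_one]
  · have h1 := hns' (Q.mapSurjective (QuotientGroup.mk'_surjective Z))
    rw [Sylow.coe_mapSurjective] at h1
    have h2 := h1.comap (QuotientGroup.mk' Z)
    rwa [Subgroup.comap_map_eq, QuotientGroup.ker_mk', sup_eq_left.2 ?_] at h2
    obtain ⟨R, hR⟩ := hZp.exists_le_sylow
    obtain ⟨g, hg⟩ := MulAction.exists_smul_eq X R Q
    intro z hz
    rw [← hg]
    exact ⟨g⁻¹ * z * g, hR (by simpa using (inferInstance : Z.Normal).conj_mem z hz g⁻¹),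
      by simp [mul_assoc]⟩

end CfsgLib.LinSmall
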