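import Cfsg.Agent.Lib.LinSmall.P19H
import Cfsg.Agent.Lib.LinSmall.Normal
import Cfsg.Agent.Lib.LinSmall.Tools
import Cfsg.Agent.Lib.PSubTwo.Linear

/-!
# No irreducible linear group of degree 16 has a Sylow 19-subgroup with three residues
-/

set_option autoImplicit false
set_option linter.unusedSectionVars false
set_option linter.style.haveILetI false
set_option maxHeartbeats 800000

noncomputable section

namespace CfsgLib.LinSmall.P19

open Cfsg CfsgLib.Characters CfsgLib.PrimeDefect CfsgLib.SelfCentralPrime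
open CfsgLib.PSubTwo (sum_res)
open CfsgLib.PSubTwo.Loc (Over exists_over over_unique)
open CfsgLib.SmallDegree (NS)
open scoped ComplexConjugate commutatorElement

universe u

variable {K : Type u} [Group K] [Fintype K]

open scoped Classical in
/-- The sum over the characters above a central one in a class constant. -/
def classSum (x y : K) (μ : IrrCharacter (Subgroup.center K)) : ℂ :=
  ∑ ψ ∈ Finset.univ.filter (fun ψ => Over ψ μ),
    conj ((ψ : K → ℂ) y) * ((ψ : K → ℂ) x * (ψ : K → ℂ) x⁻¹ / (ψ : K → ℂ) 1)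

open scoped Classical in
/-- The class constants, nonnegative, dominate their Fourier transforms on the centre. -/
theorem norm_classSum_le (x y : K) (μ : IrrCharacter (Subgroup.center K))
    (hμ : (μ : Subgroup.center K → ℂ) 1 = 1) :
    ‖classSum x y μ‖ ≤ (classSum x y (principalIrr (Subgroup.center K))).re := by
  haveI := Fintype.ofFinite (Subgroup.center K)
  set o := (Nat.card (Subgroup.center K) : ℝ) with ho
  have ho0 : 0 < o := by rw [ho]; exact_mod_cast Nat.card_pos
  set R : Subgroup.center K → ℂ := fun z => ∑ ψ : IrrCharacter K,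
    conj ((ψ : K → ℂ) (y * z)) * ((ψ : K → ℂ) x * (ψ : K → ℂ) x⁻¹ / (ψ : K → ℂ) 1)
  have hR : ∀ z, ∃ r : ℝ, 0 ≤ r ∧ R z = (r : ℂ) := by
    intro z
    have h := sum_pairs₂ x x⁻¹ (y * (z : K))
    haveI : Nonempty {g : K // IsConj x g} := ⟨⟨x, IsConj.refl x⟩⟩
    haveI : Nonempty {g : K // IsConj x⁻¹ g} := ⟨⟨x⁻¹, IsConj.refl x⁻¹⟩⟩
    have hk1 : (Nat.card {g : K // IsConj x g} : ℂ) ≠ 0 := Nat.cast_ne_zero.2 Nat.card_pos.ne'
    have hk2 : (Nat.card {g : K // IsConj x⁻¹ g} : ℂ) ≠ 0 := Nat.cast_ne_zero.2 Nat.card_pos.ne'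
    refine ⟨(Nat.card K : ℝ) * pairs x x⁻¹ (y * (z : K)) /
      ((Nat.card {g : K // IsConj x g} : ℝ) * Nat.card {g : K // IsConj x⁻¹ g}), by positivity, ?_⟩
    push_cast
    rw [eq_div_iff (mul_ne_zero hk1 hk2), ← h, mul_comm]
  choose r hr0 hr using hR
  choose ν hν hν1 using fun ψ : IrrCharacter K => exists_over ψ
  have hfib : ∀ μ', Finset.univ.filter (fun ψ : IrrCharacter K => ν ψ = μ') =
      Finset.univ.filter (fun ψ => Over ψ μ') := fun μ' => Finset.filter_congr fun ψ _ =>
    ⟨fun h => h ▸ hν ψ, fun h => over_unique (hν ψ) h⟩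
  have hfour : ∀ μ' : IrrCharacter (Subgroup.center K),
      ∑ z : Subgroup.center K, (μ' : Subgroup.center K → ℂ) z * R z = (o : ℂ) * classSum x y μ' := by
    intro μ'
    have e : ∀ (z : Subgroup.center K) (ψ : IrrCharacter K),
        (μ' : Subgroup.center K → ℂ) z *
          (conj ((ψ : K → ℂ) (y * z)) * ((ψ : K → ℂ) x * (ψ : K → ℂ) x⁻¹ / (ψ : K → ℂ) 1)) =
        ((μ' : Subgroup.center K → ℂ) z * conj ((ν ψ : Subgroup.center K → ℂ) z)) *
          (conj ((ψ : K → ℂ) y) * ((ψ : K → ℂ) x * (ψ : K → ℂ) x⁻¹ / (ψ : K → ℂ) 1)) := by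
      intro z ψ
      rw [hν ψ y z, map_mul]
      ring
    simp only [R, Finset.mul_sum, e]
    rw [Finset.sum_comm]
    simp only [← Finset.sum_mul]
    rw [classSum, ← hfib, Finset.sum_filter, Finset.mul_sum]
    refine Finset.sum_congr rfl fun ψ _ => ?_
    have h := classInner_irr μ' (ν ψ)
    rw [classInner, inv_mul_eq_iff_eq_mul₀ (Nat.cast_ne_zero.2 Nat.card_pos.ne')] at h
    rw [h, ho]
    by_cases hp : ν ψ = μ'
    · rw [if_pos hp, if_pos hp.symm]; push_cast; ring
    · rw [if_neg hp, if_neg (Ne.symm hp)]; simp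
  have h1 := hfour μ
  have h2 := hfour (principalIrr (Subgroup.center K))
  simp only [principalIrr_apply, one_mul, hr, ← Complex.ofReal_sum] at h2
  have h3 : (classSum x y (principalIrr (Subgroup.center K))).re = (∑ z, r z) / o := by
    have := congrArg Complex.re h2
    rw [Complex.ofReal_re, Complex.re_ofReal_mul] at this
    rw [this, mul_div_cancel_left₀ _ ho0.ne']
  rw [h3, le_div_iff₀ ho0]
  calc ‖classSum x y μ‖ * o = ‖(o : ℂ) * classSum x y μ‖ := by
        rw [norm_mul, Complex.norm_real, Real.norm_of_nonneg ho0.le, mul_comm]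
    _ = ‖∑ z : Subgroup.center K, (μ : Subgroup.center K → ℂ) z * R z‖ := by rw [h1]
    _ ≤ ∑ z, r z := by
        refine (norm_sum_le _ _).trans (le_of_eq (Finset.sum_congr rfl fun z _ => ?_))
        rw [norm_mul, PSubTwo.norm_linear hμ, one_mul, hr, Complex.norm_real,
          Real.norm_of_nonneg (hr0 z)]

/-- Sums over a group of a function of the cosets. -/
theorem sum_coset_const (N : Subgroup K) [N.Normal] [Fintype (K ⧸ N)] (f : K ⧸ N → ℂ) :
    ∑ g : K, f (g : K ⧸ N) = (Nat.card N : ℂ) * ∑ q : K ⧸ N, f q := by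
  classical
  rw [← Finset.sum_fiberwise Finset.univ (fun g : K => (g : K ⧸ N)), Finset.mul_sum]
  refine Finset.sum_congr rfl fun q _ => ?_
  rw [Finset.sum_congr rfl (g := fun _ => f q) (fun g hg => by
    rw [(Finset.mem_filter.1 hg).2]), Finset.sum_const, nsmul_eq_mul]
  congr 2
  obtain ⟨g₀, rfl⟩ := QuotientGroup.mk_surjective q
  rw [← Fintype.card_subtype, ← Nat.card_eq_fintype_card]
  exact Nat.card_congr
    { toFun := fun g => ⟨g₀⁻¹ * g.1, QuotientGroup.eq.1 g.2.symm⟩
      invFun := fun z => ⟨g₀ * z.1,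
        (QuotientGroup.eq.2 (by rw [inv_mul_cancel_left]; exact z.2)).symm⟩
      left_inv := fun g => Subtype.ext (mul_inv_cancel_left _ _)
      right_inv := fun z => Subtype.ext (inv_mul_cancel_left _ _) }

/-- The decomposition of `χ χ̄` on the quotient by the centre. -/
theorem exists_square_decomp (χ : IrrCharacter K) [Fintype (K ⧸ Subgroup.center K)] :
    ∃ nF : IrrCharacter (K ⧸ Subgroup.center K) → ℕ,
      nF (principalIrr (K ⧸ Subgroup.center K)) = 1 ∧
      ∑ ψ : IrrCharacter (K ⧸ Subgroup.center K),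
        nF ψ * charDegree (ψ : (K ⧸ Subgroup.center K) → ℂ) = charDegree (χ : K → ℂ) ^ 2 ∧
      ∀ g : K, (χ : K → ℂ) g * conj ((χ : K → ℂ) g) =
        ∑ ψ : IrrCharacter (K ⧸ Subgroup.center K),
          (nF ψ : ℂ) * (ψ : (K ⧸ Subgroup.center K) → ℂ) (g : K ⧸ Subgroup.center K) := by
  obtain ⟨n, ρ, hρirr, hρ⟩ := χ.2
  haveI := hρirr
  let τ : Representation ℂ (K ⧸ Subgroup.center K) (Module.End ℂ (Fin n → ℂ)) :=
    QuotientGroup.lift (Subgroup.center K) (ρ.linHom ρ) fun z hz => by
      obtain ⟨s, hs⟩ := CfsgLib.CharScalar.center_scalar ρ hz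
      refine MonoidHom.mem_ker.2 (LinearMap.ext fun f => ?_)
      rw [Representation.linHom_apply]
      refine LinearMap.ext fun v => ?_
      show ρ z (f (ρ z⁻¹ v)) = f v
      have h1 : ρ z (ρ z⁻¹ v) = v := ρ.self_inv_apply z v
      rw [hs, LinearMap.smul_apply, Module.End.one_apply] at h1
      rw [hs, LinearMap.smul_apply, Module.End.one_apply, ← map_smul, h1]
  have hτ : ∀ g : K, τ.character (g : K ⧸ Subgroup.center K) =
      (χ : K → ℂ) g * conj ((χ : K → ℂ) g) := by
    intro g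
    have h : (ρ.linHom ρ).character g = ρ.character g⁻¹ * ρ.character g :=
      Representation.char_linHom ρ ρ g
    rw [← hρ, mul_comm (ρ.character g), ← char_inv_eq_conj ρ g, ← h]
    rfl
  have hFc : IsCharacter (K ⧸ Subgroup.center K) τ.character := isCharacter_character τ
  choose nF hnF using fun ψ : IrrCharacter (K ⧸ Subgroup.center K) =>
    classInner_char_nat hFc (irr_isCharacter ψ)
  have hFsum : ∀ q, τ.character q = ∑ ψ : IrrCharacter (K ⧸ Subgroup.center K),
      (nF ψ : ℂ) * (ψ : (K ⧸ Subgroup.center K) → ℂ) q := by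
    intro q
    refine (congrFun (classFunction_eq_sum (isClassFunction_of_isCharacter hFc)) q).trans ?_
    simp only [Finset.sum_apply, Pi.smul_apply, smul_eq_mul]
    exact Finset.sum_congr rfl fun ψ _ => by rw [hnF ψ]
  refine ⟨nF, ?_, ?_, fun g => by rw [← hτ, hFsum]⟩
  · have h := hnF (principalIrr (K ⧸ Subgroup.center K))
    have hK := classInner_irr χ χ
    rw [if_pos rfl, classInner, inv_mul_eq_one₀ (Nat.cast_ne_zero.2 Nat.card_pos.ne')] at hK
    simp only [classInner, principalIrr_apply, map_one, mul_one] at h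
    have hfib := sum_coset_const (Subgroup.center K) τ.character
    simp only [hτ] at hfib
    rw [← hK, Subgroup.card_eq_card_quotient_mul_card_subgroup (Subgroup.center K)] at hfib
    push_cast at hfib
    have hs : ∑ q, τ.character q = (Nat.card (K ⧸ Subgroup.center K) : ℂ) :=
      mul_left_cancel₀ (Nat.cast_ne_zero.2 (Nat.card_pos (α := Subgroup.center K)).ne')
        (hfib.symm.trans (mul_comm _ _))
    rw [hs, inv_mul_cancel₀ (Nat.cast_ne_zero.2 Nat.card_pos.ne')] at h
    exact_mod_cast h.symm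
  · have h := hτ 1
    rw [QuotientGroup.mk_one, hFsum, ← Chars17.cast_irrDegree χ, map_natCast] at h
    simp only [← Chars17.cast_irrDegree] at h
    rw [sq]
    exact_mod_cast h

variable [hp : Fact (Nat.Prime 19)] {x : K}

/-- **There is no such group.** -/
theorem false_of_nineteen (hx : orderOf x = 19) (hsq : ¬ 19 ^ 2 ∣ Nat.card K)
    (hnn : ∀ H : Subgroup K, H.Normal → Nat.card H ≠ 19) (χ : IrrCharacter K)
    (hfaith : ∀ g : K, (χ : K → ℂ) g = (χ : K → ℂ) 1 → g = 1)
    (hdeg : charDegree (χ : K → ℂ) = 16)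
    (hgen : Subgroup.normalClosure ({x} : Set K) = ⊤) : False := by
  classical
  haveI : Fact (Nat.Prime 11) := ⟨by norm_num⟩
  obtain ⟨D, e, he, -, h2e, -, xm', hxm1, hxmF, hcase⟩ :=
    local_structure hx hsq hnn χ hfaith (by omega)
  rw [hdeg] at hcase
  obtain ⟨he3, hxm0⟩ : e = 3 ∧ xm' 0 = 1 := by omega
  rw [he3] at he
  have hR := range_ne_top D he
  obtain ⟨n, ρ, hρirr, hρ⟩ := χ.2
  haveI := hρirr
  have hn16 : n = 16 := by
    rw [← hdeg]
    refine (LinearTwist.charDegree_eq_of_apply_one ?_).symm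
    rw [← hρ, Representation.char_one, Module.finrank_fin_fun]
  have hρinj : Function.Injective ρ := by
    intro a b hab
    refine (mul_inv_eq_one.1 (hfaith _ ?_))
    rw [← hρ]
    show LinearMap.trace ℂ _ (ρ (a * b⁻¹)) = LinearMap.trace ℂ _ (ρ 1)
    rw [map_mul, hab, ← map_mul, mul_inv_cancel]
  set Z := Subgroup.center K with hZ
  -- perfect
  have hperf : commutator K = ⊤ := by
    have hxK : x ∈ commutator K := by
      by_contra hxn
      have hC := HalfPSL.not_dvd_of_notMem hsq (commutator K)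
        (hx ▸ pow_orderOf_eq_one x) hxn
      obtain ⟨H, hH, hHc⟩ := HalfPSL.exists_normal_of_commute hx hsq fun g =>
        HalfPSL.commute_of_commutator_mem hsq _ (irr_isCharacter χ) hfaith (by omega)
          (commutator K) hC hx (by
            rw [show g * x * g⁻¹ * x * (g * x * g⁻¹)⁻¹ * x⁻¹ = ⁅g * x * g⁻¹, x⁆ from
              (commutatorElement_def _ _).symm]
            exact Subgroup.commutator_mem_commutator (Subgroup.mem_top _) (Subgroup.mem_top _))
      exact hnn H hH hHc
    rw [eq_top_iff, ← hgen]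
    exact Subgroup.normalClosure_le_normal (Set.singleton_subset_iff.2 hxK)
  have hz16 : ∀ z ∈ Z, z ^ 16 = 1 := by
    intro z hz
    let dd : K →* ℂ := (LinearMap.det : Module.End ℂ (Fin n → ℂ) →* ℂ).comp
      (ρ : K →* Module.End ℂ (Fin n → ℂ))
    have hker : commutator K ≤ dd.toHomUnits.ker := Abelianization.commutator_subset_ker _
    have h1 : dd z = 1 := by
      have h := hker (hperf ▸ Subgroup.mem_top z)
      exact congrArg Units.val (MonoidHom.mem_ker.1 h)
    obtain ⟨c, hc⟩ := CfsgLib.CharScalar.center_scalar ρ hz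
    refine hρinj ?_
    rw [map_pow, hc, smul_pow, one_pow, map_one ρ]
    have h2 : LinearMap.det (ρ z) = 1 := h1
    rw [hc, LinearMap.det_smul, Module.finrank_fin_fun, map_one, mul_one, hn16] at h2
    rw [h2, one_smul]
  have hZreg : ∀ q : ℕ, q.Prime → q ≠ 2 → ∀ z ∈ Z, z ^ q = 1 → z = 1 := by
    intro q hq hq2 z hz hzq
    have h := pow_gcd_eq_one.2 ⟨hz16 z hz, hzq⟩
    have hg : Nat.gcd 16 q = 1 := by
      refine Nat.coprime_comm.1 ((hq.coprime_iff_not_dvd).2 fun h => hq2 ?_)
      exact (Nat.prime_dvd_prime_iff_eq hq Nat.prime_two).1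
        (hq.dvd_of_dvd_pow (show q ∣ 2 ^ 4 by simpa using h))
    rwa [hg, pow_one] at h
  haveI hZn : Z.Normal := hZ ▸ inferInstance
  -- the quotient
  set H := K ⧸ Z
  haveI : Fintype H := Fintype.ofFinite H
  set xb : H := (x : H) with hxb
  have hxb_ord : orderOf xb = 19 := by
    refine orderOf_eq_prime (by rw [hxb, ← QuotientGroup.mk_pow, ← hx, pow_orderOf_eq_one,
      QuotientGroup.mk_one]) fun h => D.regular ((QuotientGroup.eq_one_iff x).1 h) (dvd_of_eq hx.symm)
  have hsqH : ¬ 19 ^ 2 ∣ Nat.card H := fun h => hsq (h.trans (Subgroup.card_quotient_dvd_card Z))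
  have hsimple : ∀ N : Subgroup H, N.Normal → N = ⊥ ∨ N = ⊤ := by
    intro N hN
    by_cases hxN : xb ∈ N
    · right
      have h1 : N.comap (QuotientGroup.mk' Z) = ⊤ := by
        rw [eq_top_iff, ← hgen]
        exact Subgroup.normalClosure_le_normal (Set.singleton_subset_iff.2 hxN)
      rw [eq_top_iff]
      intro q _
      obtain ⟨g, rfl⟩ := QuotientGroup.mk_surjective q
      exact (h1 ▸ Subgroup.mem_top g : g ∈ N.comap (QuotientGroup.mk' Z))
    · left
      set N' := N.comap (QuotientGroup.mk' Z)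
      have hN' : ¬ 19 ∣ Nat.card N' :=
        HalfPSL.not_dvd_of_notMem hsq N' (hx ▸ pow_orderOf_eq_one x) hxN
      rw [eq_bot_iff]
      intro q hq
      obtain ⟨g, rfl⟩ := QuotientGroup.mk_surjective q
      have hgx : Commute g x := PrimeDefect.commute_of_small hx hsq _ (irr_isCharacter χ) hfaith
        (by omega) N' hN' (n := g) hq
      refine (QuotientGroup.eq_one_iff g).2 ((D.hV g).2
        ⟨Subgroup.mem_centralizer_singleton_iff.2 hgx, fun h => hN' ?_⟩)
      exact h.trans (Subgroup.orderOf_dvd_natCard _ (show g ∈ N' from hq))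
  have hlift : ∀ (g : K) (h : K), (g : H) = (h : H) → ∃ z ∈ Z, g = h * z := fun g h e =>
    ⟨h⁻¹ * g, QuotientGroup.eq.1 e.symm, (mul_inv_cancel_left _ _).symm⟩
  have hcent : ∀ g : K, (g : H) * xb = xb * (g : H) → Commute g x := by
    intro g hg
    rw [hxb, ← QuotientGroup.mk_mul, ← QuotientGroup.mk_mul] at hg
    obtain ⟨z, hz, hgz⟩ := hlift _ _ hg
    have hconj : g * x * g⁻¹ = x * z := by
      rw [hgz, mul_assoc x g z, Subgroup.mem_center_iff.1 hz g, ← mul_assoc, mul_inv_cancel_right]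
    have h19 : z ^ 19 = 1 := by
      have h := congrArg (· ^ 19) hconj
      simp only [conj_pow, (show Commute x z from Subgroup.mem_center_iff.1 hz x).mul_pow] at h
      rw [show x ^ 19 = 1 from hx ▸ pow_orderOf_eq_one x, one_mul, mul_one, mul_inv_cancel] at h
      exact h.symm
    rw [hZreg 19 hp.out (by norm_num) z hz h19, mul_one, mul_inv_eq_iff_eq_mul] at hconj
    exact hconj
  have hcenterH : Subgroup.center H = ⊥ := by
    refine (hsimple _ inferInstance).resolve_right fun h => ?_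
    have hall : ∀ g : K, Commute g x := fun g =>
      hcent g ((Subgroup.mem_center_iff.1 (h ▸ Subgroup.mem_top (g : H)) xb).symm)
    exact D.regular (Subgroup.mem_center_iff.2 fun g => hall g : x ∈ Z) (dvd_of_eq hx.symm)
  have DH : Data 19 xb (Subgroup.centralizer ({xb} : Set H)) (Subgroup.center H) := by
    refine ⟨hxb_ord, hsqH, rfl, fun q => ?_⟩
    rw [hcenterH, Subgroup.mem_bot]
    constructor
    · rintro rfl
      exact ⟨one_mem _, by rw [orderOf_one]; norm_num⟩
    · rintro ⟨hqC, hqr⟩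
      obtain ⟨g, rfl⟩ := QuotientGroup.mk_surjective q
      have hgC : g ∈ Subgroup.centralizer ({x} : Set K) := Subgroup.mem_centralizer_singleton_iff.2
        (hcent g (Subgroup.mem_centralizer_singleton_iff.1 hqC))
      obtain ⟨i, hi⟩ := D.exists_decomp hgC
      have hgi : (g : H) = ((pw x i : K) : H) := (QuotientGroup.eq.2 hi).symm
      by_cases hi0 : i = 0
      · rw [hgi, hi0, D.pw_zero, QuotientGroup.mk_one]
      · exfalso
        refine hqr ?_
        rw [hgi, pw, QuotientGroup.mk_pow, ← hxb]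
        change 19 ∣ orderOf (pw xb i)
        rw [orderOf_eq_prime (p := 19) (by rw [pw, ← pow_mul, mul_comm, pow_mul,
          orderOf_dvd_iff_pow_eq_one.1 hxb_ord.dvd, one_pow])
          fun h => hi0 ((pw_eq_one_iff hxb_ord i).1 h)]
  have hcardH : Nat.card DH.muHom.range = 3 := by
    rw [← he]
    refine congrArg (fun S : Subgroup (ZMod 19)ˣ => Nat.card S) (SetLike.ext fun u => ?_)
    rw [CData.mem_range_iff DH, CData.mem_range_iff D]
    constructor
    · rintro ⟨q, hq⟩
      obtain ⟨g, rfl⟩ := QuotientGroup.mk_surjective q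
      rw [pw, hxb, ← QuotientGroup.mk_pow, ← QuotientGroup.mk_inv, ← QuotientGroup.mk_mul,
        ← QuotientGroup.mk_mul] at hq
      obtain ⟨z, hz, hgz⟩ := hlift _ _ hq
      refine ⟨g, ?_⟩
      have h19 : z ^ 19 = 1 := by
        have h := congrArg (· ^ 19) hgz
        simp only [conj_pow, (show Commute (x ^ ((u : ZMod 19)).val) z from
          Subgroup.mem_center_iff.1 hz _).mul_pow] at h
        rw [show x ^ 19 = 1 from hx ▸ pow_orderOf_eq_one x, mul_one, mul_inv_cancel, ← pow_mul,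
          mul_comm, pow_mul, show x ^ 19 = 1 from hx ▸ pow_orderOf_eq_one x, one_pow, one_mul] at h
        exact h.symm
      rw [hgz, hZreg 19 hp.out (by norm_num) z hz h19, mul_one]
      rfl
    · rintro ⟨g, hg⟩
      refine ⟨(g : H), ?_⟩
      rw [hxb, ← QuotientGroup.mk_inv, ← QuotientGroup.mk_mul, ← QuotientGroup.mk_mul, hg, pw, pw,
        QuotientGroup.mk_pow]
  have hfaithH : ∀ ψ : IrrCharacter H, ψ ≠ principalIrr H → ∀ g : H,
      (ψ : H → ℂ) g = (ψ : H → ℂ) 1 → g = 1 := by
    intro ψ hψ g hg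
    rcases hsimple (Chars17.irrKer ψ) inferInstance with h | h
    · exact Subgroup.mem_bot.1 (h ▸ Chars17.mem_irrKer.2 hg)
    · exfalso
      refine hψ ?_
      by_contra hne
      have h1 := classInner_irr ψ (principalIrr H)
      rw [if_neg hne, classInner] at h1
      have h2 : ∀ a : H, (ψ : H → ℂ) a * conj ((principalIrr H : H → ℂ) a) = (ψ : H → ℂ) 1 :=
        fun a => by
          rw [Chars17.mem_irrKer.1 (h ▸ Subgroup.mem_top a), principalIrr_apply, map_one, mul_one]
      simp only [h2, Finset.sum_const, Finset.card_univ, nsmul_eq_mul, mul_eq_zero, inv_eq_zero,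
        Nat.cast_eq_zero] at h1
      rcases h1 with h1 | h1 | h1
      · exact Nat.card_pos.ne' h1
      · exact Fintype.card_ne_zero h1
      · exact irr_one_ne_zero ψ h1
  have hxb1 : xb ≠ 1 := fun h => by rw [h, orderOf_one] at hxb_ord; norm_num at hxb_ord
  have hsmall : ∀ ψ : IrrCharacter H, ψ ≠ principalIrr H → 8 < charDegree (ψ : H → ℂ) := by
    intro ψ hψ
    by_contra hle
    obtain ⟨m, τ, -, hτ⟩ := ψ.2
    have hm : charDegree (ψ : H → ℂ) = m := LinearTwist.charDegree_eq_of_apply_one (by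
      rw [← hτ, Representation.char_one, Module.finrank_fin_fun])
    have hinj : Function.Injective τ := by
      intro a b hab
      refine (mul_inv_eq_one.1 (hfaithH ψ hψ _ ?_))
      rw [← hτ]
      show LinearMap.trace ℂ _ (τ (a * b⁻¹)) = LinearMap.trace ℂ _ (τ 1)
      rw [map_mul, hab, ← map_mul, mul_inv_cancel]
    have hns : NS 19 H := ns_of_lt_half τ hinj (by rw [Module.finrank_fin_fun]; omega)
    obtain ⟨S, hS⟩ := (IsPGroup.of_card (p := 19) (n := 1)
      (show Nat.card (Subgroup.zpowers xb) = 19 ^ 1 by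
        rw [Nat.card_zpowers, hxb_ord, pow_one])).exists_le_sylow
    rcases hsimple S (hns S) with h | h
    · rw [h] at hS
      exact hxb1 (Subgroup.mem_bot.1 (hS (Subgroup.mem_zpowers xb)))
    · haveI : Group.IsNilpotent (⊤ : Subgroup H) := h ▸ S.isPGroup'.isNilpotent
      have hab : ∀ a b : H, a * b = b * a := fun a b =>
        congrArg Subtype.val (SmallDegree.pgroup_comm (τ.comp (⊤ : Subgroup H).subtype)
          (hinj.comp (Subgroup.subtype_injective _)) (h ▸ S.isPGroup') (by omega)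
          ⟨a, Subgroup.mem_top a⟩ ⟨b, Subgroup.mem_top b⟩)
      have : xb ∈ Subgroup.center H := Subgroup.mem_center_iff.2 fun a => hab a xb
      rw [hcenterH, Subgroup.mem_bot] at this
      exact hxb1 this
  have h2H : 2 ∣ Nat.card H := by
    have h := CfsgLib.CharScalar.finrank_dvd_index ρ Z
      (fun z hz => CfsgLib.CharScalar.center_scalar ρ hz)
    rw [Module.finrank_fin_fun] at h
    exact (by rw [hn16]; norm_num : 2 ∣ n).trans h
  -- the multiplicities of `χ`
  set nχ : ZMod 19 → ℕ := fun j => CData.xm D χ j with hnχ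
  have hnχ' : ∀ j, nχ j = xm' j := fun j => by
    refine Nat.cast_injective (R := ℂ) (mul_left_cancel₀ (show ((19 : ℕ) : ℂ) ≠ 0 by norm_num) ?_)
    rw [hnχ, CData.xm_eq D χ j, hxmF]
  have hnle : ∀ j, nχ j ≤ 1 := fun j => by rw [hnχ']; exact hxm1 j
  have hnsum : ∑ j, nχ j = 16 := by rw [← hdeg]; exact CData.sum_xm D χ
  set cnt : ZMod 19 → ℕ := fun a => ∑ j, nχ j * nχ (j - a) with hcnt
  have hcnt0 : cnt 0 = 16 := by
    rw [← hnsum]
    refine Finset.sum_congr rfl fun j _ => ?_
    rw [sub_zero]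
    have := hnle j
    interval_cases (nχ j) <;> rfl
  have hcnt13 : ∀ a, 13 ≤ cnt a := by
    intro a
    have h1 : ∑ j, (nχ j + nχ (j - a)) ≤ ∑ j, (nχ j * nχ (j - a) + 1) :=
      Finset.sum_le_sum fun j _ => by
        have h1 := hnle j
        have h2 := hnle (j - a)
        interval_cases (nχ j) <;> interval_cases (nχ (j - a)) <;> omega
    rw [Finset.sum_add_distrib, Finset.sum_add_distrib, Finset.sum_const, Finset.card_univ,
      ZMod.card, smul_eq_mul, hnsum, show ∑ j, nχ (j - a) = 16 from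
        (Equiv.sum_comp (Equiv.subRight a) nχ).trans hnsum] at h1
    simp only [cnt]
    omega
  have hcnttot : ∑ a, cnt a = 256 := by
    simp only [cnt]
    rw [Finset.sum_comm]
    simp only [← Finset.mul_sum]
    have : ∀ j : ZMod 19, ∑ a, nχ (j - a) = 16 := fun j =>
      (Equiv.sum_comp (Equiv.subLeft j) nχ).trans hnsum
    simp only [this, ← Finset.sum_mul, hnsum]
    norm_num
  set c : (ZMod 19)ˣ → ℕ := fun v => cnt (v : ZMod 19) - 13 with hc
  have hc6 : ∑ v, c v = 6 := by
    have h18 : Fintype.card (ZMod 19)ˣ = 18 := ZMod.card_units 19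
    have h := sum_res cnt
    rw [hcnttot, hcnt0] at h
    have h' : ∑ v, c v + ∑ _v : (ZMod 19)ˣ, 13 = ∑ v : (ZMod 19)ˣ, cnt (v : ZMod 19) := by
      rw [← Finset.sum_add_distrib]
      exact Finset.sum_congr rfl fun v _ => Nat.sub_add_cancel (hcnt13 _)
    rw [Finset.sum_const, Finset.card_univ, h18, smul_eq_mul] at h'
    omega
  -- `χ χ̄` on the quotient
  obtain ⟨nF, hn1, hF1', hFχ⟩ := exists_square_decomp χ
  have hF1 : ∑ ψ : IrrCharacter H, nF ψ * charDegree (ψ : H → ℂ) = 256 := by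
    rw [hF1', hdeg]; norm_num
  set F : H → ℂ := fun q => ∑ ψ : IrrCharacter H, (nF ψ : ℂ) * (ψ : H → ℂ) q with hFdef
  have hFsum : ∀ q : H, F q = ∑ ψ : IrrCharacter H, (nF ψ : ℂ) * (ψ : H → ℂ) q := fun q => rfl
  have hτ : ∀ g : K, F (g : H) = (χ : K → ℂ) g * conj ((χ : K → ℂ) g) := fun g => (hFχ g).symm
  have hmult : ∀ a : ZMod 19, ∑ ψ : IrrCharacter H, nF ψ * CData.xm DH ψ a = cnt a := by
    intro a
    have e1 : ((19 : ℕ) : ℂ) * ((∑ ψ : IrrCharacter H, nF ψ * CData.xm DH ψ a : ℕ) : ℂ) =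
        ∑ i : ZMod 19, F (pw xb i) * ZMod.stdAddChar (i * -a) := by
      rw [Nat.cast_sum, Finset.mul_sum]
      simp only [hFsum, Finset.sum_mul]
      rw [Finset.sum_comm]
      refine Finset.sum_congr rfl fun ψ _ => ?_
      rw [Nat.cast_mul, mul_left_comm, CData.xm_eq DH, Finset.mul_sum]
      exact Finset.sum_congr rfl fun i _ => (mul_assoc _ _ _).symm
    refine Nat.cast_injective (R := ℂ)
      (mul_left_cancel₀ (show ((19 : ℕ) : ℂ) ≠ 0 by norm_num) (e1.trans ?_))
    simp only [cnt, Nat.cast_sum, Nat.cast_mul, Finset.mul_sum]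
    have hv : ∀ i : ZMod 19, F (pw xb i) =
        (∑ j, (nχ j : ℂ) * ZMod.stdAddChar (i * j)) *
          ∑ k, (nχ k : ℂ) * ZMod.stdAddChar (-i * k) := by
      intro i
      rw [pw, hxb, ← QuotientGroup.mk_pow, hτ]
      change (χ : K → ℂ) (pw x i) * conj ((χ : K → ℂ) (pw x i)) = _
      rw [← irr_apply_inv χ, ← D.pw_neg, CData.value_pw D χ i, CData.value_pw D χ (-i)]
    have e2 : ∀ i : ZMod 19, F (pw xb i) * ZMod.stdAddChar (i * -a) =
        ∑ j, ∑ k, ((nχ j : ℂ) * (nχ k : ℂ)) * ZMod.stdAddChar (i * (j - a - k)) := by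
      intro i
      rw [hv, Finset.sum_mul_sum, Finset.sum_mul]
      refine Finset.sum_congr rfl fun j _ => ?_
      rw [Finset.sum_mul]
      refine Finset.sum_congr rfl fun k _ => ?_
      rw [show i * (j - a - k) = i * j + (-i * k + i * -a) by ring, AddChar.map_add_eq_mul,
        AddChar.map_add_eq_mul]
      ring
    simp only [e2]
    rw [Finset.sum_comm]
    refine Finset.sum_congr rfl fun j _ => ?_
    rw [Finset.sum_comm, Finset.sum_eq_single (j - a)]
    · rw [← Finset.mul_sum, sum_std, if_pos (sub_self (j - a))]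
      push_cast; ring
    · intro k _ hk
      rw [← Finset.mul_sum, sum_std,
        if_neg (fun h : j - a - k = 0 => hk (sub_eq_zero.1 h).symm), mul_zero]
    · exact fun h => absurd (Finset.mem_univ _) h
  have hdiff : ∀ v : (ZMod 19)ˣ, ∑ ψ : IrrCharacter H,
      (nF ψ : ℤ) * ((CData.xm DH ψ (v : ZMod 19) : ℤ) - CData.xm DH ψ 0) = (c v : ℤ) - 3 := by
    intro v
    simp only [mul_sub, Finset.sum_sub_distrib, ← Nat.cast_mul, ← Nat.cast_sum, hmult, hcnt0, hc,
      Nat.cast_sub (hcnt13 _)]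
    push_cast; ring
  obtain ⟨h11H, hmain⟩ := principal DH F nF c hcardH hcenterH hfaithH hsmall h2H hFsum hF1 hn1 hc6 hdiff
  -- the family of `χ`
  obtain ⟨μ, hμ, hμ1⟩ := exists_over χ
  obtain ⟨Φ⟩ := CData.exists_cfam D μ
  obtain ⟨u₀, hu₀⟩ : ∃ u, Φ.θ u = χ := by
    have hnot : ∀ s : ℤ, (∀ v : (ZMod 19)ˣ, (nχ (v : ZMod 19) : ℤ) = s) → False := by
      intro s hs
      have h := sum_res nχ
      rw [hnsum, hnχ' 0, hxm0] at h
      have h18 : Fintype.card (ZMod 19)ˣ = 18 := ZMod.card_units 19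
      have h' := congrArg (Nat.cast : ℕ → ℤ) h
      push_cast at h'
      rw [Finset.sum_congr rfl fun v _ => hs v, Finset.sum_const, Finset.card_univ, h18,
        nsmul_eq_mul] at h'
      push_cast at h'
      omega
    rcases Φ.cover χ hμ with h | h | h
    · exact (hnot _ fun v => Φ.xm_X χ h v).elim
    · exact h
    · exact (hnot _ fun v => congrArg (Nat.cast : ℕ → ℤ) (h _)).elim
  have hx11 : ¬ 11 ∣ orderOf x := by rw [hx]; norm_num
  have hχy : ∀ y : K, orderOf y = 11 → (χ : K → ℂ) y = 5 := by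
    intro y hy
    obtain ⟨m, hm, hv⟩ := prime_value χ hy fun i hi => by
      obtain ⟨k, hk, hkfix, hky⟩ := exists_exp (G := K) (r := i.val) (fun h => hi (by
        rw [← ZMod.natCast_zmod_val i, (ZMod.natCast_eq_zero_iff _ _).2 h]))
      rw [pw, ← hky y hy, ← hu₀]
      refine Φ.θ_pow hR hk (hkfix x hx11) (fun z hz => hkfix z fun h => ?_) u₀ y
      have : orderOf z ∣ 16 := orderOf_dvd_of_pow_eq_one (hz16 z hz)
      exact absurd (h.trans this) (by norm_num)
    rw [hdeg] at hm hv
    have hm0 : m ≠ 0 := fun h => by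
      have hy1 : y = 1 := hfaith y (by
        rw [hv, h, ← Chars17.cast_irrDegree χ, hdeg]; norm_num)
      rw [hy1, orderOf_one] at hy
      norm_num at hy
    have hm1 : m = 1 := by omega
    rw [hv, hm1]; norm_num
  obtain ⟨y, hy⟩ := exists_prime_orderOf_dvd_card' 11
    (h11H.trans (Subgroup.card_quotient_dvd_card Z) : 11 ∣ Nat.card K)
  have hy19 : ¬ 19 ∣ orderOf y := by rw [hy]; norm_num
  have hyb : orderOf (y : H) = 11 := by
    refine orderOf_eq_prime (by rw [← QuotientGroup.mk_pow,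
      orderOf_dvd_iff_pow_eq_one.1 hy.dvd, QuotientGroup.mk_one]) fun h => ?_
    have h1 := hZreg 11 (by norm_num) (by norm_num) y ((QuotientGroup.eq_one_iff y).1 h)
      (orderOf_dvd_iff_pow_eq_one.1 hy.dvd)
    rw [h1, orderOf_one] at hy
    norm_num at hy
  have hF25 : ∀ q : H, orderOf q = 11 → F q = 25 := by
    intro q hq
    obtain ⟨g, rfl⟩ := QuotientGroup.mk_surjective q
    have hq11 : (g : H) ^ 11 = 1 := orderOf_dvd_iff_pow_eq_one.1 hq.dvd
    have hgZ : g ^ 11 ∈ Z := (QuotientGroup.eq_one_iff _).1 (by rw [QuotientGroup.mk_pow, hq11])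
    have hg' : ((g ^ 144 : K) : H) = (g : H) := by
      rw [QuotientGroup.mk_pow, show 144 = 11 * 13 + 1 from rfl, pow_succ, pow_mul, hq11, one_pow,
        one_mul]
    have hord : orderOf (g ^ 144) = 11 := by
      refine orderOf_eq_prime ?_ fun h => ?_
      · rw [← pow_mul, show 144 * 11 = 11 * 16 * 9 from rfl, pow_mul, pow_mul, hz16 _ hgZ, one_pow]
      · rw [h, QuotientGroup.mk_one] at hg'
        rw [← hg', orderOf_one] at hq
        norm_num at hq
    rw [← hg', hτ, hχy _ hord, map_ofNat]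
    norm_num
  obtain ⟨P, hP2, hP⟩ := hmain (y : H) hyb hF25
  -- the two class sums
  have hprin : classSum x y (principalIrr Z) = (P : ℂ) := by
    rw [← hP, classSum]
    symm
    refine Finset.sum_bij (fun η _ => Chars17.infl Z η) (fun η _ => ?_)
      (fun η _ η' _ h => Chars17.infl_injective _ h) (fun ψ hψ => ?_) (fun η _ => ?_)
    · refine Finset.mem_filter.2 ⟨Finset.mem_univ _, fun g z => ?_⟩
      rw [Chars17.infl_apply, Chars17.infl_apply, QuotientGroup.mk_mul,
        (QuotientGroup.eq_one_iff (z : K)).2 z.2, mul_one, principalIrr_apply, mul_one]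
    · have hker : Z ≤ Chars17.irrKer ψ := fun z hz => Chars17.mem_irrKer.2 (by
        have h := (Finset.mem_filter.1 hψ).2 1 ⟨z, hz⟩
        rw [one_mul, principalIrr_apply, mul_one] at h
        exact h)
      obtain ⟨η, hη⟩ := Chars17.exists_infl_eq (N := Z) hker
      exact ⟨η, Finset.mem_univ _, hη⟩
    · simp only [Chars17.infl_apply, QuotientGroup.mk_inv, QuotientGroup.mk_one]
      rfl
  have hle := norm_classSum_le x y μ hμ1
  rw [hprin, Complex.ofReal_re] at hle
  have hs := Φ.sum_over (fun ψ : IrrCharacter K =>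
    conj ((ψ : K → ℂ) y) * ((ψ : K → ℂ) x * (ψ : K → ℂ) x⁻¹ / (ψ : K → ℂ) 1))
    (fun ψ _ hcst => by
      have := CData.value_const D hcst (i := 1) one_ne_zero
      rw [pw_one] at this
      rw [this, zero_mul, zero_div, mul_zero])
  have hterm : ∀ u, conj ((Φ.θ u : K → ℂ) y) *
      ((Φ.θ u : K → ℂ) x * (Φ.θ u : K → ℂ) x⁻¹ / (Φ.θ u : K → ℂ) 1) =
      5 / 16 * (CData.eta D (u : ZMod 19) * conj (CData.eta D (u : ZMod 19))) := by
    intro u
    have hxu := Φ.value_θ u (i := 1) one_ne_zero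
    rw [pw_one, one_mul] at hxu
    rw [irr_apply_inv, Φ.θ_regular hy19 u u₀,
      Φ.θ_regular (y := 1) (by rw [orderOf_one]; norm_num) u u₀, hu₀, hχy y hy,
      ← Chars17.cast_irrDegree χ, hdeg, hxu, map_mul, map_intCast, map_ofNat]
    rcases Φ.ε_spec with he' | he' <;> rw [he'] <;> push_cast <;> ring
  rw [Finset.sum_congr rfl fun u _ => hterm u, ← Finset.mul_sum, CData.sum_eta_conj D, he] at hs
  rw [← classSum] at hs
  have hXle : ‖∑ ψ ∈ Φ.X, conj ((ψ : K → ℂ) y) *
      ((ψ : K → ℂ) x * (ψ : K → ℂ) x⁻¹ / (ψ : K → ℂ) 1)‖ ≤ 3 := by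
    refine (norm_sum_le _ _).trans ((Finset.sum_le_sum (g := fun _ => (1 : ℝ)) fun ψ hψ => ?_).trans ?_)
    · have hxψ := Φ.value_X hψ (i := 1) one_ne_zero
      rw [pw_one] at hxψ
      rw [irr_apply_inv, hxψ, map_intCast]
      have hsq : (Φ.sign ψ : ℂ) * (Φ.sign ψ : ℂ) = 1 := by
        rcases Φ.sign_spec ψ hψ with h | h <;> simp [h]
      obtain ⟨m, σ, -, hσ⟩ := ψ.2
      have hb := norm_char_le σ y
      have h1 : (ψ : K → ℂ) 1 = (m : ℂ) := by
        rw [← hσ, Representation.char_one, Module.finrank_fin_fun]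
      have hm : (0 : ℝ) < m := by
        have := irr_one_ne_zero ψ
        rw [h1] at this
        exact_mod_cast Nat.pos_of_ne_zero fun h => this (by simp [h])
      rw [hσ, Module.finrank_fin_fun] at hb
      rw [hsq, h1, norm_mul, Complex.norm_conj, norm_div, norm_one, Complex.norm_natCast,
        mul_one_div, div_le_one hm]
      exact hb
    · rw [Finset.sum_const, Φ.card_X, he, nsmul_eq_mul]
      norm_num
  generalize classSum x y μ = S at hs hle
  generalize (∑ ψ ∈ Φ.X, conj ((ψ : K → ℂ) y) *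
      ((ψ : K → ℂ) x * (ψ : K → ℂ) x⁻¹ / (ψ : K → ℂ) 1)) = T at hs hXle
  have hS : S = 5 + T := by
    push_cast at hs
    linear_combination hs / 3
  have h5 : ‖(5 : ℂ)‖ ≤ ‖S‖ + ‖T‖ := by
    have : (5 : ℂ) = S - T := by rw [hS]; ring
    rw [this]
    exact norm_sub_le S T
  norm_num at h5
  linarith

end CfsgLib.LinSmall.P19
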