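import Cfsg.Agent.Lib.LinSmall.CLoc
import Cfsg.Agent.Lib.LinSmall.Num19
import Cfsg.Agent.Lib.LinSmall.Local
import Cfsg.Agent.Lib.Characters.Scalar

/-!
# The principal family at the prime 19 with three residues

A simple group with such a family and a character of degree 256 with the multiplicities of
`χ χ̄`, `χ` of degree 16, has degrees 1, 77, 56 and six times 22; then the class constant of an
element of order 11 is small.
-/

set_option autoImplicit false
set_option linter.unusedSectionVars false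
set_option linter.style.haveILetI false
set_option maxHeartbeats 800000

noncomputable section

namespace CfsgLib.LinSmall.P19

open Cfsg CfsgLib.Characters CfsgLib.PrimeDefect CfsgLib.SelfCentralPrime
open CfsgLib.PSubTwo (sum_res)
open CfsgLib.PSubTwo.Loc (Over exists_over over_unique)
open scoped ComplexConjugate

universe u

theorem zmod_two_eq_one : ∀ i : ZMod 2, i ≠ 0 → i = 1 := by decide

theorem neg_one_ne_one : (-1 : ZMod 19) ≠ 1 := by decide

/-- An element of prime order `q` on whose nontrivial powers the character is constant. -/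
theorem prime_value {G : Type u} [Group G] [Fintype G] {q : ℕ} [hq : Fact q.Prime]
    (ψ : IrrCharacter G) {y : G} (hy : orderOf y = q)
    (hc : ∀ i : ZMod q, i ≠ 0 → (ψ : G → ℂ) (pw y i) = (ψ : G → ℂ) y) :
    ∃ m : ℕ, (q - 1) * m ≤ charDegree (ψ : G → ℂ) ∧
      (ψ : G → ℂ) y = (((charDegree (ψ : G → ℂ) : ℤ) - q * m : ℤ) : ℂ) := by
  classical
  obtain ⟨n, ρ, -, hρ⟩ := ψ.2
  obtain ⟨b, j, -, hj⟩ := exists_exponents hy ρ
  set c : ZMod q → ℕ := fun a => (Finset.univ.filter fun l => j l = a).card with hcdef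
  set v := (ψ : G → ℂ) y
  have hd : (ψ : G → ℂ) 1 = (charDegree (ψ : G → ℂ) : ℂ) := (Chars17.cast_irrDegree ψ).symm
  have hF : ∀ a, (q : ℂ) * (c a : ℂ) =
      (charDegree (ψ : G → ℂ) : ℂ) - v + v * if a = 0 then (q : ℂ) else 0 := by
    intro a
    rw [hcdef, hj a, hρ]
    have e : ∀ i : ZMod q, (ψ : G → ℂ) (pw y i) * ZMod.stdAddChar (i * -a) =
        v * ZMod.stdAddChar (i * -a) +
          if i = 0 then (charDegree (ψ : G → ℂ) : ℂ) - v else 0 := by
      intro i
      split_ifs with hi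
      · subst hi
        rw [show pw y (0 : ZMod q) = 1 from (pw_eq_one_iff hy 0).2 rfl, hd, zero_mul,
          AddChar.map_zero_eq_one]
        ring
      · rw [hc i hi, add_zero]
    simp only [e, Finset.sum_add_distrib, Finset.sum_ite_eq', Finset.mem_univ, if_true,
      ← Finset.mul_sum, sum_std, neg_eq_zero]
    split_ifs <;> ring
  have hconst : ∀ u : (ZMod q)ˣ, c (u : ZMod q) = c 1 := by
    intro u
    have h1 := hF (u : ZMod q)
    rw [if_neg u.ne_zero] at h1
    have h2 := hF 1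
    rw [if_neg one_ne_zero, ← h1] at h2
    exact_mod_cast (mul_left_cancel₀ (Nat.cast_ne_zero.2 hq.out.ne_zero) h2).symm
  have hsum : ∑ a : ZMod q, c a = charDegree (ψ : G → ℂ) := by
    simp only [hcdef]
    rw [← Finset.card_eq_sum_card_fiberwise (fun l _ => Finset.mem_univ (j l)), Finset.card_univ,
      Fintype.card_fin, Module.finrank_fin_fun]
    refine (LinearTwist.charDegree_eq_of_apply_one ?_).symm
    rw [← hρ, Representation.char_one, Module.finrank_fin_fun]
  refine ⟨c 1, ?_, ?_⟩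
  · rw [← hsum, sum_res c, Finset.sum_congr rfl fun u _ => hconst u, Finset.sum_const,
      Finset.card_univ, ZMod.card_units, smul_eq_mul]
    omega
  · have h1 := hF 1
    rw [if_neg one_ne_zero] at h1
    push_cast
    linear_combination h1

/-- An exponent fixing elements of order prime to 11 and acting as `r` on those of order 11. -/
theorem exists_exp {G : Type u} [Group G] [Fintype G] {r : ℕ} (hr : ¬ 11 ∣ r) :
    ∃ k : ℕ, k.Coprime (Nat.card G) ∧ (∀ g : G, ¬ 11 ∣ orderOf g → g ^ k = g) ∧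
      ∀ y : G, orderOf y = 11 → y ^ k = y ^ r := by
  haveI : Fact (Nat.Prime 11) := ⟨by norm_num⟩
  set a := (Nat.card G).factorization 11 with ha
  set m := Nat.card G / 11 ^ a with hm
  have hN : 11 ^ a * m = Nat.card G := Nat.ordProj_mul_ordCompl_eq_self _ 11
  have hcop : Nat.Coprime m (11 ^ (a + 1)) := Nat.Coprime.pow_right _
    (Nat.coprime_comm.1 (Nat.coprime_ordCompl (by norm_num) Nat.card_pos.ne'))
  obtain ⟨k, hk1, hk2⟩ := Nat.chineseRemainder hcop 1 r
  have hk11 : k ≡ r [MOD 11] := hk2.of_dvd (dvd_pow_self 11 (Nat.succ_ne_zero a))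
  refine ⟨k, ?_, fun g hg => ?_, fun y hy => ?_⟩
  · rw [← hN]
    refine Nat.Coprime.mul_right (Nat.Coprime.pow_right _ ?_) ?_
    · refine Nat.coprime_comm.1 ((by norm_num : Nat.Prime 11).coprime_iff_not_dvd.2 fun h => hr ?_)
      exact (hk11.dvd_iff dvd_rfl).1 h
    · exact (Nat.ModEq.gcd_eq hk1).trans (Nat.gcd_one_left m)
  · have hd : orderOf g ∣ m := by
      have h1 : orderOf g ∣ 11 ^ a * m := hN ▸ orderOf_dvd_natCard g
      exact (Nat.Coprime.pow_right _
        (Nat.coprime_comm.1 ((by norm_num : Nat.Prime 11).coprime_iff_not_dvd.2 hg))).dvd_of_dvd_mul_left h1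
    conv_rhs => rw [← pow_one g]
    exact pow_eq_pow_iff_modEq.2 (hk1.of_dvd hd)
  · exact pow_eq_pow_iff_modEq.2 (hy.symm ▸ hk11)

variable {H : Type u} [Group H] [Fintype H] [hp : Fact (Nat.Prime 19)] {x : H}
variable (D : Data 19 x (Subgroup.centralizer ({x} : Set H)) (Subgroup.center H))

theorem range_ne_top (hcard : Nat.card D.muHom.range = 3) : D.muHom.range ≠ ⊤ := fun h => by
  have h1 : Nat.card (⊤ : Subgroup (ZMod 19)ˣ) = 18 := by
    rw [Subgroup.card_top, Nat.card_eq_fintype_card, ZMod.card_units]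
  rw [← h, hcard] at h1
  omega

/-- A sum of three terms. -/
theorem sum_three {α M : Type*} [DecidableEq α] [AddCommMonoid M] {a b c : α} (hab : a ≠ b)
    (hac : a ≠ c) (hbc : b ≠ c) (f : α → M) : ∑ i ∈ ({a, b, c} : Finset α), f i = f a + (f b + f c) := by
  rw [Finset.sum_insert (by simp [hab, hac]), Finset.sum_pair hbc]

open scoped Classical in
theorem sum_theta {μ : IrrCharacter (Subgroup.center H)} (Φ : CData.CFam D μ)
    (hcard : Nat.card D.muHom.range = 3) (f : IrrCharacter H → ℕ) :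
    3 * ∑ ψ ∈ Finset.univ.image Φ.θ, f ψ = ∑ u : (ZMod 19)ˣ, f (Φ.θ u) := by
  rw [← Finset.sum_fiberwise_of_maps_to (g := Φ.θ) (t := Finset.univ.image Φ.θ)
    (fun u _ => Finset.mem_image_of_mem _ (Finset.mem_univ u)), Finset.mul_sum]
  refine Finset.sum_congr rfl fun ψ hψ => ?_
  obtain ⟨u, -, rfl⟩ := Finset.mem_image.1 hψ
  rw [Finset.sum_congr rfl (g := fun _ => f (Φ.θ u)) (fun v hv => by
    rw [(Finset.mem_filter.1 hv).2]), Finset.sum_const, smul_eq_mul]
  congr 1
  rw [Finset.card_filter, ← hcard, Nat.card_eq_fintype_card, ← Finset.card_univ,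
    Finset.card_eq_sum_ones (Finset.univ : Finset D.muHom.range),
    ← CData.sum_coset D u (fun _ => 1)]
  exact Finset.sum_congr rfl fun v _ => if_congr (by rw [← Φ.θ_eq, eq_comm]) rfl rfl

open scoped Classical in
theorem theta_le {μ : IrrCharacter (Subgroup.center H)} (Φ : CData.CFam D μ)
    (hcard : Nat.card D.muHom.range = 3) (f : IrrCharacter H → ℕ) :
    3 * ∑ ψ ∈ Φ.X, f ψ + ∑ u : (ZMod 19)ˣ, f (Φ.θ u) ≤ 3 * ∑ ψ : IrrCharacter H, f ψ := by
  rw [← sum_theta D Φ hcard f, ← mul_add]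
  refine Nat.mul_le_mul_left _ ?_
  rw [← Finset.sum_union]
  · exact Finset.sum_le_sum_of_subset_of_nonneg (Finset.subset_univ _) fun _ _ _ => Nat.zero_le _
  · rw [Finset.disjoint_left]
    intro ψ h1 h2
    obtain ⟨u, -, rfl⟩ := Finset.mem_image.1 h2
    exact Φ.θ_notMem u h1

variable (F : H → ℂ) (nF : IrrCharacter H → ℕ) (c : (ZMod 19)ˣ → ℕ)

include D in
open scoped Classical in
/-- The conclusion for the principal family. -/
theorem principal (hcard : Nat.card D.muHom.range = 3) (hZ : Subgroup.center H = ⊥)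
    (hfaith : ∀ ψ : IrrCharacter H, ψ ≠ principalIrr H → ∀ g : H, (ψ : H → ℂ) g = (ψ : H → ℂ) 1 → g = 1)
    (hsmall : ∀ ψ : IrrCharacter H, ψ ≠ principalIrr H → 8 < charDegree (ψ : H → ℂ))
    (h2 : 2 ∣ Nat.card H)
    (hF : ∀ g : H, F g = ∑ ψ : IrrCharacter H, (nF ψ : ℂ) * (ψ : H → ℂ) g)
    (hF1 : ∑ ψ : IrrCharacter H, nF ψ * charDegree (ψ : H → ℂ) = 256)
    (hn1 : nF (principalIrr H) = 1) (hc : ∑ v, c v = 6)
    (hdiff : ∀ v : (ZMod 19)ˣ, ∑ ψ : IrrCharacter H,
      (nF ψ : ℤ) * ((CData.xm D ψ (v : ZMod 19) : ℤ) - CData.xm D ψ 0) = (c v : ℤ) - 3) :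
    11 ∣ Nat.card H ∧ ∀ y : H, orderOf y = 11 →
      (∀ y' : H, orderOf y' = 11 → F y' = 25) →
      ∃ P : ℝ, P < 2 ∧ ∑ ψ : IrrCharacter H,
        conj ((ψ : H → ℂ) y) * ((ψ : H → ℂ) x * (ψ : H → ℂ) x⁻¹ / (ψ : H → ℂ) 1) = (P : ℂ) := by
  haveI : Fact (Nat.Prime 2) := ⟨Nat.prime_two⟩
  haveI : Fact (Nat.Prime 11) := ⟨by norm_num⟩
  have hR := range_ne_top D hcard
  set μ := principalIrr (Subgroup.center H)
  obtain ⟨Φ⟩ := CData.exists_cfam D μ
  have hover : ∀ ψ : IrrCharacter H, Over ψ μ := fun ψ g z => by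
    have hz1 : (z : H) = 1 := by rw [← Subgroup.mem_bot, ← hZ]; exact z.2
    rw [hz1, mul_one, show (μ : Subgroup.center H → ℂ) z = 1 from principalIrr_apply _, mul_one]
  have hfilt : Finset.univ.filter (fun ψ : IrrCharacter H => Over ψ μ) = Finset.univ :=
    Finset.filter_true_of_mem fun ψ _ => hover ψ
  set one := principalIrr H
  have hpx : ∀ i : ZMod 19, i ≠ 0 → (one : H → ℂ) (pw x i) = 1 := fun i _ => principalIrr_apply _
  -- the principal character
  have hone : ∀ j : ZMod 19, CData.xm D one j = if j = 0 then 1 else 0 := by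
    intro j
    refine Nat.cast_injective (R := ℂ) (mul_left_cancel₀ (show ((19 : ℕ) : ℂ) ≠ 0 by norm_num) ?_)
    rw [CData.xm_eq D one j]
    simp only [one, principalIrr_apply, one_mul, sum_std, neg_eq_zero]
    split_ifs <;> simp
  have honeX : one ∈ Φ.X := by
    obtain ⟨w, hw⟩ : ∃ w : (ZMod 19)ˣ, w ∉ D.muHom.range := by
      by_contra h
      push Not at h
      exact hR (eq_top_iff.2 fun w _ => h w)
    rcases Φ.cover one (hover _) with h | ⟨u, hu⟩ | h
    · exact h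
    · exfalso
      have h1 := Φ.xm_θ_notMem u (u * w) (by rwa [inv_mul_cancel_left])
      have h2 := Φ.xm_θ_mem u u (by rw [inv_mul_cancel]; exact one_mem _)
      rw [hu, hone, if_neg (Units.ne_zero _)] at h1 h2
      rcases Φ.ε_spec with he | he <;> omega
    · exfalso
      have h1 := h 1
      rw [hone, hone, if_neg one_ne_zero, if_pos rfl] at h1
      omega
  have hsone : Φ.sign one = 1 := by
    have h1 := Φ.xm_X one honeX 1
    rw [hone, hone, if_neg (Units.ne_zero _), if_pos rfl] at h1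
    omega
  obtain ⟨A, B, hAB, hX2⟩ := Finset.card_eq_two.1 (show (Φ.X.erase one).card = 2 by
    rw [Finset.card_erase_of_mem honeX, Φ.card_X, hcard])
  have hA1 : A ≠ one := Finset.ne_of_mem_erase (hX2 ▸ Finset.mem_insert_self A _)
  have hB1 : B ≠ one := Finset.ne_of_mem_erase
    (hX2 ▸ Finset.mem_insert_of_mem (Finset.mem_singleton_self B))
  have hX : Φ.X = {one, A, B} := by rw [← hX2, Finset.insert_erase honeX]
  have hAX : A ∈ Φ.X := by rw [hX]; simp
  have hBX : B ∈ Φ.X := by rw [hX]; simp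
  set θ0 := Φ.θ 1 with hθ0
  have hθ1 : ∀ u, Φ.θ u ≠ one := fun u h => Φ.θ_notMem u (h ▸ honeX)
  set dA := charDegree (A : H → ℂ) with hdA
  set dB := charDegree (B : H → ℂ) with hdB
  set dT := charDegree (θ0 : H → ℂ) with hdT
  have hcA : (dA : ℤ) = (19 : ℕ) * ((CData.xm D A 0 : ℤ) - Φ.sign A) + Φ.sign A := Φ.deg_X hAX
  have hcB : (dB : ℤ) = (19 : ℕ) * ((CData.xm D B 0 : ℤ) - Φ.sign B) + Φ.sign B := Φ.deg_X hBX
  have hcT : (dT : ℤ) = (19 : ℕ) * (Φ.m : ℤ) + (3 : ℕ) * Φ.ε := by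
    rw [hdT, hθ0, Φ.deg_θ, hcard]
  have hA8 : 8 < dA := hsmall A hA1
  have hB8 : 8 < dB := hsmall B hB1
  have hT8 : 8 < dT := hsmall θ0 (hθ1 1)
  have hrel : ∀ g : H, ¬ 19 ∣ orderOf g →
      1 + (Φ.sign A : ℂ) * (A : H → ℂ) g + (Φ.sign B : ℂ) * (B : H → ℂ) g =
        (Φ.ε : ℂ) * (θ0 : H → ℂ) g := by
    intro g hg
    rw [hθ0, ← Φ.relation g hg 1, hX, sum_three hA1.symm hB1.symm hAB, hsone]
    simp only [one, principalIrr_apply]
    push_cast; ring
  have hreg1 : ¬ 19 ∣ orderOf (1 : H) := by rw [orderOf_one]; norm_num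
  have hrel1 : 1 + Φ.sign A * (dA : ℤ) + Φ.sign B * (dB : ℤ) = Φ.ε * (dT : ℤ) := by
    have h := hrel 1 hreg1
    rw [← Chars17.cast_irrDegree A, ← Chars17.cast_irrDegree B, ← Chars17.cast_irrDegree θ0] at h
    exact_mod_cast h
  -- the multiplicities
  set a := nF A
  set b := nF B
  have hdiff' : ∀ v : (ZMod 19)ˣ,
      (c v : ℤ) - 2 = Φ.ε * (nF (Φ.θ v) : ℤ) - Φ.sign A * a - Φ.sign B * b := by
    intro v
    have h := Φ.sum_over (fun ψ => (nF ψ : ℤ) * ((CData.xm D ψ (v : ZMod 19) : ℤ) - CData.xm D ψ 0))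
      (fun ψ _ hcst => by rw [hcst]; ring)
    rw [hfilt, hdiff v, hX, sum_three hA1.symm hB1.symm hAB, hcard, Φ.xm_X one honeX,
      Φ.xm_X A hAX, Φ.xm_X B hBX, hsone, hn1] at h
    have h4 : ∑ u : (ZMod 19)ˣ, (nF (Φ.θ u) : ℤ) *
        ((CData.xm D (Φ.θ u) (v : ZMod 19) : ℤ) - CData.xm D (Φ.θ u) 0) =
        3 * ((nF (Φ.θ v) : ℤ) * Φ.ε) := by
      have e : ∀ u : (ZMod 19)ˣ, (nF (Φ.θ u) : ℤ) *
          ((CData.xm D (Φ.θ u) (v : ZMod 19) : ℤ) - CData.xm D (Φ.θ u) 0) =
          if v⁻¹ * u ∈ D.muHom.range then (nF (Φ.θ v) : ℤ) * Φ.ε else 0 := by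
        intro u
        rw [Φ.xm_θ, Φ.xm_θ_zero]
        have hsw : u⁻¹ * v ∈ D.muHom.range ↔ v⁻¹ * u ∈ D.muHom.range := by
          rw [← inv_mem_iff, mul_inv_rev, inv_inv]
        by_cases hu : v⁻¹ * u ∈ D.muHom.range
        · rw [if_pos hu, if_pos (hsw.2 hu), (Φ.θ_eq v u).2 hu]; ring
        · rw [if_neg hu, if_neg (mt hsw.1 hu)]; ring
      rw [Finset.sum_congr rfl fun u _ => e u,
        CData.sum_coset D v (fun _ => (nF (Φ.θ v) : ℤ) * Φ.ε), Finset.sum_const, Finset.card_univ,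
        ← Nat.card_eq_fintype_card, hcard, nsmul_eq_mul]
      norm_num
    rw [h4] at h
    push_cast at h
    linarith
  have hc0 : ∃ v, c v = 0 := by
    by_contra h
    push Not at h
    have h' := Finset.card_nsmul_le_sum Finset.univ c 1 fun v _ => Nat.one_le_iff_ne_zero.2 (h v)
    rw [Finset.card_univ, ZMod.card_units, hc] at h'
    norm_num at h'
  have hbound : 3 * (1 + a * dA + b * dB) + (∑ u, nF (Φ.θ u)) * dT ≤ 768 := by
    have h1 := theta_le D Φ hcard (fun ψ : IrrCharacter H => nF ψ * charDegree (ψ : H → ℂ))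
    have hd1 : charDegree (one : H → ℂ) = 1 :=
      LinearTwist.charDegree_eq_of_apply_one (by simp [one, principalIrr_apply])
    have hdeg : ∀ u, charDegree (Φ.θ u : H → ℂ) = dT := fun u => by
      have := Φ.deg_θ u
      rw [hcard, ← hcT] at this
      exact_mod_cast this
    rw [hF1, hX, sum_three hA1.symm hB1.symm hAB, hn1, hd1,
      Finset.sum_congr rfl (g := fun u => nF (Φ.θ u) * dT) (fun u _ => by rw [hdeg u]),
      ← Finset.sum_mul] at h1
    linarith
  have hsum : 18 * (Φ.sign A * (a : ℤ) + Φ.sign B * b) + 6 - 36 =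
      Φ.ε * ((∑ u, nF (Φ.θ u) : ℕ) : ℤ) := by
    have h := Finset.sum_congr rfl fun v (_ : v ∈ (Finset.univ : Finset (ZMod 19)ˣ)) => hdiff' v
    have h18 : Fintype.card (ZMod 19)ˣ = 18 := ZMod.card_units 19
    rw [Finset.sum_sub_distrib, Finset.sum_sub_distrib, Finset.sum_sub_distrib, Finset.sum_const,
      Finset.sum_const, Finset.sum_const, Finset.card_univ, h18, ← Nat.cast_sum, hc,
      ← Finset.mul_sum, ← Nat.cast_sum] at h
    simp only [nsmul_eq_mul, Nat.cast_ofNat] at h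
    linarith
  -- the involution
  obtain ⟨t, ht⟩ := exists_prime_orderOf_dvd_card' 2 h2
  have ht19 : ¬ 19 ∣ orderOf t := by rw [ht]; norm_num
  have ht1 : t ≠ 1 := fun h => by rw [h, orderOf_one] at ht; omega
  have hint : ∀ ψ : IrrCharacter H, ∃ m : ℕ, m ≤ charDegree (ψ : H → ℂ) ∧
      (ψ : H → ℂ) t = (((charDegree (ψ : H → ℂ) : ℤ) - 2 * m : ℤ) : ℂ) := by
    intro ψ
    obtain ⟨m, hm, hv⟩ := prime_value (q := 2) ψ ht (fun i hi => by
      rw [zmod_two_eq_one i hi, pw_one])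
    exact ⟨m, by omega, by exact_mod_cast hv⟩
  obtain ⟨mA, hmA, hvA⟩ := hint A
  obtain ⟨mB, hmB, hvB⟩ := hint B
  obtain ⟨mT, hmT, hvT⟩ := hint θ0
  set vA : ℤ := (dA : ℤ) - 2 * mA with hvAdef
  set vB : ℤ := (dB : ℤ) - 2 * mB with hvBdef
  set vT : ℤ := (dT : ℤ) - 2 * mT with hvTdef
  have hvA_ne : vA ≠ dA := by
    intro h
    refine ht1 (hfaith A hA1 t ?_)
    rw [hvA, ← Chars17.cast_irrDegree A]
    exact_mod_cast h
  have hrelt : 1 + Φ.sign A * vA + Φ.sign B * vB = Φ.ε * vT := by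
    have h := hrel t ht19
    rw [hvA, hvB, hvT] at h
    exact_mod_cast h
  have hidt : (dA : ℤ) * dB * dT + Φ.sign A * vA * vA * dB * dT + Φ.sign B * vB * vB * dA * dT =
      Φ.ε * vT * vT * dA * dB := by
    have hno : pairs t t x = 0 := by
      rw [pairs, Finset.card_eq_zero, Finset.filter_eq_empty_iff]
      rintro ⟨b', c'⟩ - ⟨hb, hc', hbc⟩
      have hsq : ∀ d : H, IsConj t d → d * d = 1 := by
        intro d hd
        obtain ⟨g, rfl⟩ := isConj_iff.1 hd
        rw [show g * t * g⁻¹ * (g * t * g⁻¹) = g * (t * t) * g⁻¹ by group]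
        have : t * t = 1 := by rw [← sq, ← ht, pow_orderOf_eq_one]
        rw [this, mul_one, mul_inv_cancel]
      dsimp only at hb hc' hbc
      have hbi : b'⁻¹ = b' := inv_eq_of_mul_eq_one_right (hsq b' hb)
      have hci : c'⁻¹ = c' := inv_eq_of_mul_eq_one_right (hsq c' hc')
      have hinv : b' * x * b'⁻¹ = x⁻¹ := by
        rw [← hbc, mul_inv_rev, hci, hbi, ← mul_assoc, hsq b' hb, one_mul]
      have hmem : (-1 : (ZMod 19)ˣ) ∈ D.muHom.range := (CData.mem_range_iff D).2 ⟨b', by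
        rw [hinv, Units.val_neg, Units.val_one, D.pw_neg, pw_one]⟩
      have hord := Subgroup.orderOf_dvd_natCard _ hmem
      rw [hcard] at hord
      have h2' : orderOf (-1 : (ZMod 19)ˣ) = 2 :=
        orderOf_eq_prime (by simp) (fun h => by
          have := congrArg (fun u : (ZMod 19)ˣ => (u : ZMod 19)) h
          simp only [Units.val_neg, Units.val_one] at this
          exact neg_one_ne_one this)
      rw [h2'] at hord
      norm_num at hord
    have h := sum_pairs₂ t t x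
    rw [hno, Nat.cast_zero, mul_zero, mul_eq_zero, mul_eq_zero] at h
    have hk : (Nat.card {g : H // IsConj t g} : ℂ) ≠ 0 := by
      haveI : Nonempty {g : H // IsConj t g} := ⟨⟨t, IsConj.refl t⟩⟩
      exact Nat.cast_ne_zero.2 Nat.card_pos.ne'
    have h' := h.resolve_left (fun h => h.elim hk hk)
    have hs := Φ.sum_over (fun ψ : IrrCharacter H =>
      conj ((ψ : H → ℂ) x) * ((ψ : H → ℂ) t * (ψ : H → ℂ) t / (ψ : H → ℂ) 1))
      (fun ψ _ hcst => by
        have := CData.value_const D hcst (i := 1) one_ne_zero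
        rw [pw_one] at this
        rw [this, map_zero, zero_mul])
    rw [hfilt, h', mul_zero, hX, sum_three hA1.symm hB1.symm hAB, hcard] at hs
    have hx1 : ∀ ψ ∈ Φ.X, conj ((ψ : H → ℂ) x) = (Φ.sign ψ : ℂ) := fun ψ hψ => by
      have := Φ.value_X hψ (i := 1) one_ne_zero
      rw [pw_one] at this
      rw [this, map_intCast]
    have hx2 : ∀ u, conj ((Φ.θ u : H → ℂ) x) = (Φ.ε : ℂ) * conj (CData.eta D (u : ZMod 19)) := by
      intro u
      have := Φ.value_θ u (i := 1) one_ne_zero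
      rw [pw_one, one_mul] at this
      rw [this, map_mul, map_intCast]
    have hT : ∀ u, (Φ.θ u : H → ℂ) t = (vT : ℂ) ∧ (Φ.θ u : H → ℂ) 1 = (dT : ℂ) := fun u =>
      ⟨by rw [Φ.θ_regular ht19 u 1, ← hθ0, hvT],
       by rw [Φ.θ_regular hreg1 u 1, ← hθ0, hdT, Chars17.cast_irrDegree]⟩
    rw [hx1 one honeX, hx1 A hAX, hx1 B hBX, hsone, hvA, hvB, ← Chars17.cast_irrDegree A,
      ← Chars17.cast_irrDegree B] at hs
    simp only [hx2, (hT _).1, (hT _).2, ← Finset.sum_mul, ← Finset.mul_sum, ← map_sum] at hs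
    have heta := CData.sum_eta D (one_ne_zero (α := ZMod 19))
    simp only [one_mul] at heta
    rw [heta, hcard] at hs
    simp only [one, principalIrr_apply, map_neg, map_natCast, Int.cast_one, one_mul, mul_one,
      div_one] at hs
    have hdAne : (dA : ℂ) ≠ 0 := Nat.cast_ne_zero.2 (by omega)
    have hdBne : (dB : ℂ) ≠ 0 := Nat.cast_ne_zero.2 (by omega)
    have hdTne : (dT : ℂ) ≠ 0 := Nat.cast_ne_zero.2 (by omega)
    rw [← hdA, ← hdB] at hs
    field_simp at hs
    have hcast : (((dA : ℤ) * dB * dT + Φ.sign A * vA * vA * dB * dT +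
        Φ.sign B * vB * vB * dA * dT : ℤ) : ℂ) = ((Φ.ε * vT * vT * dA * dB : ℤ) : ℂ) := by
      push_cast at hs ⊢
      linear_combination -hs / 3
    exact_mod_cast hcast
  -- the signs and the degrees
  have key : ∀ A B : IrrCharacter H, A ∈ Φ.X → B ∈ Φ.X → Φ.X = {one, A, B} → A ≠ B → A ≠ one →
      B ≠ one → Φ.ε = 1 → Φ.sign A = 1 → Φ.sign B = -1 →
      ∀ (dA dB a b mA mB : ℕ), dA = charDegree (A : H → ℂ) → dB = charDegree (B : H → ℂ) →
      a = nF A → b = nF B → mA ≤ dA → ((dA : ℤ) - 2 * mA ≠ dA) → 8 < dA → 8 < dB →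
      (dA : ℤ) % 19 = 1 → (dB : ℤ) % 19 = 18 → 1 + (dA : ℤ) - dB = dT →
      1 + ((dA : ℤ) - 2 * mA) - ((dB : ℤ) - 2 * mB) = vT →
      (dA : ℤ) * dB * dT + ((dA : ℤ) - 2 * mA) * ((dA : ℤ) - 2 * mA) * dB * dT -
        ((dB : ℤ) - 2 * mB) * ((dB : ℤ) - 2 * mB) * dA * dT = vT * vT * dA * dB →
      3 * (1 + a * dA + b * dB) + (∑ u, nF (Φ.θ u)) * dT ≤ 768 →
      18 * ((a : ℤ) - b) + 6 - 36 = ((∑ u, nF (Φ.θ u) : ℕ) : ℤ) →
      (∀ v : (ZMod 19)ˣ, (c v : ℤ) - 2 = (nF (Φ.θ v) : ℤ) - a + b) →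
      (dA = 77 ∧ dB = 56 ∧ dT = 22 ∧ a = 2 ∧ b = 0) := by
    intro A B hAX hBX hX hAB hA1 hB1 hε hsA hsB dA dB a b mA mB hdA hdB ha hb hmA hvne hA8 hB8 hmodA
      hmodB hrel1 hrelt hidt hbound hsum hdiff'
    set N := ∑ u, nF (Φ.θ u)
    rw [hε] at hcT
    obtain ⟨v0, hv0⟩ := hc0
    have hs2 : 2 ≤ (a : ℤ) - b := by
      have h1 := hdiff' v0
      rw [hv0] at h1
      have : (0 : ℤ) ≤ nF (Φ.θ v0) := Int.natCast_nonneg _
      omega
    have hN6 : 6 ≤ N := by omega
    have h6 : 6 * dT ≤ N * dT := Nat.mul_le_mul_right _ hN6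
    have ha2 : 2 * dA ≤ a * dA := Nat.mul_le_mul_right _ (by omega)
    have hT : dT = 22 ∨ dT = 41 := by omega
    have hid : Num19.InvEq dA dB dT mA mT := by
      unfold Num19.InvEq
      rw [hvTdef] at hrelt hidt
      have hb' : ((dB : ℤ) - 2 * mB) = 1 + ((dA : ℤ) - 2 * mA) - ((dT : ℤ) - 2 * mT) := by linarith
      rw [hb'] at hidt
      linarith
    have hne : mA ≠ 0 := fun h => hvne (by rw [h]; simp)
    rcases hT with hT | hT
    · have hB : dB = 18 ∨ dB = 37 ∨ dB = 56 ∨ dB = 75 := by omega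
      rw [hT] at hid hbound
      rcases hB with hB | hB | hB | hB <;> rw [hB] at hid
      · rw [show dA = 39 by omega] at hid
        exact absurd (Num19.inv_39_18_22 ⟨mA, by omega⟩ ⟨mT, by omega⟩ (by exact_mod_cast hid)) hne
      · rw [show dA = 58 by omega] at hid
        exact absurd (Num19.inv_58_37_22 ⟨mA, by omega⟩ ⟨mT, by omega⟩ (by exact_mod_cast hid)) hne
      · have hA : dA = 77 := by omega
        rw [hA, hB] at hbound
        exact ⟨hA, hB, hT, by omega, by omega⟩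
      · rw [show dA = 96 by omega] at hid
        exact absurd (Num19.inv_96_75_22 ⟨mA, by omega⟩ ⟨mT, by omega⟩ (by exact_mod_cast hid)) hne
    · have hB : dB = 18 ∨ dB = 37 := by omega
      rw [hT] at hid
      rcases hB with hB | hB <;> rw [hB] at hid
      · rw [show dA = 58 by omega] at hid
        exact absurd (Num19.inv_58_18_41 ⟨mA, by omega⟩ ⟨mT, by omega⟩ (by exact_mod_cast hid)) hne
      · rw [show dA = 77 by omega] at hid
        exact absurd (Num19.inv_77_37_41 ⟨mA, by omega⟩ ⟨mT, by omega⟩ (by exact_mod_cast hid)) hne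
  obtain ⟨A', B', hX', hA'X, hB'X, hAB', hA'1, hB'1, hε, hsA, hsB, hd77, hd56, hd22, ha2, hb0⟩ :
      ∃ A' B' : IrrCharacter H, Φ.X = {one, A', B'} ∧ A' ∈ Φ.X ∧ B' ∈ Φ.X ∧ A' ≠ B' ∧ A' ≠ one ∧
        B' ≠ one ∧ Φ.ε = 1 ∧ Φ.sign A' = 1 ∧ Φ.sign B' = -1 ∧ charDegree (A' : H → ℂ) = 77 ∧
        charDegree (B' : H → ℂ) = 56 ∧ dT = 22 ∧ nF A' = 2 ∧ nF B' = 0 := by
    rcases Φ.ε_spec with hε | hε <;> rcases Φ.sign_spec A hAX with hsA | hsA <;>
      rcases Φ.sign_spec B hBX with hsB | hsB <;>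
      simp only [hε, hsA, hsB, one_mul, neg_mul, ← sub_eq_add_neg] at hrel1 hrelt hidt hsum hdiff' hcA hcB hcT
    · -- `+ + +`
      exfalso
      refine hvA_ne (Num19.eq_of_single (C := dB) (c := vB) (by omega) (by omega) ?_)
      rw [hrelt, hrel1]
      refine mul_left_cancel₀ (show (dT : ℤ) ≠ 0 by omega) ?_
      linear_combination -(dT : ℤ) * hidt
    · obtain ⟨h1, h2, h3, h4, h5⟩ := key A B hAX hBX hX hAB hA1 hB1 hε hsA hsB dA dB a b mA mB rfl
        rfl rfl rfl hmA hvA_ne hA8 hB8 (by omega) (by omega) (by linarith) (by linarith)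
        (by linarith) hbound (by linarith) (fun v => by have := hdiff' v; linarith)
      exact ⟨A, B, hX, hAX, hBX, hAB, hA1, hB1, hε, hsA, hsB, h1, h2, h3, h4, h5⟩
    · have hvB_ne : (dB : ℤ) - 2 * mB ≠ dB := by
        intro h
        refine ht1 (hfaith B hB1 t ?_)
        rw [hvB, ← Chars17.cast_irrDegree B]
        exact_mod_cast (show vB = (dB : ℤ) from h)
      have hX' : Φ.X = {one, B, A} := by rw [hX, Finset.pair_comm]
      obtain ⟨h1, h2, h3, h4, h5⟩ := key B A hBX hAX hX' hAB.symm hB1 hA1 hε hsB hsA dB dA b a mB mA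
        rfl rfl rfl rfl hmB hvB_ne hB8 hA8 (by omega) (by omega) (by linarith) (by linarith)
        (by linarith) (by linarith) (by linarith) (fun v => by have := hdiff' v; linarith)
      exact ⟨B, A, hX', hBX, hAX, hAB.symm, hB1, hA1, hε, hsB, hsA, h1, h2, h3, h4, h5⟩
    · omega
    · omega
    · exfalso
      refine hvA_ne (Num19.eq_of_single (C := dT) (c := vT) (by omega) (by omega) ?_)
      rw [show 1 + vA + vT = vB by linarith, show 1 + (dA : ℤ) + dT = dB by linarith]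
      linear_combination -hidt
    · exfalso
      have hvB_ne : vB ≠ dB := by
        intro h
        refine ht1 (hfaith B hB1 t ?_)
        rw [hvB, ← Chars17.cast_irrDegree B]
        exact_mod_cast h
      refine hvB_ne (Num19.eq_of_single (C := dT) (c := vT) (by omega) (by omega) ?_)
      rw [show 1 + vB + vT = vA by linarith, show 1 + (dB : ℤ) + dT = dA by linarith]
      linear_combination -hidt
    · exfalso
      set N := ∑ u, nF (Φ.θ u)
      have hN : 30 ≤ N := by omega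
      have : 30 * dT ≤ N * dT := Nat.mul_le_mul_right _ hN
      omega
  clear key
  have h11 : 11 ∣ Nat.card H := by
    obtain ⟨n, ρ, hρi, hρ⟩ := A'.2
    haveI := hρi
    have h := CfsgLib.CharScalar.finrank_dvd_card ρ
    rw [Module.finrank_fin_fun] at h
    have hn : n = 77 := by
      rw [← hd77]
      refine (LinearTwist.charDegree_eq_of_apply_one ?_).symm
      rw [← hρ, Representation.char_one, Module.finrank_fin_fun]
    exact Nat.dvd_trans (by rw [hn]; norm_num) h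
  refine ⟨h11, fun y hy hF25 => ?_⟩
  have hy19 : ¬ 19 ∣ orderOf y := by rw [hy]; norm_num
  have hx11 : ¬ 11 ∣ orderOf x := by rw [D.hx]; norm_num
  have hrat : ∀ ψ : IrrCharacter H, (ψ = A' ∨ ψ = B' ∨ ∃ u, ψ = Φ.θ u) →
      ∀ i : ZMod 11, i ≠ 0 → (ψ : H → ℂ) (pw y i) = (ψ : H → ℂ) y := by
    intro ψ hψ i hi
    obtain ⟨k, hk, hkfix, hky⟩ := exists_exp (G := H) (r := i.val) (fun h => hi (by
      rw [← ZMod.natCast_zmod_val i, (ZMod.natCast_eq_zero_iff _ _).2 h]))
    have hxk : x ^ k = x := hkfix x hx11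
    have hzk : ∀ z ∈ Subgroup.center H, z ^ k = z := by
      intro z hz
      rw [hZ, Subgroup.mem_bot] at hz
      rw [hz, one_pow]
    rw [pw, ← hky y hy]
    rcases hψ with rfl | rfl | ⟨u, rfl⟩
    · refine Φ.X_pow hR hk hxk hzk hA'X (fun φ hφ hd => ?_) y
      rw [hX', Finset.mem_insert, Finset.mem_insert, Finset.mem_singleton] at hφ
      rcases hφ with rfl | rfl | rfl
      · rw [hd77] at hd
        have h1 : charDegree (one : H → ℂ) = 1 :=
          LinearTwist.charDegree_eq_of_apply_one (by simp [one, principalIrr_apply])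
        omega
      · rfl
      · omega
    · refine Φ.X_pow hR hk hxk hzk hB'X (fun φ hφ hd => ?_) y
      rw [hX', Finset.mem_insert, Finset.mem_insert, Finset.mem_singleton] at hφ
      rcases hφ with rfl | rfl | rfl
      · rw [hd56] at hd
        have h1 : charDegree (one : H → ℂ) = 1 :=
          LinearTwist.charDegree_eq_of_apply_one (by simp [one, principalIrr_apply])
        omega
      · omega
      · rfl
    · exact Φ.θ_pow hR hk hxk hzk u y
  obtain ⟨kA, hkA, hyA⟩ := prime_value A' hy (hrat A' (Or.inl rfl))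
  obtain ⟨kB, hkB, hyB⟩ := prime_value B' hy (hrat B' (Or.inr (Or.inl rfl)))
  obtain ⟨kT, hkT, hyT⟩ := prime_value θ0 hy (hrat θ0 (Or.inr (Or.inr ⟨1, rfl⟩)))
  rw [hd77] at hkA hyA
  rw [hd56] at hkB hyB
  rw [← hdT, hd22] at hkT hyT
  -- fixed points of `y`
  have hfix : ∀ ψ : IrrCharacter H, ∃ f : ℕ, ∑ i : ZMod 11, (ψ : H → ℂ) (pw y i) = (11 : ℂ) * f := by
    intro ψ
    obtain ⟨n, ρ, -, hρ⟩ := ψ.2
    obtain ⟨b, j, -, hj⟩ := exists_exponents hy ρ
    refine ⟨(Finset.univ.filter fun l => j l = (0 : ZMod 11)).card, ?_⟩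
    have h := hj 0
    simp only [neg_zero, mul_zero, AddChar.map_zero_eq_one, mul_one, hρ] at h
    rw [← h]; norm_num
  choose f hf using hfix
  have hconstsum : ∀ ψ : IrrCharacter H, (∀ i : ZMod 11, i ≠ 0 → (ψ : H → ℂ) (pw y i) = (ψ : H → ℂ) y) →
      (11 : ℂ) * f ψ = (charDegree (ψ : H → ℂ) : ℂ) + 10 * (ψ : H → ℂ) y := by
    intro ψ hψ
    rw [← hf ψ, sum_res, Finset.sum_congr rfl fun u _ => hψ _ (Units.ne_zero u), Finset.sum_const,
      Finset.card_univ, ZMod.card_units, show pw y (0 : ZMod 11) = 1 from (pw_eq_one_iff hy 0).2 rfl,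
      ← Chars17.cast_irrDegree, nsmul_eq_mul]
    norm_num
  have hfA : (f A' : ℤ) = 77 - 10 * kA := by
    have h := hconstsum A' (hrat A' (Or.inl rfl))
    rw [hd77, hyA] at h
    have h' : ((11 * (f A' : ℤ) : ℤ) : ℂ) = ((77 + 10 * (77 - 11 * kA) : ℤ) : ℂ) := by
      push_cast at h ⊢; linear_combination h
    have := Int.cast_injective h'
    omega
  have hfT : ∀ u, (f (Φ.θ u) : ℤ) = 22 - 10 * kT := by
    intro u
    have h := hconstsum (Φ.θ u) (hrat _ (Or.inr (Or.inr ⟨u, rfl⟩)))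
    have hd : charDegree (Φ.θ u : H → ℂ) = 22 := by
      have h1 := Φ.deg_θ u
      rw [hcard, ← hcT, hd22] at h1
      exact_mod_cast h1
    rw [hd, Φ.θ_regular hy19 u 1, ← hθ0, hyT] at h
    have h' : ((11 * (f (Φ.θ u) : ℤ) : ℤ) : ℂ) = ((22 + 10 * (22 - 11 * kT) : ℤ) : ℂ) := by
      push_cast at h ⊢; linear_combination h
    have := Int.cast_injective h'
    omega
  have hf1 : f one = 1 := by
    have h := hf one
    simp only [one, principalIrr_apply, Finset.sum_const, Finset.card_univ, ZMod.card,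
      nsmul_eq_mul, mul_one] at h
    have h' : ((11 : ℕ) : ℂ) = ((11 * f one : ℕ) : ℂ) := by push_cast; simpa using h
    have := Nat.cast_injective h'
    omega
  have htot : ∑ ψ : IrrCharacter H, nF ψ * f ψ = 46 := by
    have h : (11 : ℂ) * ((∑ ψ : IrrCharacter H, nF ψ * f ψ : ℕ) : ℂ) = 11 * 46 := by
      push_cast
      rw [Finset.mul_sum, Finset.sum_congr rfl (g := fun ψ : IrrCharacter H =>
        ∑ i : ZMod 11, (nF ψ : ℂ) * (ψ : H → ℂ) (pw y i)) (fun ψ _ => by
          rw [← Finset.mul_sum, hf]; ring), Finset.sum_comm]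
      simp only [← hF]
      rw [sum_res, show pw y (0 : ZMod 11) = 1 from (pw_eq_one_iff hy 0).2 rfl,
        Finset.sum_congr rfl fun u _ => hF25 _ (by
          rw [pw]
          refine orderOf_eq_prime ?_ fun h => Units.ne_zero u ((pw_eq_one_iff hy _).1 h)
          rw [← pow_mul, mul_comm, pow_mul, orderOf_dvd_iff_pow_eq_one.1 hy.dvd, one_pow]),
        Finset.sum_const, Finset.card_univ, ZMod.card_units, nsmul_eq_mul, hF 1]
      have : ((∑ ψ : IrrCharacter H, nF ψ * charDegree (ψ : H → ℂ) : ℕ) : ℂ) = 256 := by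
        rw [hF1]; norm_num
      push_cast at this
      simp only [Chars17.cast_irrDegree] at this
      rw [this]; norm_num
    exact_mod_cast mul_left_cancel₀ (show (11 : ℂ) ≠ 0 by norm_num) h
  have hN : ∑ u, nF (Φ.θ u) = 6 := by
    have : ∀ v, (c v : ℤ) = nF (Φ.θ v) := by
      intro v
      have h := Φ.sum_over (fun ψ => (nF ψ : ℤ) *
        ((CData.xm D ψ (v : ZMod 19) : ℤ) - CData.xm D ψ 0)) (fun ψ _ hcst => by rw [hcst]; ring)
      have h1 := hdiff' v
      rcases Φ.ε_spec with he | he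
      · rw [he] at h1
        have hab : Φ.sign A * (a : ℤ) + Φ.sign B * b = 2 := by
          have e : ∑ ψ ∈ Φ.X, Φ.sign ψ * (nF ψ : ℤ) = 3 := by
            rw [hX', sum_three hA'1.symm hB'1.symm hAB', hsone, hsA, hsB, ha2, hb0, hn1]; norm_num
          rw [hX, sum_three hA1.symm hB1.symm hAB, hsone, hn1] at e
          simp only [a, b]
          push_cast at e
          linarith
        linarith
      · rw [he] at hε; omega
    rw [← hc]
    exact Finset.sum_congr rfl fun v _ => by exact_mod_cast (this v).symm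
  have hfix_le : 3 * (1 + 2 * f A') + 6 * f (Φ.θ 1) ≤ 138 := by
    have h1 := theta_le D Φ hcard (fun ψ : IrrCharacter H => nF ψ * f ψ)
    have hconst : ∀ u, f (Φ.θ u) = f (Φ.θ 1) := fun u => by
      have h1 := hfT u
      have h2 := hfT 1
      omega
    rw [htot, hX', sum_three hA'1.symm hB'1.symm hAB', hn1, ha2, hb0, hf1,
      Finset.sum_congr rfl (g := fun u => nF (Φ.θ u) * f (Φ.θ 1)) (fun u _ => by rw [hconst u]),
      ← Finset.sum_mul, hN] at h1
    omega
  have hrely : (kA : ℤ) - kT = kB := by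
    have h := hrel y hy19
    have h0 : ∑ ψ ∈ Φ.X, (Φ.sign ψ : ℂ) * (ψ : H → ℂ) y = (Φ.ε : ℂ) * (θ0 : H → ℂ) y := by
      rw [hθ0]; exact Φ.relation y hy19 1
    rw [hX', sum_three hA'1.symm hB'1.symm hAB', hsone, hsA, hsB, hε, hyA, hyB, hyT] at h0
    simp only [one, principalIrr_apply] at h0
    have h' : ((1 + (77 - 11 * (kA : ℤ)) - (56 - 11 * (kB : ℤ)) : ℤ) : ℂ) =
        ((22 - 11 * (kT : ℤ) : ℤ) : ℂ) := by
      push_cast at h0 ⊢; linear_combination h0
    have := Int.cast_injective h'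
    omega
  refine ⟨1 + (77 - 11 * (kA : ℝ)) / 77 + (56 - 11 * (kB : ℝ)) / 56 + 16 * (22 - 11 * (kT : ℝ)) / 22,
    ?_, ?_⟩
  · have hf0 := hfT 1
    have h1 : 8 ≤ kA + kT := by omega
    have h2 : kA ≤ 7 := by omega
    have h3 : kT ≤ 2 := by omega
    have h4 : kB ≤ 5 := by omega
    obtain ⟨rfl, rfl, rfl⟩ | ⟨rfl, rfl, rfl⟩ :
        (kA = 6 ∧ kT = 2 ∧ kB = 4) ∨ (kA = 7 ∧ kT = 2 ∧ kB = 5) := by omega
    all_goals norm_num
  · have hs := Φ.sum_over (fun ψ : IrrCharacter H =>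
      conj ((ψ : H → ℂ) y) * ((ψ : H → ℂ) x * (ψ : H → ℂ) x⁻¹ / (ψ : H → ℂ) 1))
      (fun ψ _ hcst => by
        have := CData.value_const D hcst (i := 1) one_ne_zero
        rw [pw_one] at this
        rw [this, zero_mul, zero_div, mul_zero])
    have hxinv : ∀ ψ : IrrCharacter H, (ψ : H → ℂ) x⁻¹ = conj ((ψ : H → ℂ) x) := fun ψ =>
      irr_apply_inv ψ x
    have hx1 : ∀ ψ ∈ Φ.X, (ψ : H → ℂ) x = (Φ.sign ψ : ℂ) := fun ψ hψ => by
      have := Φ.value_X hψ (i := 1) one_ne_zero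
      rwa [pw_one] at this
    have hx2 : ∀ u, (Φ.θ u : H → ℂ) x = (Φ.ε : ℂ) * CData.eta D (u : ZMod 19) := by
      intro u
      have := Φ.value_θ u (i := 1) one_ne_zero
      rwa [pw_one, one_mul] at this
    have hterm : ∀ u, conj ((Φ.θ u : H → ℂ) y) * ((Φ.θ u : H → ℂ) x * conj ((Φ.θ u : H → ℂ) x) /
        (Φ.θ u : H → ℂ) 1) = (22 - 11 * (kT : ℂ)) / 22 *
        (CData.eta D (u : ZMod 19) * conj (CData.eta D (u : ZMod 19))) := by
      intro u
      rw [Φ.θ_regular hy19 u 1, Φ.θ_regular hreg1 u 1, ← hθ0, hyT, ← Chars17.cast_irrDegree θ0,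
        ← hdT, hd22, hx2, hε]
      simp only [Int.cast_one, one_mul]
      push_cast
      simp only [map_sub, map_mul, map_ofNat, map_natCast]
      ring
    rw [hfilt, hX', sum_three hA'1.symm hB'1.symm hAB', hcard] at hs
    simp only [hxinv] at hs ⊢
    rw [Finset.sum_congr rfl fun u _ => hterm u, ← Finset.mul_sum, CData.sum_eta_conj D, hcard,
      hx1 one honeX, hx1 A' hA'X, hx1 B' hB'X, hsone, hsA, hsB, hyA, hyB,
      ← Chars17.cast_irrDegree A', ← Chars17.cast_irrDegree B', hd77, hd56] at hs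
    simp only [one, principalIrr_apply, map_one, map_intCast, Int.cast_one, Int.cast_neg, map_neg,
      one_mul, mul_one, div_one, neg_mul_neg] at hs
    push_cast at hs ⊢
    linear_combination hs / 3

end CfsgLib.LinSmall.P19
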