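import Cfsg.Agent.Lib.HalfPSL.Main
import Mathlib.Data.Matrix.Basis

/-!
# Degree sixteen and the prime thirty-one

A regular unipotent of size sixteen acts on the skew matrices with a block of size five, split off
by the normaliser; its lift is a five dimensional representation.
-/

set_option autoImplicit false
set_option linter.unusedSectionVars false
set_option linter.style.haveILetI false
set_option maxHeartbeats 1000000

noncomputable section

namespace CfsgLib.LinSmall.P31

open Matrix Polynomial Cfsg CfsgLib.Characters CfsgLib.HalfPSL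

section Numbers

variable (R : Type*) [CommRing R]

/-- The entries of the `m`-th power of the derivation applied to `f`. -/
def dm (m : ℕ) (f : ℕ → ℕ → R) (i j : ℕ) : R :=
  ∑ a ∈ Finset.range (m + 1),
    (m.choose a : R) * if a ≤ i ∧ m - a ≤ j then f (i - a) (j - (m - a)) else 0

/-- A skew array in degree thirteen annihilated by the fifth power of the derivation. -/
def w0f (i j : ℕ) : R :=
  if i + j = 13 then
    (([24, 12, 6, 13, 7, 1, 1, 30, 30, 24, 18, 25, 19, 7] : List ℕ).getD i 0 : R) else 0

/-- The coefficients of a functional in degree seventeen. -/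
def psc (i : ℕ) : ℕ :=
  ([0, 0, 26, 13, 22, 27, 5, 14, 14, 0, 0, 0, 0, 0, 0, 0] : List ℕ).getD i 0

/-- The functional. -/
def psif (f : ℕ → ℕ → R) : R := ∑ i : Fin 16, (psc i : R) * f i ((17 - i) % 16)

/-- The skew part of a matrix unit. -/
def unitf (a b i j : ℕ) : R :=
  (if a = i ∧ b = j then 1 else 0) - (if a = j ∧ b = i then 1 else 0)

variable {R} {S : Type*} [CommRing S] (φ : R →+* S)

theorem map_dm (m : ℕ) (f : ℕ → ℕ → R) (i j : ℕ) :
    φ (dm R m f i j) = dm S m (fun a b => φ (f a b)) i j := by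
  simp [dm, apply_ite φ]

theorem map_psif (f : ℕ → ℕ → R) : φ (psif R f) = psif S fun a b => φ (f a b) := by
  simp [psif]

theorem map_w0f (i j : ℕ) : φ (w0f R i j) = w0f S i j := by simp [w0f, apply_ite φ]

theorem map_unitf (a b i j : ℕ) : φ (unitf R a b i j) = unitf S a b i j := by
  simp [unitf, apply_ite φ]

set_option maxRecDepth 100000 in
theorem check_dm : ∀ i j : Fin 16, dm (ZMod 31) 5 (w0f _) i j = 0 := by decide +kernel

set_option maxRecDepth 100000 in
theorem check_psif : ∀ m : Fin 5,
    psif (ZMod 31) (dm _ m (w0f _)) = if m.val = 4 then 1 else 0 := by decide +kernel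

set_option maxRecDepth 100000 in
theorem check_unit : ∀ a b : Fin 16, psif (ZMod 31) (dm _ 5 (unitf _ a b)) = 0 := by decide +kernel

theorem check_psc : ∀ i : Fin 16, psc i ≠ 0 → (i : ℕ) + (17 - i) % 16 = 17 := by decide +kernel

theorem check_skew : ∀ i j : Fin 16, w0f (ZMod 31) j i = -w0f (ZMod 31) i j := by decide +kernel

end Numbers

variable {k : Type*} [Field k]

local notation "E" => Matrix (Fin 16) (Fin 16) k

/-- The shift. -/
def shift (k : Type*) [Field k] : Matrix (Fin 16) (Fin 16) k :=
  Matrix.of fun i j => if (i : ℕ) = j + 1 then 1 else 0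

/-- The entries of a matrix as an array. -/
def arr (w : E) (a b : ℕ) : k := if h : a < 16 ∧ b < 16 then w ⟨a, h.1⟩ ⟨b, h.2⟩ else 0

theorem arr_coe (w : E) (i j : Fin 16) : arr w i j = w i j := by simp [arr]

theorem shift_mul (w : E) (i j : Fin 16) :
    (shift k * w) i j = if 1 ≤ (i : ℕ) then arr w (i - 1) j else 0 := by
  rw [Matrix.mul_apply]
  by_cases h : 1 ≤ (i : ℕ)
  · rw [if_pos h, Finset.sum_eq_single (⟨i - 1, by omega⟩ : Fin 16)]
    · rw [← arr_coe w]
      simp only [shift, Matrix.of_apply]
      rw [if_pos (by omega), one_mul]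
    · intro a _ ha
      simp only [shift, Matrix.of_apply]
      rw [if_neg, zero_mul]
      exact fun e => ha (Fin.ext (show (a : ℕ) = i - 1 by omega))
    · simp
  · rw [if_neg h]
    refine Finset.sum_eq_zero fun a _ => ?_
    simp only [shift, Matrix.of_apply]
    rw [if_neg (by omega), zero_mul]

theorem shift_pow_mul (a : ℕ) (w : E) (i j : Fin 16) :
    (shift k ^ a * w) i j = if a ≤ (i : ℕ) then arr w (i - a) j else 0 := by
  induction a generalizing i with
  | zero => simp [arr_coe]
  | succ a ih =>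
    rw [pow_succ', mul_assoc, shift_mul]
    by_cases h : 1 ≤ (i : ℕ)
    · rw [if_pos h]
      rw [show arr (shift k ^ a * w) (i - 1) j = (shift k ^ a * w) ⟨i - 1, by omega⟩ j from
        arr_coe _ ⟨i - 1, by omega⟩ j, ih]
      by_cases h2 : a ≤ (i : ℕ) - 1
      · rw [if_pos h2, if_pos (by omega), show (i : ℕ) - 1 - a = i - (a + 1) by omega]
      · rw [if_neg h2, if_neg (by omega)]
    · rw [if_neg h, if_neg (by omega)]

theorem mul_shift_pow (b : ℕ) (w : E) (i j : Fin 16) :
    (w * (shift k)ᵀ ^ b) i j = if b ≤ (j : ℕ) then arr w i (j - b) else 0 := by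
  have h : w * (shift k)ᵀ ^ b = (shift k ^ b * wᵀ)ᵀ := by
    rw [Matrix.transpose_mul, Matrix.transpose_pow, Matrix.transpose_transpose]
  rw [h, Matrix.transpose_apply, shift_pow_mul]
  simp [arr, and_comm, Matrix.transpose_apply]

/-- The derivation. -/
def der (k : Type*) [Field k] : Module.End k (Matrix (Fin 16) (Fin 16) k) :=
  LinearMap.mulLeft k (shift k) + LinearMap.mulRight k (shift k)ᵀ

theorem der_apply (w : E) : der k w = shift k * w + w * (shift k)ᵀ := rfl

theorem der_pow_apply (m : ℕ) (w : E) (i j : Fin 16) :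
    ((der k ^ m) w) i j = dm k m (arr w) i j := by
  rw [der, (LinearMap.commute_mulLeft_right (R := k) _ _).add_pow, LinearMap.sum_apply,
    Matrix.sum_apply, dm]
  refine Finset.sum_congr rfl fun a _ => ?_
  rw [LinearMap.pow_mulLeft, LinearMap.pow_mulRight]
  rw [← Nat.cast_comm, Module.End.mul_apply, Module.End.natCast_apply]
  simp only [Module.End.mul_apply, LinearMap.mulLeft_apply, LinearMap.mulRight_apply,
    Matrix.smul_apply, nsmul_eq_mul]
  congr 1
  rw [shift_pow_mul]
  by_cases ha : a ≤ (i : ℕ)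
  · rw [if_pos ha, show arr (w * (shift k)ᵀ ^ (m - a)) (i - a) j =
      (w * (shift k)ᵀ ^ (m - a)) ⟨i - a, by omega⟩ j from arr_coe _ ⟨i - a, by omega⟩ j,
      mul_shift_pow]
    by_cases hb : m - a ≤ (j : ℕ)
    · rw [if_pos hb, if_pos ⟨ha, hb⟩]
    · rw [if_neg hb, if_neg fun h => hb h.2]
  · rw [if_neg ha, if_neg fun h => ha h.1]

/-- The skew matrices. -/
def skew (k : Type*) [Field k] : Submodule k (Matrix (Fin 16) (Fin 16) k) :=
  LinearMap.ker ((Matrix.transposeLinearEquiv (Fin 16) (Fin 16) k k).toLinearMap + LinearMap.id)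

theorem mem_skew {w : E} : w ∈ skew k ↔ wᵀ = -w := by
  rw [skew, LinearMap.mem_ker, LinearMap.add_apply, LinearMap.id_apply, add_eq_zero_iff_eq_neg]
  rfl

theorem der_mem_skew : ∀ w ∈ skew k, der k w ∈ skew k := by
  intro w hw
  rw [mem_skew] at hw ⊢
  rw [der_apply, Matrix.transpose_add, Matrix.transpose_mul, Matrix.transpose_mul,
    Matrix.transpose_transpose, hw, neg_mul, mul_neg, neg_add, add_comm]

/-- The derivation on skew matrices. -/
def ders (k : Type*) [Field k] : Module.End k (skew k) := (der k).restrict der_mem_skew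

theorem ders_pow_coe (n : ℕ) (w : skew k) :
    (((ders k ^ n) w : skew k) : E) = (der k ^ n) (w : E) := by
  induction n generalizing w with
  | zero => rfl
  | succ n ih => rw [pow_succ, pow_succ, Module.End.mul_apply, Module.End.mul_apply, ih]; rfl

variable [CharP k 31]

theorem two_ne_zero' : (2 : k) ≠ 0 := by
  intro h
  have h' : ((2 : ℕ) : k) = 0 := by exact_mod_cast h
  rw [CharP.cast_eq_zero_iff k 31] at h'
  omega

theorem skew_zero_zero {w : E} (hw : w ∈ skew k) : w 0 0 = 0 := by
  have h := congrFun (congrFun (mem_skew.1 hw) 0) 0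
  rw [Matrix.transpose_apply, Matrix.neg_apply, eq_neg_iff_add_eq_zero, ← two_mul] at h
  exact (mul_eq_zero.1 h).resolve_left two_ne_zero'

theorem ders_pow_thirty : ders k ^ 30 = 0 := by
  refine LinearMap.ext fun w => Subtype.ext ?_
  ext i j
  rw [ders_pow_coe, der_pow_apply, LinearMap.zero_apply, ZeroMemClass.coe_zero, Matrix.zero_apply,
    dm]
  refine Finset.sum_eq_zero fun a _ => ?_
  by_cases h : a ≤ (i : ℕ) ∧ 30 - a ≤ (j : ℕ)
  · rw [if_pos h, show (i : ℕ) - a = ((0 : Fin 16) : ℕ) by simp; omega,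
      show (j : ℕ) - (30 - a) = ((0 : Fin 16) : ℕ) by simp; omega, arr_coe, skew_zero_zero w.2,
      mul_zero]
  · rw [if_neg h, mul_zero]

/-- The vector of degree thirteen. -/
def w0 (k : Type*) [Field k] [CharP k 31] : skew k :=
  ⟨Matrix.of fun i j : Fin 16 => w0f k i j, by
    rw [mem_skew]
    ext i j
    show w0f k j i = -w0f k i j
    have h := congrArg (ZMod.castHom (dvd_refl 31) k) (check_skew i j)
    rwa [map_neg, map_w0f, map_w0f] at h⟩

/-- The functional of degree seventeen. -/
def psi (k : Type*) [Field k] : skew k →ₗ[k] k :=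
  (∑ i : Fin 16, (psc i : k) •
      Matrix.entryLinearMap k k i (⟨(17 - i) % 16, Nat.mod_lt _ (by norm_num)⟩ : Fin 16)).comp
    (skew k).subtype

omit [CharP k 31] in
theorem psi_apply (w : skew k) : psi k w = psif k (arr (w : E)) := by
  simp only [psi, psif, LinearMap.comp_apply, LinearMap.sum_apply, LinearMap.smul_apply,
    Matrix.entryLinearMap_apply, Submodule.coe_subtype, smul_eq_mul]
  refine Finset.sum_congr rfl fun i _ => ?_
  congr 1
  exact (arr_coe _ i ⟨(17 - i) % 16, Nat.mod_lt _ (by norm_num)⟩).symm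

omit [CharP k 31] in
theorem psi_pow (m : ℕ) (w : skew k) :
    psi k ((ders k ^ m) w) = psif k (dm k m (arr (w : E))) := by
  rw [psi_apply, psif, psif]
  refine Finset.sum_congr rfl fun i _ => ?_
  congr 1
  rw [show arr (((ders k ^ m) w : skew k) : E) i ((17 - i) % 16) =
    (((ders k ^ m) w : skew k) : E) i ⟨(17 - i) % 16, Nat.mod_lt _ (by norm_num)⟩ from
      arr_coe _ i ⟨(17 - i) % 16, Nat.mod_lt _ (by norm_num)⟩, ders_pow_coe, der_pow_apply]

theorem arr_w0 : arr (w0 k : E) = fun a b => if a < 16 ∧ b < 16 then w0f k a b else 0 := by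
  funext a b
  unfold arr
  split_ifs with h <;> rfl

theorem dm_w0 (m : ℕ) (i j : Fin 16) : dm k m (arr (w0 k : E)) i j = dm k m (w0f k) i j := by
  rw [arr_w0]
  refine Finset.sum_congr rfl fun a _ => ?_
  by_cases h : a ≤ (i : ℕ) ∧ m - a ≤ (j : ℕ)
  · rw [if_pos h, if_pos h]
    beta_reduce
    rw [if_pos (by omega)]
  · rw [if_neg h, if_neg h]

theorem ders_five_w0 : (ders k ^ 5) (w0 k) = 0 := by
  refine Subtype.ext ?_
  ext i j
  rw [ders_pow_coe, der_pow_apply, dm_w0, ZeroMemClass.coe_zero, Matrix.zero_apply]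
  have h := congrArg (ZMod.castHom (dvd_refl 31) k) (check_dm i j)
  rw [map_dm, map_zero] at h
  simpa only [map_w0f] using h

theorem psi_ders_w0 (m : ℕ) : psi k ((ders k ^ m) (w0 k)) = if m = 4 then 1 else 0 := by
  rcases Nat.lt_or_ge m 5 with hm | hm
  · have h := congrArg (ZMod.castHom (dvd_refl 31) k) (check_psif ⟨m, hm⟩)
    rw [map_psif, apply_ite (ZMod.castHom (dvd_refl 31) k), map_one, map_zero] at h
    simp only [map_dm, map_w0f] at h
    rw [← h, psi_pow, psif, psif]
    refine Finset.sum_congr rfl fun i _ => ?_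
    congr 1
    exact dm_w0 m i ⟨(17 - i) % 16, Nat.mod_lt _ (by norm_num)⟩
  · rw [if_neg (by omega), show m = m - 5 + 5 by omega, pow_add, Module.End.mul_apply,
      ders_five_w0, map_zero, map_zero]

theorem psi_ders_five (w : skew k) : psi k ((ders k ^ 5) w) = 0 := by
  set Φ : E →ₗ[k] k :=
    (∑ i : Fin 16, (psc i : k) •
      (Matrix.entryLinearMap k k i (⟨(17 - i) % 16, Nat.mod_lt _ (by norm_num)⟩ : Fin 16))).comp
      ((der k ^ 5).comp (LinearMap.id -
        (Matrix.transposeLinearEquiv (Fin 16) (Fin 16) k k).toLinearMap)) with hΦ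
  have h0 : Φ = 0 := by
    refine Matrix.ext_linearMap k fun a b => LinearMap.ext_ring ?_
    simp only [hΦ, LinearMap.comp_apply, LinearMap.sum_apply, LinearMap.smul_apply,
      Matrix.entryLinearMap_apply, LinearMap.sub_apply, LinearMap.id_apply, smul_eq_mul,
      Matrix.singleLinearMap_apply, LinearMap.zero_apply, der_pow_apply]
    have h := congrArg (ZMod.castHom (dvd_refl 31) k) (check_unit a b)
    rw [map_psif, map_zero] at h
    simp only [map_dm, map_unitf] at h
    rw [← h, psif]
    refine Finset.sum_congr rfl fun i _ => ?_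
    congr 1
    refine Finset.sum_congr rfl fun c _ => ?_
    by_cases hc : c ≤ (i : ℕ) ∧ 5 - c ≤ (17 - (i : ℕ)) % 16
    · rw [if_pos hc, if_pos hc]
      congr 1
      rw [arr, dif_pos (by omega)]
      show Matrix.single a b (1 : k) ⟨_, _⟩ ⟨_, _⟩ - Matrix.single a b (1 : k) ⟨_, _⟩ ⟨_, _⟩ =
        unitf k a b _ _
      simp [unitf, Matrix.single_apply, Fin.ext_iff]
    · rw [if_neg hc, if_neg hc]
  have h := LinearMap.congr_fun h0 (w : E)
  rw [LinearMap.zero_apply] at h
  have he : (LinearMap.id - (Matrix.transposeLinearEquiv (Fin 16) (Fin 16) k k).toLinearMap :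
      E →ₗ[k] E) (w : E) = (2 : k) • (w : E) := by
    rw [LinearMap.sub_apply, LinearMap.id_apply]
    show (w : E) - (w : E)ᵀ = _
    rw [mem_skew.1 w.2, sub_neg_eq_add, two_smul]
  rw [hΦ, LinearMap.comp_apply, LinearMap.comp_apply, he, map_smul, map_smul, smul_eq_zero] at h
  have h2 := h.resolve_left two_ne_zero'
  rw [← h2, psi, LinearMap.comp_apply, Submodule.coe_subtype, ders_pow_coe]

/-- The projection onto the block of size five. -/
def blk (k : Type*) [Field k] [CharP k 31] : Module.End k (skew k) :=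
  ∑ i ∈ Finset.range 5, ((psi k).comp (ders k ^ (4 - i))).smulRight ((ders k ^ i) (w0 k))

theorem blk_apply (v : skew k) :
    blk k v = ∑ i ∈ Finset.range 5, psi k ((ders k ^ (4 - i)) v) • (ders k ^ i) (w0 k) := by
  simp [blk]

theorem blk_gen {i : ℕ} (hi : i < 5) : blk k ((ders k ^ i) (w0 k)) = (ders k ^ i) (w0 k) := by
  rw [blk_apply, Finset.sum_eq_single i]
  · rw [← Module.End.mul_apply, ← pow_add, psi_ders_w0, if_pos (by omega), one_smul]
  · intro a ha hai
    have := Finset.mem_range.1 ha
    rw [← Module.End.mul_apply, ← pow_add, psi_ders_w0, if_neg (by omega), zero_smul]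
  · intro h
    exact absurd (Finset.mem_range.2 hi) h

theorem blk_idem : IsIdempotentElem (blk k) := by
  refine LinearMap.ext fun v => ?_
  rw [Module.End.mul_apply, blk_apply v, map_sum]
  exact Finset.sum_congr rfl fun i hi => by rw [map_smul, blk_gen (Finset.mem_range.1 hi)]

theorem blk_comm : Commute (blk k) (ders k) := by
  refine LinearMap.ext fun v => ?_
  rw [Module.End.mul_apply, Module.End.mul_apply, blk_apply v, blk_apply (ders k v), map_sum]
  have e : ∀ n, (ders k ^ n) (ders k v) = (ders k ^ (n + 1)) v := fun n => by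
    rw [← Module.End.mul_apply, ← pow_succ]
  have e' : ∀ n, ders k ((ders k ^ n) (w0 k)) = (ders k ^ (n + 1)) (w0 k) := fun n => by
    rw [← Module.End.mul_apply, ← pow_succ']
  simp only [map_smul, e, e']
  rw [Finset.sum_range_succ', Finset.sum_range_succ
    (fun i => psi k ((ders k ^ (4 - i)) v) • (ders k ^ (i + 1)) (w0 k)) 4]
  rw [show 4 - 0 + 1 = 5 from rfl, psi_ders_five, zero_smul, add_zero,
    ders_five_w0, smul_zero, add_zero]
  refine Finset.sum_congr rfl fun i hi => ?_
  have := Finset.mem_range.1 hi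
  rw [show 4 - (i + 1) + 1 = 4 - i by omega]

variable [hp : Fact (Nat.Prime 31)]

theorem texp_der_apply (w : E) :
    texp (k := k) 31 (der k) w =
      texp (k := k) 31 (shift k) * w * (texp (k := k) 31 (shift k))ᵀ := by
  have hz : ∀ i j, 31 ≤ i + j → LinearMap.mulLeft k (shift k) ^ i *
      LinearMap.mulRight k (shift k)ᵀ ^ j = (0 : Module.End k E) := by
    intro i j hij
    refine LinearMap.ext fun v => ?_
    rw [LinearMap.pow_mulLeft, LinearMap.pow_mulRight, Module.End.mul_apply,
      LinearMap.mulRight_apply, LinearMap.mulLeft_apply, LinearMap.zero_apply]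
    ext a b
    rw [shift_pow_mul, Matrix.zero_apply]
    by_cases ha : i ≤ (a : ℕ)
    · rw [if_pos ha, show arr (v * (shift k)ᵀ ^ j) (a - i) b =
        (v * (shift k)ᵀ ^ j) ⟨a - i, by omega⟩ b from arr_coe _ ⟨a - i, by omega⟩ b, mul_shift_pow,
        if_neg (by omega)]
    · rw [if_neg ha]
  rw [der, texp_add (p := 31) (LinearMap.commute_mulLeft_right (R := k) _ _) hz,
    Module.End.mul_apply]
  simp only [texp, LinearMap.sum_apply, LinearMap.smul_apply, LinearMap.pow_mulLeft,
    LinearMap.pow_mulRight, LinearMap.mulLeft_apply, LinearMap.mulRight_apply,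
    Matrix.transpose_sum, Matrix.transpose_smul, Matrix.transpose_pow]
  simp only [Finset.mul_sum, Finset.sum_mul, smul_mul_assoc, mul_smul_comm, Finset.smul_sum,
    smul_smul, mul_assoc]
  rw [Finset.sum_comm]
  exact Finset.sum_congr rfl fun a _ => Finset.sum_congr rfl fun b _ => by rw [mul_comm (ic b : k)]

theorem texp_ders_coe (w : skew k) :
    ((texp (k := k) 31 (ders k) w : skew k) : E) = texp (k := k) 31 (der k) (w : E) := by
  simp only [texp, LinearMap.sum_apply, LinearMap.smul_apply, AddSubmonoidClass.coe_finsetSum,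
    SetLike.val_smul, ders_pow_coe]

theorem texp_ders_sub_one_pow : (texp (k := k) 31 (ders k) - 1) ^ 30 = 0 := by
  obtain ⟨Q, hQ⟩ := exists_texp_eq (k := k) (p := 31)
  have h : texp (k := k) 31 (ders k) - 1 = ders k * Polynomial.aeval (ders k) (1 + X * Q) := by
    rw [hQ (Module.End k (skew k)) (ders k), map_add, map_one, map_mul, Polynomial.aeval_X,
      mul_add, mul_one, ← mul_assoc, ← sq]
    abel
  have h2 : ∀ R : k[X], ders k * Polynomial.aeval (ders k) R = Polynomial.aeval (ders k) (X * R) :=
    fun R => by rw [map_mul, Polynomial.aeval_X]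
  rw [h, h2, ← map_pow, mul_pow, map_mul, map_pow, Polynomial.aeval_X, ders_pow_thirty, zero_mul]

theorem texp_ders_ne : texp (k := k) 31 (ders k) (w0 k) ≠ w0 k := by
  intro h
  have h3 := congrArg (fun v => psi k ((ders k ^ 3) v)) h
  simp only [texp, LinearMap.sum_apply, LinearMap.smul_apply, map_sum, map_smul] at h3
  have e : ∀ i, (ders k ^ 3) ((ders k ^ i) (w0 k)) = (ders k ^ (3 + i)) (w0 k) := fun i => by
    rw [← Module.End.mul_apply, ← pow_add]
  simp only [e, psi_ders_w0, smul_eq_mul] at h3
  rw [Finset.sum_eq_single 1 (fun i _ hi => by rw [if_neg (by omega), mul_zero])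
    (fun hh => absurd (Finset.mem_range.2 (by norm_num)) hh), if_pos rfl, if_neg (by omega)] at h3
  simp [ic] at h3

section Rep

variable {G : Type*} [Group G] [Finite G] {V : Type*} [AddCommGroup V] [Module k V]
  [FiniteDimensional k V] (ρ : Representation k G V) {x : G}

/-- The action of a matrix on skew matrices. -/
def congrSkew (M : E) : Module.End k (skew k) :=
  ((LinearMap.mulLeft k M).comp (LinearMap.mulRight k Mᵀ)).restrict (fun w hw => by
    rw [mem_skew] at hw ⊢
    show (M * (w * Mᵀ))ᵀ = -(M * (w * Mᵀ))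
    rw [Matrix.transpose_mul, Matrix.transpose_mul, Matrix.transpose_transpose, hw,
      mul_neg, neg_mul, mul_assoc])

omit hp [CharP k 31] in
theorem congrSkew_coe (M : E) (w : skew k) : ((congrSkew M w : skew k) : E) = M * w * Mᵀ := by
  show M * ((w : E) * Mᵀ) = _
  rw [mul_assoc]

open scoped Classical in
/-- The orthogonal representation from a sixteen dimensional representation. -/
theorem exists_three_dim_sixteen (hxo : orderOf x = 31) (hsq : ¬ 31 ^ 2 ∣ Nat.card G)
    (hdim : Module.finrank k V = 16) (hx1 : ρ x ≠ 1) :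
    ∃ ψ : G →* Matrix (Fin 3) (Fin 3) k, (∀ g, (ψ g)ᵀ * CfsgLib.HalfPSL.gram * ψ g = CfsgLib.HalfPSL.gram) ∧
      ψ x = regUnip ∧
      (∀ v, Commute v x → ¬ 31 ∣ orderOf v → ψ v = 1) := by
  haveI := Fintype.ofFinite G
  by_cases h15 : (ρ x - 1) ^ 15 = 0
  · exact exists_three_dim_of_pow ρ hxo hsq (by omega) (l := 15) (by norm_num) h15 hx1
  set A := ρ x - 1 with hAdef
  have hAd : A ^ 16 = 0 := by
    have hN : IsNilpotent A := by
      refine ⟨31, ?_⟩
      have h2 := congrArg (Polynomial.aeval (ρ x)) (sub_pow_char (p := 31) (Polynomial.X : k[X]) 1)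
      simp only [map_sub, map_pow, Polynomial.aeval_X, map_one, one_pow] at h2
      rw [hAdef, h2, ← map_pow, ← hxo, pow_orderOf_eq_one, map_one, sub_self]
    have h1 := (LinearMap.isNilpotent_iff_charpoly A).1 hN
    have h2 := LinearMap.aeval_self_charpoly A
    rwa [h1, map_pow, Polynomial.aeval_X, hdim] at h2
  have hAp : A ^ 31 = 0 := pow_eq_zero_of_le (by norm_num) hAd
  have hxA : ρ x = 1 + A := by rw [hAdef]; abel
  obtain ⟨P, hP⟩ := exists_log (k := k) hAp
  set L := Polynomial.aeval A (X * P) with hLdef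
  have hLd : L ^ 16 = 0 := by
    rw [hLdef, ← map_pow, mul_pow, map_mul, map_pow, Polynomial.aeval_X, hAd, zero_mul]
  have hL15 : L ^ 15 ≠ 0 := by
    intro h0
    obtain ⟨Q, hQ⟩ := exists_texp_eq (k := k) (p := 31)
    refine h15 ?_
    have hA : A = L * Polynomial.aeval L (1 + X * Q) := by
      have hh := hP
      rw [hQ (Module.End k V) L] at hh
      rw [map_add, map_one, map_mul, Polynomial.aeval_X, mul_add, mul_one, ← mul_assoc, ← sq]
      exact (add_left_cancel ((add_assoc (1 : Module.End k V) _ _).symm.trans hh)).symm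
    have h2 : ∀ R : k[X], L * Polynomial.aeval L R = Polynomial.aeval L (X * R) :=
      fun R => by rw [map_mul, Polynomial.aeval_X]
    rw [hA, h2, ← map_pow, mul_pow, map_mul, map_pow, Polynomial.aeval_X, h0, zero_mul]
  -- the complement in the normaliser
  set N := PrimeDefect.nrm x
  obtain ⟨W, Dt⟩ := PrimeDefect.exists_data hxo hsq
  haveI hZn : ((Subgroup.zpowers x).subgroupOf N).Normal := Subgroup.normal_in_normalizer
  have hZc : Nat.card ((Subgroup.zpowers x).subgroupOf N) = 31 := by
    have hle : Subgroup.zpowers x ≤ N :=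
      Subgroup.zpowers_le.2 (Subgroup.le_normalizer (Subgroup.mem_zpowers x))
    exact (Nat.card_congr (Subgroup.subgroupOfEquivOfLe hle).toEquiv).trans
      ((Nat.card_zpowers x).trans hxo)
  have hcop : Nat.Coprime (Nat.card ((Subgroup.zpowers x).subgroupOf N))
      ((Subgroup.zpowers x).subgroupOf N).index := by
    rw [hZc, hp.out.coprime_iff_not_dvd]
    intro h
    refine hsq (Dvd.dvd.trans ?_ (Subgroup.card_subgroup_dvd_card N))
    rw [← Subgroup.card_mul_index ((Subgroup.zpowers x).subgroupOf N), hZc, pow_two]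
    exact mul_dvd_mul_left 31 h
  obtain ⟨K, hK⟩ := Subgroup.exists_right_complement'_of_coprime hcop
  haveI := Fintype.ofFinite K
  have hKp : ¬ 31 ∣ Nat.card K := by
    have h := hK.card_mul_card
    intro hd'
    refine hsq (Dvd.dvd.trans ?_ (Subgroup.card_subgroup_dvd_card N))
    rw [← h, hZc, pow_two]
    exact mul_dvd_mul_left 31 hd'
  have hK0 : (Fintype.card K : k) ≠ 0 := by
    rw [← Nat.card_eq_fintype_card, Ne, CharP.cast_eq_zero_iff k 31]
    exact hKp
  let τ : K →* Module.End k V := ρ.comp (N.subtype.comp K.subtype)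
  let r : K →* k :=
    ((ZMod.castHom (dvd_refl 31) k).toMonoidHom.comp (Units.coeHom (ZMod 31))).comp
      (Dt.muHom.comp K.subtype)
  have hr0 : ∀ q, r q ≠ 0 := fun q => IsUnit.ne_zero ((Group.isUnit q).map r)
  have hτL : ∀ q : K, τ q * L = r q • (L * τ q) := by
    intro q
    have hval : ((Dt.mu (q : N) : ZMod 31).val : k) = r q := by
      show _ = (ZMod.castHom (dvd_refl 31) k) (Dt.mu (q : N) : ZMod 31)
      rw [ZMod.castHom_apply, ZMod.natCast_val]
    have h1 : τ q * (1 + A) * τ q⁻¹ = (1 + A) ^ (Dt.mu (q : N) : ZMod 31).val := by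
      rw [← hxA, ← map_pow]
      show ρ _ * ρ x * ρ _ = _
      rw [← map_mul, ← map_mul]
      exact congrArg ρ (Dt.mu_spec (q : N))
    have h2 := conj_log (k := k) hAp hP (τ q) (τ q⁻¹)
      (by rw [← map_mul, inv_mul_cancel, map_one]) (by rw [← map_mul, mul_inv_cancel, map_one]) _ h1
    rw [← hLdef, hval] at h2
    calc τ q * L = τ q * L * τ q⁻¹ * τ q := by
          rw [mul_assoc (τ q * L), ← map_mul, inv_mul_cancel, map_one, mul_one]
      _ = _ := by rw [h2, smul_mul_assoc]
  have hτLpow : ∀ (q : K) (n : ℕ) (v : V), τ q ((L ^ n) v) = r q ^ n • (L ^ n) (τ q v) := by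
    intro q n
    induction n with
    | zero => simp
    | succ n ih =>
      intro v
      have h := LinearMap.congr_fun (hτL q) v
      simp only [Module.End.mul_apply, LinearMap.smul_apply] at h
      rw [pow_succ, Module.End.mul_apply, ih, h, map_smul, smul_smul, ← pow_succ,
        Module.End.mul_apply]
  -- a cyclic vector
  obtain ⟨v₁, hv₁⟩ : ∃ v, (L ^ 15) v ≠ 0 := by
    by_contra h
    push Not at h
    exact hL15 (LinearMap.ext h)
  have hind : ∀ v : V, (L ^ 15) v ≠ 0 →
      LinearIndependent k fun i : Fin 16 => (L ^ (i : ℕ)) v := by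
    intro v hv
    rw [Fintype.linearIndependent_iff]
    intro c hc i
    induction i using WellFoundedLT.induction with
    | _ i IH =>
      have h := congrArg (fun u => (L ^ (15 - (i : ℕ))) u) hc
      simp only [map_sum, map_smul, map_zero, ← Module.End.mul_apply, ← pow_add] at h
      rw [Finset.sum_eq_single i] at h
      · rw [show 15 - (i : ℕ) + i = 15 by omega] at h
        exact (smul_eq_zero.1 h).resolve_right hv
      · intro j _ hji
        rcases lt_or_gt_of_ne hji with hlt | hgt
        · rw [IH j hlt, zero_smul]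
        · have : (i : ℕ) < j := hgt
          rw [pow_eq_zero_of_le (by omega) hLd, LinearMap.zero_apply, smul_zero]
      · simp
  have hrange : ∀ u, ∃ c : k, (L ^ 15) u = c • (L ^ 15) v₁ := by
    intro u
    let b := basisOfLinearIndependentOfCardEqFinrank (hind v₁ hv₁) (by simp [hdim])
    refine ⟨b.repr u 0, ?_⟩
    conv_lhs => rw [← b.sum_repr u, map_sum]
    rw [Finset.sum_eq_single (0 : Fin 16)]
    · simp [b]
    · intro j _ hj
      rw [map_smul]
      simp only [b, coe_basisOfLinearIndependentOfCardEqFinrank, ← Module.End.mul_apply, ← pow_add]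
      rw [pow_eq_zero_of_le (show 16 ≤ 15 + (j : ℕ) by
        have : (j : ℕ) ≠ 0 := fun h0 => hj (Fin.ext h0)
        omega) hLd, LinearMap.zero_apply, smul_zero]
    · simp
  choose lam hlam using fun q : K => hrange (τ q v₁)
  have hlam_mul : ∀ s q, lam (s * q) = lam s * lam q := by
    intro s q
    refine smul_left_injective k hv₁ ?_
    refine smul_right_injective V (pow_ne_zero 15 (hr0 s)) ?_
    show r s ^ 15 • lam (s * q) • (L ^ 15) v₁ = r s ^ 15 • (lam s * lam q) • (L ^ 15) v₁
    rw [← hlam, map_mul, Module.End.mul_apply, ← hτLpow, hlam q, map_smul, hτLpow, hlam s,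
      smul_smul, smul_smul, smul_smul]
    congr 1
    ring
  have hlam1 : lam 1 = 1 := smul_left_injective k hv₁ (show lam 1 • (L ^ 15) v₁ =
    (1 : k) • (L ^ 15) v₁ by rw [← hlam, map_one, Module.End.one_apply, one_smul])
  have hlam0 : ∀ q, lam q ≠ 0 := fun q h0 => by
    have h := hlam_mul q q⁻¹
    rw [h0, zero_mul, mul_inv_cancel, hlam1] at h
    exact one_ne_zero h
  set t0 := (Fintype.card K : k)⁻¹ • ∑ q : K, (lam q)⁻¹ • τ q v₁ with ht0
  have ht0L : (L ^ 15) t0 = (L ^ 15) v₁ := by
    rw [ht0, map_smul, map_sum, Finset.sum_congr rfl (g := fun _ => (L ^ 15) v₁) fun q _ => by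
      rw [map_smul, hlam, smul_smul, inv_mul_cancel₀ (hlam0 q), one_smul],
      Finset.sum_const, Finset.card_univ, ← Nat.cast_smul_eq_nsmul k, smul_smul,
      inv_mul_cancel₀ hK0, one_smul]
  have ht0τ : ∀ s, τ s t0 = lam s • t0 := by
    intro s
    rw [ht0, map_smul, map_sum, smul_comm (lam s), Finset.smul_sum (r := lam s)]
    congr 1
    refine Fintype.sum_equiv (Equiv.mulLeft s) _ _ fun q => ?_
    rw [map_smul, Equiv.coe_mulLeft, map_mul, Module.End.mul_apply, smul_smul, hlam_mul, mul_inv,
      ← mul_assoc, mul_inv_cancel₀ (hlam0 s), one_mul]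
  let b := basisOfLinearIndependentOfCardEqFinrank (hind t0 (by rw [ht0L]; exact hv₁))
    (by simp [hdim])
  have hb : ∀ i, b i = (L ^ (i : ℕ)) t0 := fun i => by simp [b]
  let Φ := LinearMap.toMatrixAlgEquiv b
  let M : G →* E := (Φ.toAlgHom.toMonoidHom).comp ρ
  have hΦL : Φ L = shift k := by
    ext i j
    rw [LinearMap.toMatrixAlgEquiv_apply, hb, ← Module.End.mul_apply, ← pow_succ']
    by_cases h : (j : ℕ) + 1 < 16
    · rw [show (L ^ ((j : ℕ) + 1)) t0 = b ⟨j + 1, h⟩ from (hb ⟨j + 1, h⟩).symm, b.repr_self,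
        Finsupp.single_apply]
      simp [shift, Fin.ext_iff, eq_comm]
    · rw [pow_eq_zero_of_le (by omega) hLd, LinearMap.zero_apply, map_zero]
      simp only [shift, Matrix.of_apply, Finsupp.coe_zero, Pi.zero_apply]
      rw [if_neg (by omega)]
  have hMx : M x = texp (k := k) 31 (shift k) := by
    show Φ (ρ x) = _
    rw [hxA, ← hP, texp, map_sum]
    simp only [map_smul, map_pow, hΦL]
    rfl
  set dd : K → Fin 16 → k := fun q i => lam q * r q ^ (i : ℕ) with hdd
  have hMq : ∀ q : K, M ((q : N) : G) = Matrix.diagonal (dd q) := by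
    intro q
    ext i j
    show Φ (τ q) i j = _
    rw [LinearMap.toMatrixAlgEquiv_apply, hb, hτLpow, ht0τ]
    simp only [map_smul, smul_smul]
    rw [← hb, b.repr_self, Finsupp.smul_apply, Finsupp.single_apply, Matrix.diagonal_apply,
      smul_eq_mul]
    by_cases h : i = j
    · subst h
      simp [hdd, mul_comm]
    · rw [if_neg (Ne.symm h), if_neg h, mul_zero]
  -- the action on skew matrices
  let σ : Representation k G (skew k) :=
    { toFun := fun g => congrSkew (M g)
      map_one' := LinearMap.ext fun w => Subtype.ext (by simp [congrSkew_coe])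
      map_mul' := fun g h => LinearMap.ext fun w => Subtype.ext (by
        rw [Module.End.mul_apply, congrSkew_coe, congrSkew_coe, congrSkew_coe, map_mul,
          Matrix.transpose_mul]
        simp only [mul_assoc]) }
  have hσx : σ x = texp (k := k) 31 (ders k) := LinearMap.ext fun w => Subtype.ext (by
    show ((congrSkew (M x) w : skew k) : E) = _
    rw [congrSkew_coe, texp_ders_coe, texp_der_apply, hMx])
  have hD : (σ x - 1) ^ (31 - 1) = 0 := by rw [hσx]; exact texp_ders_sub_one_pow
  have hblkx : Commute (blk k) (σ x) := by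
    rw [hσx, texp]
    exact Commute.sum_right _ _ _ fun i _ => (blk_comm.pow_right i).smul_right _
  have hscale : ∀ (q : K) (w : skew k) (i j : Fin 16),
      ((σ ((q : N) : G) w : skew k) : E) i j = dd q i * (w : E) i j * dd q j := by
    intro q w i j
    show ((congrSkew (M _) w : skew k) : E) i j = _
    rw [congrSkew_coe, hMq, Matrix.diagonal_transpose, Matrix.mul_diagonal, Matrix.diagonal_mul]
  have hblkq : ∀ q : K, Commute (blk k) (σ ((q : N) : G)) := by
    intro q
    set s := σ ((q : N) : G) with hs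
    have hDs : ∀ w, s (ders k w) = r q • ders k (s w) := by
      intro w
      refine Subtype.ext ?_
      show ((congrSkew (M _) (ders k w) : skew k) : E) =
        r q • der k ((congrSkew (M _) w : skew k) : E)
      rw [congrSkew_coe, congrSkew_coe, show ((ders k w : skew k) : E) = der k (w : E) from rfl]
      have h1 : M ((q : N) : G) * shift k = r q • (shift k * M ((q : N) : G)) := by
        rw [← hΦL]
        show Φ (τ q) * Φ L = r q • (Φ L * Φ (τ q))
        rw [← map_mul, ← map_mul, ← map_smul, hτL]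
      have h2 := congrArg Matrix.transpose h1
      rw [Matrix.transpose_mul, Matrix.transpose_smul, Matrix.transpose_mul] at h2
      simp only [der_apply, mul_add, add_mul, smul_add]
      congr 1
      · rw [← mul_assoc (M _) (shift k), h1, smul_mul_assoc, smul_mul_assoc]
        simp only [mul_assoc]
      · rw [mul_assoc, mul_assoc (w : E), h2, mul_smul_comm, mul_smul_comm]
        simp only [mul_assoc]
    have hDn : ∀ n w, s ((ders k ^ n) w) = r q ^ n • (ders k ^ n) (s w) := by
      intro n
      induction n with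
      | zero => simp
      | succ n ih =>
        intro w
        rw [pow_succ, Module.End.mul_apply, ih, hDs, map_smul, smul_smul, ← pow_succ,
          Module.End.mul_apply]
    have hw : s (w0 k) = (lam q * lam q * r q ^ 13) • w0 k := by
      refine Subtype.ext ?_
      ext i j
      rw [hs, hscale, SetLike.val_smul, Matrix.smul_apply, smul_eq_mul]
      show dd q i * w0f k i j * dd q j = _ * w0f k i j
      by_cases h : (i : ℕ) + j = 13
      · simp only [hdd]
        rw [← h, pow_add]
        ring
      · rw [w0f, if_neg h]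
        ring
    have hψ : ∀ w, psi k (s w) = (lam q * lam q * r q ^ 17) * psi k w := by
      intro w
      rw [psi_apply, psi_apply, psif, psif, Finset.mul_sum]
      refine Finset.sum_congr rfl fun i _ => ?_
      set j : Fin 16 := ⟨(17 - i) % 16, Nat.mod_lt _ (by norm_num)⟩
      rw [show arr ((s w : skew k) : E) i ((17 - i) % 16) = ((s w : skew k) : E) i j from
        arr_coe _ i j, show arr (w : E) i ((17 - i) % 16) = (w : E) i j from arr_coe _ i j,
        hs, hscale]
      by_cases h : psc i = 0
      · simp [h]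
      · have h17 := check_psc i h
        have h17' : r q ^ 17 = r q ^ (i : ℕ) * r q ^ ((17 - (i : ℕ)) % 16) := by
          rw [← pow_add, h17]
        simp only [hdd, j]
        rw [h17']
        ring
    refine LinearMap.ext fun w => ?_
    rw [Module.End.mul_apply, Module.End.mul_apply, blk_apply, blk_apply, map_sum]
    refine Finset.sum_congr rfl fun i hi => ?_
    have hi' := Finset.mem_range.1 hi
    have h4 : psi k (s ((ders k ^ (4 - i)) w)) = r q ^ (4 - i) * psi k ((ders k ^ (4 - i)) (s w)) := by
      rw [hDn, map_smul, smul_eq_mul]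
    rw [hψ] at h4
    rw [map_smul, hDn, hw, map_smul, smul_smul, smul_smul]
    congr 1
    refine mul_left_cancel₀ (pow_ne_zero (4 - i) (hr0 q)) ?_
    rw [← h4, show (17 : ℕ) = 4 - i + i + 13 by omega, pow_add, pow_add]
    ring
  have hblk : ∀ n ∈ N, Commute (blk k) (σ n) := by
    intro n hn
    obtain ⟨⟨⟨z, hz⟩, q⟩, hzq⟩ := hK.2 (⟨n, hn⟩ : N)
    obtain ⟨i, hi⟩ := (mem_powers_iff_mem_zpowers (x := x)).2 (Subgroup.mem_subgroupOf.1 hz)
    have hnq : n = x ^ i * ((q : N) : G) := by
      refine (congrArg Subtype.val hzq).symm.trans ?_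
      show (z : G) * ((q : N) : G) = _
      rw [show (z : G) = x ^ i from hi.symm]
    rw [hnq, map_mul, map_pow]
    exact (hblkx.pow_right i).mul_right (hblkq q)
  obtain ⟨e, heid, hec, hinj1, hinj2, -⟩ :=
    exists_idempotent σ hxo hsq hD (blk k) blk_idem hblk
  -- the five dimensional summand
  set U := LinearMap.range e with hU
  have hee : ∀ w, e (e w) = e w := fun w => by rw [← Module.End.mul_apply, heid.eq]
  have hUinv : ∀ g, ∀ u ∈ U, σ g u ∈ U := by
    rintro g _ ⟨w, rfl⟩
    exact ⟨σ g w, by rw [← Module.End.mul_apply, (hec g).eq, Module.End.mul_apply]⟩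
  let σU : Representation k G U :=
    { toFun := fun g => (σ g).restrict (hUinv g)
      map_one' := LinearMap.ext fun u => Subtype.ext (by simp)
      map_mul' := fun g h => LinearMap.ext fun u => Subtype.ext (by simp) }
  have hfin : Module.finrank k U ≤ 5 := by
    let S : Submodule k (skew k) :=
      Submodule.span k (Set.range fun i : Fin 5 => (ders k ^ (i : ℕ)) (w0 k))
    have hS : Module.finrank k S ≤ 5 := by
      refine (finrank_range_le_card _).trans ?_
      simp
    have hmem : ∀ v, blk k v ∈ S := fun v => by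
      rw [blk_apply]
      exact S.sum_mem fun i hi => S.smul_mem _ (Submodule.subset_span
        ⟨⟨i, Finset.mem_range.1 hi⟩, rfl⟩)
    let f : U →ₗ[k] S := ((blk k).comp U.subtype).codRestrict S fun u => hmem _
    refine (LinearMap.finrank_le_finrank_of_injective (f := f) ?_).trans hS
    intro u v huv
    refine Subtype.ext (sub_eq_zero.1 (hinj2 _ ?_ ?_))
    · obtain ⟨w, hw⟩ := U.sub_mem u.2 v.2
      rw [← hw, hee]
    · rw [map_sub, sub_eq_zero]
      exact congrArg Subtype.val huv
  have hxU : σU x ≠ 1 := by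
    intro h
    refine texp_ders_ne (k := k) (sub_eq_zero.1 (hinj1 _ ?_ ?_))
    · have hw0 : blk k (w0 k) = w0 k := by simpa using blk_gen (k := k) (i := 0) (by norm_num)
      rw [map_sub, hw0, ← hσx, ← Module.End.mul_apply, hblkx.eq, Module.End.mul_apply, hw0]
    · have h1 := congrArg Subtype.val (LinearMap.congr_fun h ⟨e (w0 k), _, rfl⟩)
      simp only [σU, MonoidHom.coe_mk, OneHom.coe_mk, LinearMap.coe_restrict_apply,
        Module.End.one_apply] at h1
      rw [map_sub, ← hσx, ← Module.End.mul_apply, (hec x).eq, Module.End.mul_apply, h1, sub_self]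
  have h5 : 2 * Module.finrank k U + 1 ≤ 31 := by omega
  have := exists_three_dim (k := k) (V := U) (p := 31) (x := x) σU
  exact this hxo hsq h5 hxU

end Rep

/-- Degree sixteen and `31`: the quotient by the centre is `PSL₂(31)`. -/
theorem exists_psl {G : Type*} [Group G] [Finite G] {x : G}
    (hx : orderOf x = 31) (hsq : ¬ 31 ^ 2 ∣ Nat.card G)
    (hnn : ∀ H : Subgroup G, H.Normal → Nat.card H ≠ 31) (χ : IrrCharacter G)
    (hdeg : charDegree (χ : G → ℂ) = 16)
    (hfaith : ∀ g : G, (χ : G → ℂ) g = (χ : G → ℂ) 1 → g = 1) :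
    Nonempty ((G ⧸ Subgroup.center G) ≃*
      Matrix.ProjectiveSpecialLinearGroup (Fin 2) (ZMod 31)) := by
  obtain ⟨kk, _, _, ρk, hx1, -⟩ := exists_reduction hx hsq hnn _ (irr_isCharacter χ) hfaith
  obtain ⟨ψ, hiso, hψx, hψV⟩ := exists_three_dim_sixteen (k := kk) ρk hx hsq
    (by rw [Module.finrank_fin_fun, hdeg]) hx1
  exact psl_core hx hsq hnn _ (irr_isCharacter χ) hfaith (by omega) (by norm_num)
    (isIrr_res_of_irr hx hsq hnn χ hfaith (by omega)) ψ hiso hψx hψV

end CfsgLib.LinSmall.P31
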