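import Cfsg.Agent.Lib.LinSmall.Tools
import Cfsg.Agent.Lib.HalfPSL.Basic
import Cfsg.Agent.Lib.Characters.SmallDegreeSylow

/-!
# Linear groups of degree at most `p - 3`: the Sylow subgroups have order `p` modulo the centre

If a finite group has a faithful irreducible representation of degree at most `p - 3`, non-normal
Sylow `p`-subgroups and no central element of order `p`, then `p²` does not divide its order.
-/

set_option autoImplicit false
set_option linter.style.haveILetI false

noncomputable section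

namespace CfsgLib.LinSmall

open Cfsg CfsgLib.Characters CfsgLib.SmallDegree

universe u

/-- The statement for all groups of order less than `N`. -/
def OrderBound (p N : ℕ) : Prop :=
  ∀ (G : Type u) [Group G] [Finite G] (V : Type) [AddCommGroup V] [Module ℂ V]
    [FiniteDimensional ℂ V] (ρ : Representation ℂ G V), Nat.card G < N → ρ.IsIrreducible →
    Function.Injective ρ → Module.finrank ℂ V + 3 ≤ p → ¬ NS p G →
    (∀ z ∈ Subgroup.center G, z ^ p = 1 → z = 1) → ¬ p ^ 2 ∣ Nat.card G

theorem isPGroup_zpowers {G : Type u} [Group G] {p : ℕ} [hp : Fact p.Prime] {b : G} {k : ℕ}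
    (hb : b ^ p ^ k = 1) : IsPGroup p (Subgroup.zpowers b) := by
  obtain ⟨i, -, hi⟩ := (Nat.dvd_prime_pow hp.out).1 (orderOf_dvd_of_pow_eq_one hb)
  exact IsPGroup.of_card (n := i) (by rw [Nat.card_zpowers, hi])

theorem pow_prime_pow_of_mem {G : Type u} [Group G] {p : ℕ} {S : Subgroup G} (hS : IsPGroup p S)
    {b : G} (hb : b ∈ S) : ∃ k, b ^ p ^ k = 1 := by
  obtain ⟨k, hk⟩ := hS ⟨b, hb⟩
  exact ⟨k, congrArg Subtype.val hk⟩

/-- In a group with normal Sylow subgroups and a faithful representation of degree less than `p`,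
elements of `p`-power order commute. -/
theorem commute_of_ns {Y : Type u} [Group Y] [Finite Y] {W : Type} [AddCommGroup W] [Module ℂ W]
    [FiniteDimensional ℂ W] {p : ℕ} [hp : Fact p.Prime] (τ : Representation ℂ Y W)
    (hinj : Function.Injective τ) (hdim : Module.finrank ℂ W < p) (hns : NS p Y) {a b : Y}
    {i j : ℕ} (ha : a ^ p ^ i = 1) (hb : b ^ p ^ j = 1) : Commute a b := by
  obtain ⟨S, hS⟩ := (isPGroup_zpowers ha).exists_le_sylow
  obtain ⟨T, hT⟩ := (isPGroup_zpowers hb).exists_le_sylow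
  haveI := Sylow.unique_of_normal S (hns S)
  rw [Subsingleton.elim T S] at hT
  exact congrArg Subtype.val (pgroup_comm' (X := (S : Subgroup Y)) (τ.comp (S : Subgroup Y).subtype)
    (hinj.comp (S : Subgroup Y).subtype_injective) S.isPGroup' hdim
    ⟨a, hS (Subgroup.mem_zpowers a)⟩ ⟨b, hT (Subgroup.mem_zpowers b)⟩)

section counterexample

variable {G : Type u} [Group G] [Finite G] {p : ℕ} [hp : Fact p.Prime] {V : Type} [AddCommGroup V]
  [Module ℂ V] [FiniteDimensional ℂ V]

/-- An irreducible image of a proper section: noncentral elements of `p`-power order have simple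
spectra. -/
theorem image_simple {Y : Type u} [Group Y] [Finite Y] {W : Type} [AddCommGroup W] [Module ℂ W]
    [FiniteDimensional ℂ W] {N : ℕ} (hIH : OrderBound.{u} p N) (hcard : Nat.card Y < N)
    (τ : Representation ℂ Y W) (hirr : τ.IsIrreducible) (hinj : Function.Injective τ)
    (hdim : Module.finrank ℂ W + 3 ≤ p) (hns : ¬ NS p Y) {y : Y} {k : ℕ} (hy : y ^ p ^ k = 1)
    (hyc : y ∉ Subgroup.center Y) (μ : ℂ) :
    Module.finrank ℂ (Module.End.eigenspace (τ y) μ) ≤ 1 := by
  obtain ⟨Z, hZn, hZc, -, σ, hσirr, hσinj, hσ, hσc, hσns⟩ :=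
    exists_untwist (p := p) τ hirr hinj (by omega)
  haveI := hZn
  have hle : Nat.card (Y ⧸ Z) ≤ Nat.card Y :=
    Nat.le_of_dvd Nat.card_pos (Subgroup.card_quotient_dvd_card Z)
  have hsq := hIH (Y ⧸ Z) W σ (hle.trans_lt hcard) hσirr hσinj hdim (hσns hns) hσc
  have hord : orderOf (y : Y ⧸ Z) = p := by
    obtain ⟨i, -, hi⟩ := (Nat.dvd_prime_pow hp.out).1 (orderOf_dvd_of_pow_eq_one
      (show (y : Y ⧸ Z) ^ p ^ k = 1 by rw [← QuotientGroup.mk_pow, hy, QuotientGroup.mk_one]))
    rcases i with _ | _ | i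
    · rw [pow_zero, orderOf_eq_one_iff, QuotientGroup.eq_one_iff] at hi
      exact absurd (hZc hi) hyc
    · rwa [pow_one] at hi
    · exact absurd ((pow_dvd_pow p (by omega : 2 ≤ i + 2)).trans (hi ▸ orderOf_dvd_natCard _)) hsq
  obtain ⟨c, hc⟩ := hσ y
  refine le_trans (Submodule.finrank_mono (fun v hv => ?_))
    ((ev_simple σ hσirr hσinj (hσns hns) hsq (by omega) hord).1 (c * μ))
  rw [Module.End.mem_eigenspace_iff] at hv ⊢
  rw [hc, LinearMap.smul_apply, hv, smul_smul]

variable (ρ : Representation ℂ G V) (hirr : ρ.IsIrreducible) (hinj : Function.Injective ρ)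
  (hn : Module.finrank ℂ V + 3 ≤ p) (hns : ¬ NS p G)
  (hc : ∀ z ∈ Subgroup.center G, z ^ p = 1 → z = 1) (hIH : OrderBound.{u} p (Nat.card G))
  (hsq : p ^ 2 ∣ Nat.card G)

include hinj hn in
theorem sylow_comm (S : Sylow p G) : ∀ a ∈ (S : Subgroup G), ∀ b ∈ (S : Subgroup G),
    a * b = b * a := fun a ha b hb =>
  congrArg Subtype.val (pgroup_comm' (X := (S : Subgroup G)) (ρ.comp (S : Subgroup G).subtype)
    (hinj.comp (S : Subgroup G).subtype_injective) S.isPGroup' (by omega) ⟨a, ha⟩ ⟨b, hb⟩)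

omit [Finite G] in
include hp hc in
/-- Elements of `p`-power order are not central. -/
theorem notMem_center {b : G} {k : ℕ} (hb : b ^ p ^ k = 1) (hb1 : b ≠ 1) :
    b ∉ Subgroup.center G := by
  induction k generalizing b with
  | zero => exact absurd (by simpa using hb) hb1
  | succ k ih =>
    intro hbc
    by_cases h : b ^ p = 1
    · exact hb1 (hc b hbc h)
    · exact ih (by rw [← pow_mul, ← pow_succ']; exact hb) h (pow_mem hbc p)

omit [Finite G] in
theorem card_lt_of_ne_top [Finite G] {H : Subgroup G} (hH : H ≠ ⊤) :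
    Nat.card H < Nat.card G :=
  lt_of_le_of_ne (Nat.le_of_dvd Nat.card_pos H.card_subgroup_dvd_card)
    fun h => hH (Subgroup.eq_top_of_card_eq H h)

include hirr hinj hn hns hc hIH hsq in
/-- The Sylow subgroups lie in no proper normal subgroup. -/
theorem sylow_gen (P : Sylow p G) (K : Subgroup G) (hK : K.Normal)
    (hPK : (P : Subgroup G) ≤ K) : K = ⊤ := by
  by_contra hKt
  have hnsK : ¬ NS p K := by
    intro h
    obtain ⟨U, hUK, hpU, hmax, -⟩ := exists_largest K h
    have hUP : U = P := P.is_maximal' hpU (hmax _ hPK P.isPGroup')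
    have hPn : (P : Subgroup G).Normal := ⟨fun u hu g => by
      have := mem_normalizer_of_forall_conj hUK hpU hmax (g := g) fun k =>
        ⟨fun hk => hK.conj_mem k hk g, fun hk => by
          have := hK.conj_mem _ hk g⁻¹
          simpa [mul_assoc] using this⟩
      rw [hUP] at this
      exact (Subgroup.mem_normalizer_iff.1 this u).1 hu⟩
    refine hns fun Q => ?_
    haveI := Sylow.unique_of_normal P hPn
    rw [Subsingleton.elim Q P]
    exact hPn
  obtain ⟨W, hW, hWirr, -, hbig⟩ :=
    exists_big (G := K) (ρ.comp K.subtype) (hinj.comp K.subtype_injective) hnsK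
  haveI := hWirr
  haveI := hirr
  have hW0 : 0 < Module.finrank ℂ W :=
    CfsgLib.CharScalar.finrank_pos (subRep (ρ.comp K.subtype) W hW)
  have hWt : W = ⊤ := by
    by_contra hWt
    obtain ⟨g, w, hw, hgw⟩ : ∃ g, ∃ w ∈ W, ρ g w ∉ W := by
      by_contra h
      push Not at h
      rcases CfsgLib.CharScalar.eq_bot_or_eq_top ρ W h with h | h
      · rw [h, finrank_bot] at hW0; omega
      · exact hWt h
    set W' := W.map (ρ g) with hW'
    have hfr : Module.finrank ℂ W' = Module.finrank ℂ W :=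
      (Submodule.equivMapOfInjective (ρ g) (fun a b h => by
        simpa using congrArg (ρ g⁻¹) h) W).finrank_eq.symm
    have hW'inv : ∀ k ∈ K, ∀ v ∈ W', ρ k v ∈ W' := by
      rintro k hk _ ⟨v, hv, rfl⟩
      have hmem : g⁻¹ * k * g ∈ K := by simpa using hK.conj_mem k hk g⁻¹
      refine ⟨ρ (g⁻¹ * k * g) v, hW ⟨_, hmem⟩ v hv, ?_⟩
      rw [← Module.End.mul_apply, ← Module.End.mul_apply, ← map_mul, ← map_mul]
      group
    have hdisj : W ⊓ W' = ⊥ := by
      rcases CfsgLib.CharScalar.eq_bot_or_eq_top (subRep (ρ.comp K.subtype) W hW)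
        (W'.comap W.subtype) (fun k v hv => hW'inv k k.2 _ hv) with h | h
      · rw [← Submodule.map_comap_subtype, h, Submodule.map_bot]
      · exfalso
        refine hgw ?_
        have hle : W ≤ W' := fun v hv => (h ▸ Submodule.mem_top : (⟨v, hv⟩ : W) ∈ W'.comap W.subtype)
        rw [Submodule.eq_of_le_of_finrank_eq hle hfr.symm]
        exact ⟨w, hw, rfl⟩
    have h1 := Submodule.finrank_sup_add_finrank_inf_eq W W'
    rw [hdisj, finrank_bot, hfr] at h1
    have := Submodule.finrank_le (W ⊔ W')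
    omega
  have hτinj : Function.Injective (subRep (ρ.comp K.subtype) W hW) := fun a b hab =>
    Subtype.ext (hinj (LinearMap.ext fun v => by
      exact congrArg Subtype.val (LinearMap.congr_fun hab ⟨v, hWt ▸ Submodule.mem_top⟩)))
  have hKc : ∀ z ∈ Subgroup.center K, z ^ p = 1 → z = 1 := by
    intro z hz hzp
    obtain ⟨c, hcz⟩ := CfsgLib.CharScalar.center_scalar (subRep (ρ.comp K.subtype) W hW) hz
    have hzG : (z : G) ∈ Subgroup.center G := by
      refine Subgroup.mem_center_iff.2 fun g => hinj ?_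
      have hρz : ρ (z : G) = c • (1 : Module.End ℂ V) := LinearMap.ext fun v =>
        congrArg Subtype.val (LinearMap.congr_fun hcz ⟨v, hWt ▸ Submodule.mem_top⟩)
      rw [map_mul, map_mul, hρz, mul_smul_comm, smul_mul_assoc, one_mul, mul_one]
    exact Subtype.ext (hc _ hzG (congrArg Subtype.val hzp))
  refine hIH K W _ (card_lt_of_ne_top hKt) hWirr hτinj ?_ hnsK hKc ?_
  · have := Submodule.finrank_le W
    omega
  · refine Nat.dvd_trans ?_ (Subgroup.card_dvd_of_le hPK)
    rw [P.card_eq_multiplicity]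
    exact pow_dvd_pow p ((hp.out.pow_dvd_iff_le_factorization Nat.card_pos.ne').1 hsq)

include hirr hinj hn hns hc hIH hsq in
/-- No nontrivial element of `p`-power order has an eigenvalue of multiplicity at least
`(p - 1) / 2`. -/
theorem false_of_mult {b : G} {k : ℕ} (hb : b ^ p ^ k = 1) (hb1 : b ≠ 1) (μ : ℂ)
    (hm : p ≤ 2 * Module.finrank ℂ (Module.End.eigenspace (ρ b) μ) + 1) : False := by
  classical
  have hbc := notMem_center hc hb hb1
  by_cases hall : ∀ g h : G, Commute (g * b * g⁻¹) (h * b * h⁻¹)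
  · -- the conjugates generate an abelian normal `p`-subgroup
    set A := Subgroup.normalClosure ({b} : Set G)
    have hgen : ∀ z ∈ Group.conjugatesOfSet ({b} : Set G), ∃ g, z = g * b * g⁻¹ := by
      intro z hz
      obtain ⟨a, ha, haz⟩ := Group.mem_conjugatesOfSet_iff.1 hz
      rw [Set.mem_singleton_iff.1 ha] at haz
      obtain ⟨g, hg⟩ := isConj_iff.1 haz
      exact ⟨g, hg.symm⟩
    have hcomm : ∀ a ∈ A, ∀ a' ∈ A, Commute a a' := by
      intro a ha a' ha'
      refine Subgroup.closure_induction₂ (p := fun a b _ _ => Commute a b)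
        (fun u v hu hv => ?_) (fun u _ => Commute.one_left u) (fun u _ => Commute.one_right u)
        (fun u v w _ _ _ h1 h2 => h1.mul_left h2) (fun u v w _ _ _ h1 h2 => h1.mul_right h2)
        (fun u v _ _ h => h.inv_left) (fun u v _ _ h => h.inv_right) ha ha'
      obtain ⟨g, rfl⟩ := hgen u hu
      obtain ⟨h, rfl⟩ := hgen v hv
      exact hall g h
    have hpow : ∀ a ∈ A, a ^ p ^ k = 1 := by
      intro a ha
      induction ha using Subgroup.closure_induction with
      | mem z hz =>
        obtain ⟨g, rfl⟩ := hgen z hz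
        rw [conj_pow, hb, mul_one, mul_inv_cancel]
      | one => exact one_pow _
      | mul a a' ha ha' iha iha' => rw [(hcomm a ha a' ha').mul_pow, iha, iha', one_mul]
      | inv a _ iha => rw [inv_pow, iha, inv_one]
    obtain ⟨R, hR⟩ := IsPGroup.exists_le_sylow (P := A) fun z => ⟨k, Subtype.ext (hpow z z.2)⟩
    have hC : Subgroup.centralizer (A : Set G) = ⊤ :=
      sylow_gen ρ hirr hinj hn hns hc hIH hsq R _ inferInstance fun r hr =>
        Subgroup.mem_centralizer_iff.2 fun a ha => sylow_comm ρ hinj hn R a (hR ha) r hr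
    refine hbc (Subgroup.mem_center_iff.2 fun g => ?_)
    have hbA : b ∈ A := Subgroup.subset_normalClosure rfl
    exact ((Subgroup.mem_centralizer_iff.1 (hC ▸ Subgroup.mem_top g)) b hbA).symm
  push Not at hall
  obtain ⟨g₀, h₀, hgh⟩ := hall
  set g := g₀⁻¹ * h₀ with hg
  set b' := g * b * g⁻¹ with hb'
  have hne : ¬ Commute b b' := by
    intro h
    refine hgh ?_
    have h1 := h.map (MulAut.conj g₀).toMonoidHom
    simp only [MulEquiv.coe_toMonoidHom, MulAut.conj_apply] at h1
    rwa [hb', hg, show g₀ * (g₀⁻¹ * h₀ * b * (g₀⁻¹ * h₀)⁻¹) * g₀⁻¹ = h₀ * b * h₀⁻¹ by group] at h1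
  set H := Subgroup.closure ({b, b'} : Set G)
  set bH : H := ⟨b, Subgroup.subset_closure (by simp)⟩
  set cH : H := ⟨b', Subgroup.subset_closure (by simp)⟩
  have hbH : bH ^ p ^ k = 1 := Subtype.ext hb
  have hcH : cH ^ p ^ k = 1 := Subtype.ext (by
    show b' ^ p ^ k = 1
    rw [hb', conj_pow, hb, mul_one, mul_inv_cancel])
  set ρH : Representation ℂ H V := ρ.comp H.subtype with hρH
  obtain ⟨W, hW, hWirr, hWc⟩ := exists_irr_sub ρH (c := bH * cH * (cH * bH)⁻¹) (fun h => hne (by
    have h1 : bH * cH * (cH * bH)⁻¹ = 1 := Subtype.ext (hinj (h.trans (map_one ρ).symm))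
    rw [mul_inv_eq_one] at h1
    exact congrArg Subtype.val h1))
  haveI := hWirr
  set τ := subRep ρH W hW with hτ
  have hcomm : ¬ Commute (τ bH) (τ cH) := fun h => hWc (by
    rw [map_mul, map_mul, h.eq, ← map_mul, ← map_mul, mul_inv_cancel, map_one])
  -- eigenspaces in `W`
  set m := Module.finrank ℂ (Module.End.eigenspace (ρ b) μ) with hmdef
  set E := Module.End.eigenspace (ρ b) μ
  set E' := E.map (ρ g) with hE'
  have hE'm : Module.finrank ℂ E' = m :=
    (Submodule.equivMapOfInjective (ρ g) (fun a b h => by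
      simpa using congrArg (ρ g⁻¹) h) E).finrank_eq.symm
  have hE'eig : ∀ v ∈ E', ρ b' v = μ • v := by
    rintro _ ⟨v, hv, rfl⟩
    rw [← Module.End.mul_apply, ← map_mul, hb', inv_mul_cancel_right, map_mul,
      Module.End.mul_apply, Module.End.mem_eigenspace_iff.1 hv, map_smul]
  have hlow : ∀ S : Submodule ℂ V, Module.finrank ℂ S = m →
      m + Module.finrank ℂ W ≤ Module.finrank ℂ (W ⊓ S : Submodule ℂ V) + Module.finrank ℂ V := by
    intro S hS
    have h1 := Submodule.finrank_sup_add_finrank_inf_eq W S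
    have := Submodule.finrank_le (W ⊔ S)
    omega
  have hA := hlow E rfl
  have hB := hlow E' hE'm
  have hinter : (W ⊓ E) ⊓ (W ⊓ E') = ⊥ := by
    rw [eq_bot_iff]
    rintro v ⟨⟨hvW, hvE⟩, -, hvE'⟩
    by_contra hv
    refine hcomm ?_
    set T := Submodule.span ℂ {(⟨v, hvW⟩ : W)}
    have hinv : ∀ h : H, τ h ⟨v, hvW⟩ ∈ T := by
      intro h
      have key : ∀ x (hx : x ∈ H), ∃ s : ℂ, ρ x v = s • v := by
        intro x hx
        induction hx using Subgroup.closure_induction_left with
        | one => exact ⟨1, by simp⟩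
        | mul_left x hx y _ ih =>
          obtain ⟨s, hs⟩ := ih
          rw [map_mul, Module.End.mul_apply, hs, map_smul]
          rcases hx with rfl | rfl
          · exact ⟨s * μ, by rw [Module.End.mem_eigenspace_iff.1 hvE, smul_smul]⟩
          · exact ⟨s * μ, by rw [hE'eig v hvE', smul_smul]⟩
        | inv_mul_cancel x hx y _ ih =>
          obtain ⟨s, hs⟩ := ih
          rw [map_mul, Module.End.mul_apply, hs, map_smul]
          have hxv : ρ x v = μ • v := by
            rcases hx with rfl | rfl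
            · exact Module.End.mem_eigenspace_iff.1 hvE
            · exact hE'eig v hvE'
          have h2 := congrArg (ρ x⁻¹) hxv
          rw [map_smul, ρ.inv_self_apply] at h2
          have hμ : μ ≠ 0 := fun h0 => hv (by rw [h2, h0, zero_smul]; exact Submodule.zero_mem _)
          exact ⟨s * μ⁻¹, by
            rw [← smul_smul]
            congr 1
            exact (eq_inv_smul_iff₀ hμ).2 h2.symm⟩
      obtain ⟨s, hs⟩ := key h h.2
      exact Submodule.mem_span_singleton.2 ⟨s, Subtype.ext hs.symm⟩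
    have hTt : T = ⊤ := by
      refine (CfsgLib.CharScalar.eq_bot_or_eq_top τ T fun h w hw => ?_).resolve_left fun h => hv ?_
      · obtain ⟨s, rfl⟩ := Submodule.mem_span_singleton.1 hw
        rw [map_smul]
        exact T.smul_mem _ (hinv h)
      · have hmem : (⟨v, hvW⟩ : W) ∈ T := Submodule.mem_span_singleton_self _
        rw [h, Submodule.mem_bot] at hmem
        exact (Submodule.mem_bot ℂ).2 (congrArg Subtype.val hmem)
    refine LinearMap.ext fun w => ?_
    obtain ⟨s, rfl⟩ := Submodule.mem_span_singleton.1 (hTt ▸ Submodule.mem_top : w ∈ T)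
    have e1 : τ bH ⟨v, hvW⟩ = μ • ⟨v, hvW⟩ := Subtype.ext (Module.End.mem_eigenspace_iff.1 hvE)
    have e2 : τ cH ⟨v, hvW⟩ = μ • ⟨v, hvW⟩ := Subtype.ext (hE'eig v hvE')
    simp only [Module.End.mul_apply, map_smul, e1, e2]
  have hupper : Module.finrank ℂ (W ⊓ E : Submodule ℂ V) +
      Module.finrank ℂ (W ⊓ E' : Submodule ℂ V) ≤ Module.finrank ℂ W := by
    have h1 := Submodule.finrank_sup_add_finrank_inf_eq (W ⊓ E) (W ⊓ E')
    rw [hinter, finrank_bot, add_zero] at h1
    rw [← h1]
    exact Submodule.finrank_mono (sup_le inf_le_left inf_le_left)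
  have hWn := Submodule.finrank_le W
  -- the image
  set X := H ⧸ (τ : H →* _).ker with hX
  have hHt : H ≠ ⊤ := by
    intro hHt
    haveI := hirr
    have hWt := CfsgLib.CharScalar.eq_bot_or_eq_top ρ W fun g v hv =>
      hW ⟨g, hHt ▸ Subgroup.mem_top g⟩ v hv
    rcases hWt with h | h
    · have := CfsgLib.CharScalar.finrank_pos τ
      rw [h, finrank_bot] at this
      omega
    · rw [h, finrank_top] at hA hB hupper
      omega
  have hnsX : ¬ NS p X := fun h => hcomm (by
    have := commute_of_ns (imageRep τ) (imageRep_injective τ) (by omega) h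
      (a := (bH : X)) (b := (cH : X)) (i := k) (j := k)
      (by rw [← QuotientGroup.mk_pow, hbH, QuotientGroup.mk_one])
      (by rw [← QuotientGroup.mk_pow, hcH, QuotientGroup.mk_one])
    exact this.map (imageRep τ))
  have hw : p ≤ 2 * Module.finrank ℂ W + 1 := by
    by_contra h
    exact hnsX (ns_image τ (Nat.lt_of_not_le h))
  have h1 := image_simple hIH ((Nat.le_of_dvd Nat.card_pos
      (Subgroup.card_quotient_dvd_card _)).trans_lt (card_lt_of_ne_top hHt))
    (imageRep τ) (imageRep_irreducible τ hWirr) (imageRep_injective τ) (by omega) hnsX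
    (y := (bH : X)) (k := k) (by rw [← QuotientGroup.mk_pow, hbH, QuotientGroup.mk_one])
    (fun h => hcomm (Commute.map (show Commute (bH : X) (cH : X) from
      (Subgroup.mem_center_iff.1 h _).symm) (imageRep τ))) μ
  have h2 : Module.finrank ℂ (W ⊓ E : Submodule ℂ V) ≤
      Module.finrank ℂ (Module.End.eigenspace (imageRep τ (bH : X)) μ) := by
    rw [← Submodule.map_comap_subtype, Submodule.finrank_map_subtype_eq]
    refine Submodule.finrank_mono fun v hv => ?_
    rw [Module.End.mem_eigenspace_iff]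
    exact Subtype.ext (Module.End.mem_eigenspace_iff.1 hv)
  omega

include hirr hinj hn hns hc hIH hsq in
/-- No nontrivial element of `p`-power order is scalar on a subspace of dimension at least
`(p - 1) / 2`. -/
theorem false_of_scalar {b : G} {k : ℕ} (hb : b ^ p ^ k = 1) (hb1 : b ≠ 1) (W : Submodule ℂ V)
    (c : ℂ) (hW : ∀ v ∈ W, ρ b v = c • v) (hdim : p ≤ 2 * Module.finrank ℂ W + 1) : False := by
  refine false_of_mult ρ hirr hinj hn hns hc hIH hsq hb hb1 c ?_
  have : Module.finrank ℂ W ≤ Module.finrank ℂ (Module.End.eigenspace (ρ b) c) :=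
    Submodule.finrank_mono fun v hv => Module.End.mem_eigenspace_iff.2 (hW v hv)
  omega

include hirr hinj hn hns hc hIH hsq in
/-- Centralisers of elements of `p`-power order have normal Sylow subgroups. -/
theorem centralizer_p_ns {a : G} {k : ℕ} (ha : a ^ p ^ k = 1) (ha1 : a ≠ 1) :
    NS p (Subgroup.centralizer ({a} : Set G)) := by
  by_contra h
  obtain ⟨W, hW, hWirr, -, hbig⟩ :=
    exists_big (G := Subgroup.centralizer ({a} : Set G)) (ρ.comp (Subgroup.subtype _))
      (hinj.comp (Subgroup.subtype_injective _)) h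
  haveI := hWirr
  obtain ⟨c, hc'⟩ := CfsgLib.CharScalar.center_scalar (subRep _ W hW)
    (z := ⟨a, Subgroup.mem_centralizer_singleton_iff.2 rfl⟩) (Subgroup.mem_center_iff.2 fun g =>
      Subtype.ext (Subgroup.mem_centralizer_singleton_iff.1 g.2))
  exact false_of_scalar ρ hirr hinj hn hns hc hIH hsq ha ha1 W c
    (fun v hv => congrArg Subtype.val (LinearMap.congr_fun hc' ⟨v, hv⟩)) hbig

include hirr hinj hn hns hc hIH hsq in
/-- Centralisers of noncentral elements have normal Sylow subgroups. -/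
theorem centralizer_ns {g : G} (hg : g ∉ Subgroup.center G) :
    NS p (Subgroup.centralizer ({g} : Set G)) := by
  classical
  by_contra hnsC
  set C := Subgroup.centralizer ({g} : Set G) with hC
  have hCt : C ≠ ⊤ := fun h => hg (Subgroup.mem_center_iff.2 fun w =>
    Subgroup.mem_centralizer_singleton_iff.1 (hC ▸ h.symm ▸ Subgroup.mem_top w))
  set ρC : Representation ℂ C V := ρ.comp C.subtype with hρC
  have hρCinj : Function.Injective ρC := hinj.comp C.subtype_injective
  obtain ⟨W, hW, hWirr, hWns, hbig⟩ := exists_big ρC hρCinj hnsC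
  haveI := hWirr
  set τ := subRep ρC W hW with hτ
  set gC : C := ⟨g, Subgroup.mem_centralizer_singleton_iff.2 rfl⟩
  obtain ⟨c, hcg⟩ := CfsgLib.CharScalar.center_scalar τ (z := gC) (Subgroup.mem_center_iff.2 fun w =>
    Subtype.ext (Subgroup.mem_centralizer_singleton_iff.1 w.2))
  have hgW : ∀ v ∈ W, ρ g v = c • v := fun v hv =>
    congrArg Subtype.val (LinearMap.congr_fun hcg ⟨v, hv⟩)
  have hWn := Submodule.finrank_le W
  set L := (τ : C →* _).ker with hL
  have hLp : ¬ p ∣ Nat.card L := by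
    intro hd
    obtain ⟨y, hy⟩ := exists_prime_orderOf_dvd_card' p hd
    refine false_of_scalar ρ hirr hinj hn hns hc hIH hsq (b := ((y : C) : G)) (k := 1) ?_ ?_ W 1
      (fun v hv => ?_) hbig
    · rw [pow_one, ← hy]
      exact congrArg (fun z : L => ((z : C) : G)) (pow_orderOf_eq_one y)
    · intro h
      rw [show y = 1 from Subtype.ext (Subtype.ext h), orderOf_one] at hy
      exact hp.out.one_lt.ne hy
    · rw [one_smul]
      exact (subRep_eq_one_iff ρC W hW y).1 y.2 v hv
  by_cases hsqX : p ^ 2 ∣ Nat.card (C ⧸ L)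
  · have hex : ¬ ∀ z ∈ Subgroup.center (C ⧸ L), z ^ p = 1 → z = 1 := fun hcX =>
      hIH (C ⧸ L) W (imageRep τ) ((Nat.le_of_dvd Nat.card_pos
        (Subgroup.card_quotient_dvd_card _)).trans_lt (card_lt_of_ne_top hCt))
        (imageRep_irreducible τ hWirr) (imageRep_injective τ) (by omega) hWns hcX hsqX
    push Not at hex
    obtain ⟨z, hz, hzp, hz1⟩ := hex
    obtain ⟨y₀, rfl⟩ := QuotientGroup.mk_surjective z
    set i := (orderOf y₀).factorization p
    set r := orderOf y₀ / p ^ i
    have hr : ¬ p ∣ r := Nat.not_dvd_ordCompl hp.out (orderOf_pos y₀).ne'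
    have hy : (y₀ ^ r) ^ p ^ i = 1 := by
      rw [← pow_mul, mul_comm, Nat.ordProj_mul_ordCompl_eq_self, pow_orderOf_eq_one]
    have hy1 : ((y₀ ^ r : C) : C ⧸ L) ≠ 1 := fun h => by
      rw [QuotientGroup.mk_pow] at h
      exact hr (orderOf_eq_prime hzp hz1 ▸ orderOf_dvd_of_pow_eq_one h)
    haveI := imageRep_irreducible τ hWirr
    obtain ⟨c', hc'⟩ := CfsgLib.CharScalar.center_scalar (imageRep τ)
      (z := ((y₀ ^ r : C) : C ⧸ L)) (by rw [QuotientGroup.mk_pow]; exact pow_mem hz r)
    exact false_of_scalar ρ hirr hinj hn hns hc hIH hsq (b := ((y₀ ^ r : C) : G)) (k := i)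
      (congrArg Subtype.val hy)
      (fun h => hy1 (by rw [show y₀ ^ r = (1 : C) from Subtype.ext h, QuotientGroup.mk_one]))
      W c' (fun v hv => congrArg Subtype.val (LinearMap.congr_fun hc' ⟨v, hv⟩)) hbig
  have hsqC : ¬ p ^ 2 ∣ Nat.card C := fun h => hsqX (by
    rw [Subgroup.card_eq_card_quotient_mul_card_subgroup L] at h
    exact (Nat.Coprime.pow_left 2 (hp.out.coprime_iff_not_dvd.2 hLp)).dvd_of_dvd_mul_right h)
  obtain ⟨x, hx⟩ : ∃ x : C, orderOf x = p := by
    refine exists_prime_orderOf_dvd_card' p ?_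
    by_contra hd
    refine hnsC fun Q => ?_
    obtain ⟨j, hj⟩ := IsPGroup.iff_card.1 Q.isPGroup'
    rcases j with _ | j
    · rw [show (Q : Subgroup C) = ⊥ from Subgroup.card_eq_one.1 (by rw [hj, pow_zero])]
      infer_instance
    · exact absurd ((dvd_pow_self p (Nat.succ_ne_zero j)).trans
        (hj ▸ Subgroup.card_subgroup_dvd_card _)) hd
  have hxX : orderOf (x : C ⧸ L) = p := by
    refine orderOf_eq_prime (by rw [← QuotientGroup.mk_pow, ← hx, pow_orderOf_eq_one,
      QuotientGroup.mk_one]) fun h => ?_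
    rw [QuotientGroup.eq_one_iff] at h
    exact hLp (hx ▸ Subgroup.orderOf_dvd_natCard L h)
  obtain ⟨-, k, f, hk, hfi, hf⟩ := ev_simple (imageRep τ) (imageRep_irreducible τ hWirr)
    (imageRep_injective τ) hWns hsqX (by omega) hxX
  -- `x` is trivial on a complement
  obtain ⟨U, hU, hUinv⟩ := exists_invariant_compl ρC W hW
  have hUdim : Module.finrank ℂ W + Module.finrank ℂ U = Module.finrank ℂ V :=
    Submodule.finrank_add_eq_of_isCompl hU
  set υ := subRep ρC U hUinv with hυ
  set R := (υ : C →* _).ker with hR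
  have hxp : x ^ p = 1 := hx ▸ pow_orderOf_eq_one x
  have hxR : x ∈ R := by
    by_contra hxR
    have hRp := HalfPSL.not_dvd_of_notMem hsqC R hxp hxR
    have hnsU : NS p (C ⧸ R) := ns_image υ (by omega)
    obtain ⟨H, hH, hHc⟩ := HalfPSL.exists_normal_of_commute hx hsqC fun h => by
      refine HalfPSL.commute_of_commutator_mem hsqC ρC.character (isCharacter_character ρC)
        (fun y hy => ?_) ?_ R hRp hx ?_
      · rw [Representation.char_one] at hy
        exact hρCinj (by rw [map_one ρC]; exact (char_eq_degree_iff ρC y).1 hy)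
      · rw [LinearTwist.charDegree_eq_of_apply_one (n := Module.finrank ℂ V) ρC.char_one]
        omega
      · rw [← QuotientGroup.eq_one_iff]
        have hcom := commute_of_ns (imageRep υ) (imageRep_injective υ) (by omega) hnsU
          (a := ((h * x * h⁻¹ : C) : C ⧸ R)) (b := (x : C ⧸ R)) (i := 1) (j := 1)
          (by rw [pow_one, ← QuotientGroup.mk_pow, conj_pow, hxp, mul_one, mul_inv_cancel,
            QuotientGroup.mk_one])
          (by rw [pow_one, ← QuotientGroup.mk_pow, hxp, QuotientGroup.mk_one])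
        simp only [QuotientGroup.mk_mul, QuotientGroup.mk_inv] at hcom ⊢
        rw [hcom.eq, mul_inv_cancel_right, mul_inv_cancel]
    exact hnsC (ns_of_normal_prime hsqC hH hHc)
  have hxU : ∀ u ∈ U, ρ (x : G) u = u := (subRep_eq_one_iff ρC U hUinv x).1 hxR
  have hW' : ∀ (v : V) (s : ℂ), s ≠ 1 → ρ (x : G) v = s • v → v ∈ W := by
    intro v s hs hv
    obtain ⟨w, hw, u, hu, rfl⟩ := Submodule.mem_sup.1 (hU.sup_eq_top ▸ Submodule.mem_top (x := v))
    rw [map_add, hxU u hu, smul_add] at hv
    have h1 : (1 - s) • u = s • w - ρ (x : G) w := by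
      rw [sub_smul, one_smul, sub_eq_sub_iff_add_eq_add, add_comm u, hv]
    have h2 : (1 - s) • u = 0 := Submodule.disjoint_def.1 hU.disjoint _
      (h1 ▸ W.sub_mem (W.smul_mem s hw) (hW x w hw)) (U.smul_mem _ hu)
    rw [(smul_eq_zero.1 h2).resolve_left (sub_ne_zero.2 (Ne.symm hs)), add_zero]
    exact hw
  -- a commutator in the Sylow subgroup
  have hxG : ((x : G)) ^ p ^ 1 = 1 := by rw [pow_one]; exact congrArg Subtype.val hxp
  have hxG1 : (x : G) ≠ 1 := fun h => by
    rw [show x = 1 from Subtype.ext h, orderOf_one] at hx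
    exact hp.out.one_lt.ne hx
  obtain ⟨P₀, hP₀⟩ := (isPGroup_zpowers hxG).exists_le_sylow
  have hxP₀ : (x : G) ∈ (P₀ : Subgroup G) := hP₀ (Subgroup.mem_zpowers _)
  have hPC : (P₀ : Subgroup G) ≤ Subgroup.centralizer ({(x : G)} : Set G) := fun a ha =>
    Subgroup.mem_centralizer_singleton_iff.2 (sylow_comm ρ hinj hn P₀ a ha x hxP₀)
  obtain ⟨U₀, -, hpU, hmax, hnorm⟩ :=
    exists_largest _ (centralizer_p_ns ρ hirr hinj hn hns hc hIH hsq hxG hxG1)
  have hU₀ : U₀ = P₀ := P₀.is_maximal' hpU (hmax _ hPC P₀.isPGroup')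
  rw [hU₀] at hnorm
  have hgN : g ∈ Subgroup.normalizer ((P₀ : Subgroup G) : Set G) :=
    hnorm (Subgroup.mem_centralizer_singleton_iff.2
      (Subgroup.mem_centralizer_singleton_iff.1 x.2).symm)
  obtain ⟨u, hu, hug⟩ : ∃ u ∈ (P₀ : Subgroup G), u ∉ C := by
    by_contra h
    push Not at h
    refine hsqC (Nat.dvd_trans ?_ (Subgroup.card_dvd_of_le h))
    rw [P₀.card_eq_multiplicity]
    exact pow_dvd_pow p ((hp.out.pow_dvd_iff_le_factorization Nat.card_pos.ne').1 hsq)
  set a := u * g * u⁻¹ * g⁻¹ with ha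
  have haP : a ∈ (P₀ : Subgroup G) := by
    rw [ha, show u * g * u⁻¹ * g⁻¹ = u * (g * u⁻¹ * g⁻¹) by group]
    exact mul_mem hu ((Subgroup.mem_normalizer_iff.1 hgN _).1 (inv_mem hu))
  have ha1 : a ≠ 1 := fun h => hug (by
    rw [ha, mul_inv_eq_one, mul_inv_eq_iff_eq_mul] at h
    exact Subgroup.mem_centralizer_singleton_iff.2 h)
  obtain ⟨j, hj⟩ := pow_prime_pow_of_mem P₀.isPGroup' haP
  refine false_of_mult ρ hirr hinj hn hns hc hIH hsq hj ha1 1 ?_
  have hfix : ∀ i, ((f i : W) : V) ∈ Module.End.eigenspace (ρ a) 1 := by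
    intro i
    obtain ⟨s, hs, hfs⟩ := hf i
    have hv : ρ (x : G) (f i : V) = s • (f i : V) := congrArg Subtype.val hfs
    have hu' : ρ u⁻¹ (f i : V) ∈ W := by
      refine hW' _ s hs ?_
      rw [← Module.End.mul_apply, ← map_mul, sylow_comm ρ hinj hn P₀ x hxP₀ u⁻¹ (inv_mem hu),
        map_mul, Module.End.mul_apply, hv, map_smul]
    have hc0 : c ≠ 0 := fun h0 => by
      have h1 := congrArg (ρ g⁻¹) (hgW _ (f i).2)
      rw [h0, zero_smul, map_zero, ρ.inv_self_apply] at h1
      exact hfi.ne_zero i (Subtype.ext h1)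
    rw [Module.End.mem_eigenspace_iff, one_smul]
    refine smul_right_injective V hc0 ?_
    show c • ρ a (f i : V) = c • (f i : V)
    rw [← map_smul, ← hgW _ (f i).2, ← Module.End.mul_apply, ← map_mul, ha, inv_mul_cancel_right,
      map_mul, Module.End.mul_apply, map_mul, Module.End.mul_apply, hgW _ hu', map_smul,
      ρ.self_inv_apply, hgW _ (f i).2]
  have hli : LinearIndependent ℂ
      fun i => (⟨_, hfix i⟩ : Module.End.eigenspace (ρ a) 1) :=
    LinearIndependent.of_comp (Submodule.subtype _) (hfi.map' W.subtype W.ker_subtype)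
  have := hli.fintype_card_le_finrank
  rw [Fintype.card_fin] at this
  omega

include hirr hinj hn hns hc hIH hsq in
/-- There is no counterexample. -/
theorem false_of_counterexample : False := by
  classical
  haveI := Fintype.ofFinite G
  obtain ⟨P⟩ : Nonempty (Sylow p G) := inferInstance
  haveI := Fintype.ofFinite (P : Subgroup G)
  have habel := sylow_comm ρ hinj hn
  have hPZ : (P : Subgroup G) ⊓ Subgroup.center G = ⊥ := by
    rw [eq_bot_iff]
    intro z hz
    obtain ⟨k, hk⟩ := pow_prime_pow_of_mem P.isPGroup' hz.1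
    rw [Subgroup.mem_bot]
    by_contra hz1
    exact notMem_center hc hk hz1 hz.2
  have hTI : ∀ S T : Sylow p G, ∀ y, y ≠ 1 → y ∈ (S : Subgroup G) → y ∈ (T : Subgroup G) →
      (S : Subgroup G) = T := by
    intro S T y hy1 hyS hyT
    obtain ⟨k, hk⟩ := pow_prime_pow_of_mem S.isPGroup' hyS
    obtain ⟨U, -, hpU, hmax, -⟩ :=
      exists_largest _ (centralizer_p_ns ρ hirr hinj hn hns hc hIH hsq hk hy1)
    have hS : U = S := S.is_maximal' hpU (hmax _ (fun a ha =>
      Subgroup.mem_centralizer_singleton_iff.2 (habel S a ha y hyS)) S.isPGroup')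
    have hT : U = T := T.is_maximal' hpU (hmax _ (fun a ha =>
      Subgroup.mem_centralizer_singleton_iff.2 (habel T a ha y hyT)) T.isPGroup')
    rw [← hS, ← hT]
  have hone : ∀ g : G, g ∉ Subgroup.center G → ∀ a b : G,
      Subgroup.centralizer ({g} : Set G) ⊓ (P : Subgroup G).map (MulAut.conj a).toMonoidHom ≠ ⊥ →
      Subgroup.centralizer ({g} : Set G) ⊓ (P : Subgroup G).map (MulAut.conj b).toMonoidHom ≠ ⊥ →
      (P : Subgroup G).map (MulAut.conj a).toMonoidHom =
        (P : Subgroup G).map (MulAut.conj b).toMonoidHom := by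
    intro g hg a b ha hb
    obtain ⟨U, -, hpU, hmax, -⟩ :=
      exists_largest _ (centralizer_ns ρ hirr hinj hn hns hc hIH hsq hg)
    obtain ⟨T, hUT⟩ := hpU.exists_le_sylow
    have key : ∀ c : G, Subgroup.centralizer ({g} : Set G) ⊓
        (P : Subgroup G).map (MulAut.conj c).toMonoidHom ≠ ⊥ →
        (P : Subgroup G).map (MulAut.conj c).toMonoidHom = T := by
      intro c hcne
      obtain ⟨⟨y, hy⟩, hy1⟩ := Subgroup.ne_bot_iff_exists_ne_one.1 hcne
      have hyT : y ∈ (T : Subgroup G) := hUT (hmax (Subgroup.zpowers y) (Subgroup.zpowers_le.2 hy.1)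
        ((P.isPGroup'.map _).to_le (Subgroup.zpowers_le.2 hy.2)) (Subgroup.mem_zpowers y))
      exact hTI (c • P) T y (fun e => hy1 (Subtype.ext e)) hy.2 hyT
    rw [key a ha, key b hb]
  have hcardP : p ^ 2 ≤ Nat.card (P : Subgroup G) := by
    rw [P.card_eq_multiplicity]
    exact Nat.pow_le_pow_right hp.out.pos
      ((hp.out.pow_dvd_iff_le_factorization Nat.card_pos.ne').1 hsq)
  have hd2 : 2 ≤ Module.finrank ℂ V := by
    by_contra h
    refine hns (ns_of_lt_half ρ hinj ?_)
    omega
  obtain ⟨⟨c, hcP⟩, hc1⟩ : ∃ c : (P : Subgroup G), c ≠ 1 := by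
    refine Subgroup.ne_bot_iff_exists_ne_one.1 fun h => ?_
    rw [h, Subgroup.card_bot] at hcardP
    have := Nat.one_lt_pow two_ne_zero hp.out.one_lt
    omega
  have hb := DegreeBound.one_add_degree_sq_gt (P : Subgroup G) (habel P) hPZ hone
    (fun M hM hPM => sylow_gen ρ hirr hinj hn hns hc hIH hsq P M hM hPM)
    (isIrrCharacter_character ρ hirr)
    ⟨c, hcP, fun h => hc1 (Subtype.ext (hinj (by
      rw [Representation.char_one] at h
      exact ((char_eq_degree_iff ρ c).1 h).trans (map_one ρ).symm)))⟩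
    (d := Module.finrank ℂ V) ρ.char_one hd2
  have : (1 + Module.finrank ℂ V) ^ 2 < p ^ 2 := Nat.pow_lt_pow_left (by omega) two_ne_zero
  omega

end counterexample

/-- **The Sylow subgroup modulo the centre has order `p`.** -/
theorem orderBound {p : ℕ} [Fact p.Prime] : ∀ N, OrderBound.{u} p N := by
  intro N
  induction N with
  | zero => intro G _ _ V _ _ _ ρ h; omega
  | succ N ih =>
    intro G _ _ V _ _ _ ρ hcard hirr hinj hn hns hc hsq
    exact false_of_counterexample ρ hirr hinj hn hns hc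
      (fun G' _ _ V' _ _ _ ρ' h' => ih G' V' ρ' (by omega)) hsq

/-- If there is no central element of order `p`, then `p²` does not divide the order. -/
theorem not_sq_dvd {G : Type u} [Group G] [Finite G] {p : ℕ} [Fact p.Prime] {V : Type}
    [AddCommGroup V] [Module ℂ V] [FiniteDimensional ℂ V] (ρ : Representation ℂ G V)
    (hirr : ρ.IsIrreducible) (hinj : Function.Injective ρ) (hn : Module.finrank ℂ V + 3 ≤ p)
    (hns : ¬ NS p G) (hc : ∀ z ∈ Subgroup.center G, z ^ p = 1 → z = 1) :
    ¬ p ^ 2 ∣ Nat.card G :=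
  orderBound (Nat.card G + 1) G V ρ (Nat.lt_succ_self _) hirr hinj hn hns hc

end CfsgLib.LinSmall
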