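import Cfsg.Agent.Lib.LinSmall.PrimeOrder
import Cfsg.Agent.Lib.LinSmall.P19G
import Cfsg.Agent.Lib.LinSmall.P31

/-!
# Linear groups of degree sixteen
-/

set_option autoImplicit false
set_option linter.style.haveILetI false
set_option maxHeartbeats 1000000

noncomputable section

namespace CfsgLib.LinSmall

open Cfsg CfsgLib.Characters CfsgLib.SmallDegree CfsgLib.HalfPSL

universe u

/-- A group with a non-normal Sylow subgroup has an element of order `p`. -/
theorem exists_orderOf_eq_of_not_ns {X : Type u} [Group X] [Finite X] {p : ℕ} [hp : Fact p.Prime]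
    (h : ¬ NS p X) : ∃ y : X, orderOf y = p := by
  refine exists_prime_orderOf_dvd_card' p ?_
  by_contra hd
  refine h fun Q => ?_
  have hQ : (Q : Subgroup X) = ⊥ := by
    refine Subgroup.card_eq_one.1 ?_
    obtain ⟨k, hk⟩ := IsPGroup.iff_card.1 Q.isPGroup'
    rcases Nat.eq_zero_or_pos k with rfl | hk0
    · simpa using hk
    · exact absurd ((dvd_pow_self p hk0.ne').trans (hk ▸ Subgroup.card_subgroup_dvd_card _)) hd
  rw [hQ]
  infer_instance

/-- The prime nineteen does not occur. -/
theorem false_of_degree_sixteen_nineteen {M : Type u} [Group M] [Finite M]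
    [hp : Fact (Nat.Prime 19)] {x : M} (hx : orderOf x = 19) (hsq : ¬ 19 ^ 2 ∣ Nat.card M)
    (hnn : ∀ H : Subgroup M, H.Normal → Nat.card H ≠ 19) (χ : IrrCharacter M)
    (hfaith : ∀ g : M, (χ : M → ℂ) g = (χ : M → ℂ) 1 → g = 1)
    (hdeg : charDegree (χ : M → ℂ) = 16) : False := by
  set K := Subgroup.normalClosure ({x} : Set M) with hK
  haveI hKn : K.Normal := Subgroup.normalClosure_normal
  haveI := Fintype.ofFinite K
  have hxK : x ∈ K := Subgroup.subset_normalClosure rfl
  set y : K := ⟨x, hxK⟩ with hy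
  have hyo : orderOf y = 19 := by rw [← Subgroup.orderOf_coe]; exact hx
  have hsqK : ¬ 19 ^ 2 ∣ Nat.card K := fun h => hsq (h.trans (Subgroup.card_subgroup_dvd_card K))
  have hall : ∀ H : Subgroup K, H.Normal → 19 ∣ Nat.card H → H = ⊤ := by
    intro H hH hHd
    haveI := hH
    have hle : K ≤ H.map K.subtype := by
      refine Subgroup.closure_le _ |>.2 fun z hz => ?_
      obtain ⟨a, ha, haz⟩ := Group.mem_conjugatesOfSet_iff.1 hz
      rw [Set.mem_singleton_iff.1 ha] at haz
      obtain ⟨g, hg⟩ := isConj_iff.1 haz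
      refine ⟨⟨g * x * g⁻¹, hKn.conj_mem x hxK g⟩, ?_, hg⟩
      refine mem_of_dvd_normal hsqK H hHd (Subtype.ext ?_)
      show (g * x * g⁻¹) ^ 19 = 1
      rw [conj_pow, ← hx, pow_orderOf_eq_one, mul_one, mul_inv_cancel]
    refine eq_top_iff.2 fun z _ => ?_
    obtain ⟨w, hw, hwz⟩ := hle z.2
    rwa [← Subtype.ext (show (w : M) = z from hwz)]
  have hnnK : ∀ H : Subgroup K, H.Normal → Nat.card H ≠ 19 := fun H hH hHc =>
    hnn K hKn (by rw [← Subgroup.card_top (G := K), ← hall H hH (hHc ▸ dvd_rfl), hHc])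
  let χK : IrrCharacter K := ⟨fun g : K => (χ : M → ℂ) g,
    isIrr_res_of_irr hx hsq hnn χ hfaith (by omega)⟩
  refine P19.false_of_nineteen hyo hsqK hnnK χK (fun g hg => Subtype.ext (hfaith _ ?_)) ?_ ?_
  · simpa [χK] using hg
  · rw [← hdeg]
    show charDegree (fun g : K => (χ : M → ℂ) g) = _
    simp [charDegree]
  · refine hall _ Subgroup.normalClosure_normal ?_
    rw [← hyo]
    exact Subgroup.orderOf_dvd_natCard _ (Subgroup.subset_normalClosure rfl)

/-- A faithful irreducible group of degree sixteen: the Sylow subgroups for `p ≥ 19` are normal,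
or `p = 31` and the quotient by the centre is `PSL₂(31)`. -/
theorem degree_sixteen {G : Type u} [Group G] [Finite G] (χ : IrrCharacter G)
    (hdeg : charDegree (χ : G → ℂ) = 16)
    (hfaith : ∀ g : G, (χ : G → ℂ) g = (χ : G → ℂ) 1 → g = 1) (p : ℕ) [hp : Fact p.Prime]
    (h19 : 19 ≤ p) :
    NS p G ∨ (p = 31 ∧ Nonempty (G ⧸ Subgroup.center G ≃*
      Matrix.ProjectiveSpecialLinearGroup (Fin 2) (ZMod 31))) := by
  classical
  by_cases hns : NS p G
  · exact Or.inl hns
  refine Or.inr ?_
  obtain ⟨n, ρ, hirr, hρ⟩ := id χ.2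
  have hn : n = 16 := by
    rw [← hdeg]
    refine (LinearTwist.charDegree_eq_of_apply_one ?_).symm
    rw [← hρ, Representation.char_one]
    simp
  have hinj : Function.Injective ρ := fun a b hab => mul_inv_eq_one.1 (hfaith _ (by
    rw [← hρ]
    show LinearMap.trace ℂ _ (ρ (a * b⁻¹)) = LinearMap.trace ℂ _ (ρ 1)
    rw [map_mul, hab, ← map_mul, mul_inv_cancel]))
  have hfr : Module.finrank ℂ (Fin n → ℂ) = 16 := by rw [Module.finrank_fin_fun, hn]
  have hsmall : p ≤ 33 := by
    by_contra h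
    exact hns (ns_of_lt_half ρ hinj (by omega))
  obtain ⟨Z, hZn, hZc, hZp, σ, hσirr, hσinj, hσρ, hσc, hσns⟩ :=
    exists_untwist ρ hirr hinj (p := p) (by omega)
  haveI := hZn
  set M := G ⧸ Z
  haveI := Fintype.ofFinite M
  have hnsM : ¬ NS p M := hσns hns
  have hsq : ¬ p ^ 2 ∣ Nat.card M := not_sq_dvd σ hσirr hσinj (by omega) hnsM hσc
  have hnn : ∀ H : Subgroup M, H.Normal → Nat.card H ≠ p := fun H hH hHc =>
    hnsM (ns_of_normal_prime hsq hH hHc)
  obtain ⟨x, hx⟩ := exists_orderOf_eq_of_not_ns hnsM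
  let χM : IrrCharacter M := ⟨σ.character, n, σ, hσirr, rfl⟩
  have hdegM : charDegree (χM : M → ℂ) = 16 := by
    rw [← hn]
    refine LinearTwist.charDegree_eq_of_apply_one ?_
    show σ.character 1 = _
    rw [Representation.char_one]
    simp
  have hfM : ∀ g : M, (χM : M → ℂ) g = (χM : M → ℂ) 1 → g = 1 := fun g hg => by
    change σ.character g = σ.character 1 at hg
    rw [Representation.char_one] at hg
    exact hσinj (by rw [(char_eq_degree_iff σ g).1 hg, map_one σ]; rfl)
  obtain ⟨D, e, -, -, h2e, hed, xm, -, -, hcase⟩ :=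
    local_structure hx hsq hnn χM hfM (by omega)
  rw [hdegM] at hcase
  have hp' := hp.out
  have h3 : p = 19 ∨ p = 31 := by
    interval_cases p
    all_goals first
      | omega
      | (norm_num at hp'; done)
      | (exfalso
         rcases hcase with ⟨h1, -⟩ | ⟨h1, -⟩
         · omega
         · rcases (show e = 7 ∨ e = 13 by omega) with rfl | rfl <;> omega)
  rcases h3 with rfl | rfl
  · exact (false_of_degree_sixteen_nineteen hx hsq hnn χM hfM hdegM).elim
  refine ⟨rfl, ?_⟩
  obtain ⟨E⟩ := P31.exists_psl hx hsq hnn χM hdegM hfM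
  have hcen : (Subgroup.center G).map (QuotientGroup.mk' Z) = Subgroup.center M := by
    refine le_antisymm ?_ ?_
    · rintro _ ⟨g, hg, rfl⟩
      rw [Subgroup.mem_center_iff]
      intro m
      obtain ⟨h, rfl⟩ := QuotientGroup.mk_surjective m
      show ((h * g : G) : M) = ((g * h : G) : M)
      rw [Subgroup.mem_center_iff.1 hg h]
    · intro m hm
      obtain ⟨g, rfl⟩ := QuotientGroup.mk_surjective m
      refine ⟨g, ?_, rfl⟩
      haveI := hσirr
      obtain ⟨s, hs⟩ := CfsgLib.CharScalar.center_scalar σ hm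
      obtain ⟨c, hc⟩ := hσρ g
      haveI := CfsgLib.CharScalar.nontrivial_of_irreducible σ
      have hc0 : c ≠ 0 := fun h0 => by
        have h1 : σ (g : M) * σ (g : M)⁻¹ = 1 := by rw [← map_mul, mul_inv_cancel, map_one]
        rw [hc, h0, zero_smul, zero_mul] at h1
        exact zero_ne_one h1
      have hscal : ρ g = (c⁻¹ * s) • (1 : Module.End ℂ (Fin n → ℂ)) := by
        rw [← smul_smul, ← hs, hc, smul_smul, inv_mul_cancel₀ hc0, one_smul]
      exact Subgroup.mem_center_iff.2 fun h => hinj (by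
        rw [map_mul, map_mul, hscal, mul_smul_comm, smul_mul_assoc, one_mul, mul_one])
  exact ⟨((QuotientGroup.quotientQuotientEquivQuotient Z (Subgroup.center G) hZc).symm.trans
    (QuotientGroup.quotientMulEquivOfEq hcen)).trans E⟩

end CfsgLib.LinSmall
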